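import Mathlib
import Cfsg.Agent.H84.Psl3Stmt
import Cfsg.Agent.Lib.Helper20.QD

/-!
# S5318, piece QA: a quasi-dihedral group has no nontrivial automorphism of odd order
-/

set_option autoImplicit false

namespace Cfsg.Agent.Lib.Helper65.Psl3QA

open Cfsg Cfsg.Agent.Lib.Helper20.ZP Cfsg.Agent.Lib.Helper20.QD

universe u

/-- an element of odd order in the unit group of `ZMod (2 ^ n)` is trivial -/
theorem zmod_odd_pow {n : ℕ} (j : ZMod (2 ^ n)) (m : ℕ) (hm : Odd m) (h : j ^ m = 1) : j = 1 := by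
  have hm0 : m ≠ 0 := by
    rintro rfl
    exact (Nat.not_odd_iff_even.2 (by decide)) hm
  set v : (ZMod (2 ^ n))ˣ := Units.ofPowEqOne j m h hm0 with hv
  have h1 : v ^ m = 1 := Units.pow_ofPowEqOne h hm0
  have h2 : v ^ Nat.totient (2 ^ n) = 1 := ZMod.pow_totient v
  have h3 : orderOf v ∣ m := orderOf_dvd_of_pow_eq_one h1
  have h4 : orderOf v ∣ Nat.totient (2 ^ n) := orderOf_dvd_of_pow_eq_one h2
  have h5 : Nat.Coprime m (Nat.totient (2 ^ n)) := by
    rcases Nat.eq_zero_or_pos n with hn | hn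
    · subst hn
      simp
    · rw [Nat.totient_prime_pow Nat.prime_two hn]
      simp only [Nat.add_one_sub_one, mul_one]
      exact Nat.Coprime.pow_right _ (Nat.coprime_two_right.2 hm)
  have h6 : orderOf v = 1 := Nat.eq_one_of_dvd_coprimes h5 h3 h4
  have h7 : v = 1 := orderOf_eq_one_iff.mp h6
  have h8 : (v : ZMod (2 ^ n)) = j := rfl
  rw [← h8, h7, Units.val_one]

theorem zmod_odd_mul {n : ℕ} (i : ZMod (2 ^ n)) (m : ℕ) (hm : Odd m)
    (h : (m : ZMod (2 ^ n)) * i = 0) : i = 0 := by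
  have hc : Nat.Coprime m (2 ^ n) := Nat.Coprime.pow_right _ (Nat.coprime_two_right.2 hm)
  have hu : IsUnit (m : ZMod (2 ^ n)) := (ZMod.isUnit_iff_coprime m (2 ^ n)).mpr hc
  exact (hu.mul_right_eq_zero).mp h

theorem main : Cfsg.Agent.H84.Psl3Stmt.QdAut.{u} := by
  intro S _ hS α hα
  obtain ⟨n, x, y, h⟩ := exists_isQD hS
  have hn := h.hn
  have : NeZero (2 ^ n) := ⟨by positivity⟩
  set m := orderOf α with hm
  have hαm : α ^ m = 1 := pow_orderOf_eq_one α
  have hXone : X x n 1 = x := zp_one h.hx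
  -- `α x` is a power of `x`
  obtain ⟨j, hj⟩ : ∃ j : ZMod (2 ^ n), α x = X x n j := by
    obtain ⟨i, hi | hi⟩ := normal_form h (α x)
    · exact ⟨i, hi⟩
    · exfalso
      have ho : orderOf (α x) = 2 ^ n := by
        rw [MulEquiv.orderOf_eq]
        exact h.hx
      have h8 : 8 ≤ 2 ^ n := by
        calc 8 = 2 ^ 3 := by norm_num
          _ ≤ 2 ^ n := Nat.pow_le_pow_right (by norm_num) hn
      obtain ⟨k, hk | hk⟩ := even_or_odd i
      · rw [hi, hk, orderOf_Xy_even h] at ho
        omega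
      · rw [hi, hk, orderOf_Xy_odd h] at ho
        omega
  -- `α` on powers of `x`
  have hαX : ∀ i : ZMod (2 ^ n), α (X x n i) = X x n (i * j) := by
    intro i
    show α (x ^ i.val) = _
    rw [map_pow, hj, zp_pow h.hx, ZMod.natCast_zmod_val]
  have hpow : ∀ k : ℕ, (α ^ k) x = X x n (j ^ k) := by
    intro k
    induction k with
    | zero => rw [pow_zero, pow_zero, MulAut.one_apply, hXone]
    | succ k ih =>
      rw [pow_succ', MulAut.mul_apply, ih, hαX, pow_succ]
  have hj1 : j = 1 := by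
    apply zmod_odd_pow j m hα
    have h1 := hpow m
    rw [hαm, MulAut.one_apply] at h1
    have h2 : X x n 1 = X x n (j ^ m) := by rw [hXone]; exact h1
    exact ((X_inj h).mp h2).symm
  have hαX' : ∀ i : ZMod (2 ^ n), α (X x n i) = X x n i := by
    intro i
    rw [hαX, hj1, mul_one]
  -- `α y`
  obtain ⟨i, hi⟩ : ∃ i : ZMod (2 ^ n), α y = X x n i * y := by
    obtain ⟨i, hi | hi⟩ := normal_form h (α y)
    · exfalso
      have h1 : α y = α (X x n i) := by rw [hαX', hi]
      exact y_ne_X h i (α.injective h1)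
    · exact ⟨i, hi⟩
  have hpowy : ∀ k : ℕ, (α ^ k) y = X x n ((k : ZMod (2 ^ n)) * i) * y := by
    intro k
    induction k with
    | zero =>
      rw [pow_zero, MulAut.one_apply, Nat.cast_zero, zero_mul, X_zero, one_mul]
    | succ k ih =>
      rw [pow_succ', MulAut.mul_apply, ih, map_mul, hαX', hi, X_mul_Xy h]
      congr 2
      push_cast
      ring
  have hi0 : i = 0 := by
    apply zmod_odd_mul i m hα
    have h1 := hpowy m
    rw [hαm, MulAut.one_apply] at h1
    have h2 : X x n ((m : ZMod (2 ^ n)) * i) = 1 := by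
      have h3 : X x n ((m : ZMod (2 ^ n)) * i) * y = 1 * y := by rw [one_mul]; exact h1.symm
      exact mul_right_cancel h3
    exact (X_eq_one h).mp h2
  have hαy : α y = y := by rw [hi, hi0, X_zero, one_mul]
  apply MulEquiv.ext
  intro s
  rw [MulAut.one_apply]
  obtain ⟨i, hs | hs⟩ := normal_form h s
  · rw [hs, hαX']
  · rw [hs, map_mul, hαX', hαy]

end Cfsg.Agent.Lib.Helper65.Psl3QA
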