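import Mathlib
import Cfsg.Agent.H84.Psl3Stmt
import Cfsg.Agent.Lib.Helper20.WR2
import Cfsg.Agent.Lib.Helper65.Psl3QA

/-!
# S5318, piece WA: a wreathed group has no nontrivial automorphism of odd order
-/

set_option autoImplicit false

namespace Cfsg.Agent.Lib.Helper65.Psl3WA

open Cfsg Cfsg.Agent.Lib.Helper20.ZP Cfsg.Agent.Lib.Helper20.QD Cfsg.Agent.Lib.Helper20.WR
  Cfsg.Agent.Lib.Helper20.WR2 Cfsg.Agent.Lib.Helper65.Psl3QA

universe u

variable {S : Type u} [Group S] {n : ℕ} {x y z : S}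

theorem two_ne_zero' (h : IsWR n x y z) : (1 + 1 : ZMod (2 ^ n)) ≠ 0 := by
  intro h2
  apply hh_ne h
  have h3 := two_mul_qq (n := n) h.hn
  have h4 : hh n = (1 + 1) * qq n := by rw [← h3]; ring
  rw [h4, h2, zero_mul]

theorem A_pow (h : IsWR n x y z) (a b : ZMod (2 ^ n)) (k : ℕ) :
    (A x y n a b) ^ k = A x y n (k * a) (k * b) := by
  induction k with
  | zero => rw [pow_zero, Nat.cast_zero, zero_mul, zero_mul, A_zero]
  | succ k ih =>
    rw [pow_succ, ih, A_mul h]
    congr 1 <;> (push_cast; ring)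

theorem A_one_zero (h : IsWR n x y z) : A x y n 1 0 = x := by
  have : NeZero (2 ^ n) := ⟨by positivity⟩
  show zp x (2 ^ n) 1 * zp y (2 ^ n) 0 = x
  rw [zp_one h.hx, zp_zero, mul_one]

theorem A_zero_one (h : IsWR n x y z) : A x y n 0 1 = y := by
  have : NeZero (2 ^ n) := ⟨by positivity⟩
  show zp x (2 ^ n) 0 * zp y (2 ^ n) 1 = y
  rw [zp_one (hy h), zp_zero, one_mul]

/-- the base group is the centralizer of the squares -/
theorem base_iff (h : IsWR n x y z) (s : S) :
    (∀ t : S, s * t ^ 2 = t ^ 2 * s) ↔ ∃ i j : ZMod (2 ^ n), s = A x y n i j := by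
  constructor
  · intro hs
    obtain ⟨i, j, hij | hij⟩ := normal_form h s
    · exact ⟨i, j, hij⟩
    · exfalso
      have h1 := hs (A x y n 1 0)
      rw [hij, A_sq h, Az_mul_A h, A_mul_Az h, Az_inj h] at h1
      apply two_ne_zero' h
      have h2 := h1.1
      have h3 : (2 : ZMod (2 ^ n)) * 1 = 0 := by
        have : i + 2 * 0 = 2 * 1 + i := h2
        linear_combination -this
      rw [mul_one] at h3
      rw [← h3]
      ring
  · rintro ⟨i, j, rfl⟩ t
    obtain ⟨k, l, hkl | hkl⟩ := normal_form h t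
    · rw [hkl, A_sq h, A_mul h, A_mul h, add_comm i, add_comm j]
    · rw [hkl, Az_sq h, A_mul h, A_mul h, add_comm i, add_comm j]

theorem main : Cfsg.Agent.H84.Psl3Stmt.WrAut.{u} := by
  intro S _ hS α hα
  obtain ⟨n, x, y, z, h⟩ := exists_isWR hS
  have hn := h.hn
  have hNZ : NeZero (2 ^ n) := ⟨by positivity⟩
  set m := orderOf α with hm
  have hαm : α ^ m = 1 := pow_orderOf_eq_one α
  -- `α` preserves the base group
  have hbase : ∀ s : S, (∃ i j : ZMod (2 ^ n), s = A x y n i j) →
      ∃ i j : ZMod (2 ^ n), α s = A x y n i j := by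
    intro s hs
    rw [← base_iff h] at hs ⊢
    intro t
    have h1 := hs (α.symm t)
    have h2 := congrArg α h1
    rw [map_mul, map_mul, map_pow, MulEquiv.apply_symm_apply] at h2
    exact h2
  obtain ⟨a, b, hab⟩ := hbase x ⟨1, 0, (A_one_zero h).symm⟩
  -- `α z`
  have hxy : x ≠ y := by
    intro hxy
    have h1 : A x y n 1 0 = A x y n 0 1 := by rw [A_one_zero h, A_zero_one h]; exact hxy
    exact one_ne_zero' h ((A_inj h).mp h1).1
  have hrel : α y = α z * α x * (α z)⁻¹ := by
    rw [← map_inv, ← map_mul, ← map_mul, h.rel]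
  obtain ⟨e, f, hef⟩ : ∃ e f : ZMod (2 ^ n), α z = A x y n e f * z := by
    obtain ⟨e, f, hef | hef⟩ := normal_form h (α z)
    · exfalso
      have h1 : α y = α x := by
        rw [hrel, hef, hab, A_inv h, A_mul h, A_mul h]
        congr 1 <;> ring
      exact hxy (α.injective h1).symm
    · exact ⟨e, f, hef⟩
  have hαy : α y = A x y n b a := by
    rw [hrel, hef, hab, Az_inv h, Az_mul_A h, Az_mul_Az h]
    congr 1 <;> ring
  -- `α` on the base group
  have hαA : ∀ i j : ZMod (2 ^ n), α (A x y n i j) = A x y n (i * a + j * b) (i * b + j * a) := by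
    intro i j
    show α (x ^ i.val * y ^ j.val) = _
    rw [map_mul, map_pow, map_pow, hab, hαy, A_pow h, A_pow h, A_mul h, ZMod.natCast_zmod_val,
      ZMod.natCast_zmod_val]
  -- the two characters
  have hchar : ∀ k : ℕ, ∃ p q : ZMod (2 ^ n), (α ^ k) x = A x y n p q ∧
      p + q = (a + b) ^ k ∧ p - q = (a - b) ^ k := by
    intro k
    induction k with
    | zero =>
      refine ⟨1, 0, ?_, ?_, ?_⟩
      · rw [pow_zero, MulAut.one_apply, A_one_zero h]
      · rw [pow_zero, add_zero]
      · rw [pow_zero, sub_zero]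
    | succ k ih =>
      obtain ⟨p, q, h1, h2, h3⟩ := ih
      refine ⟨p * a + q * b, p * b + q * a, ?_, ?_, ?_⟩
      · rw [pow_succ', MulAut.mul_apply, h1, hαA]
      · rw [pow_succ, ← h2]; ring
      · rw [pow_succ, ← h3]; ring
  obtain ⟨p, q, h1, h2, h3⟩ := hchar m
  have h1' : A x y n 1 0 = A x y n p q := by
    rw [A_one_zero h]
    rw [hαm, MulAut.one_apply] at h1
    exact h1
  rw [A_inj h] at h1'
  rw [← h1'.1, ← h1'.2, add_zero] at h2
  rw [← h1'.1, ← h1'.2, sub_zero] at h3
  have hs1 : a + b = 1 := zmod_odd_pow _ m hα h2.symm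
  have hs2 : a - b = 1 := zmod_odd_pow _ m hα h3.symm
  have hb2 : b + b = 0 := by linear_combination hs1 - hs2
  have ha1 : a = 1 + b := by linear_combination hs2
  -- `α ^ 2` fixes `x`
  have hsq : α (α x) = x := by
    have h4 : A x y n (a * a + b * b) (a * b + b * a) = A x y n 1 0 := by
      rw [A_inj h]
      constructor
      · rw [ha1]
        linear_combination (1 + b) * hb2
      · rw [ha1]
        linear_combination (1 + b) * hb2
    rw [hab, hαA, h4, A_one_zero h]
  have hpow2 : ∀ k : ℕ, (α ^ (2 * k)) x = x := by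
    intro k
    induction k with
    | zero => rw [mul_zero, pow_zero, MulAut.one_apply]
    | succ k ih =>
      have e : 2 * (k + 1) = 2 * k + 1 + 1 := by ring
      rw [e, pow_succ', pow_succ', MulAut.mul_apply, MulAut.mul_apply, ih, hsq]
  have hαx : α x = x := by
    obtain ⟨k, hk⟩ := hα
    have h4 : (α ^ m) x = α x := by
      rw [hk, pow_succ', MulAut.mul_apply, hpow2]
    rw [hαm, MulAut.one_apply] at h4
    exact h4.symm
  have hab' : a = 1 ∧ b = 0 := by
    have h4 : A x y n a b = A x y n 1 0 := by rw [A_one_zero h, ← hab, hαx]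
    exact (A_inj h).mp h4
  have hαA' : ∀ i j : ZMod (2 ^ n), α (A x y n i j) = A x y n i j := by
    intro i j
    rw [hαA, hab'.1, hab'.2]
    congr 1 <;> ring
  -- `α z = z`
  have hpowz : ∀ k : ℕ, (α ^ k) z =
      A x y n ((k : ZMod (2 ^ n)) * e) ((k : ZMod (2 ^ n)) * f) * z := by
    intro k
    induction k with
    | zero =>
      rw [pow_zero, MulAut.one_apply, Nat.cast_zero, zero_mul, zero_mul, A_zero, one_mul]
    | succ k ih =>
      rw [pow_succ', MulAut.mul_apply, ih, map_mul, hαA', hef, A_mul_Az h]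
      congr 2 <;> (push_cast; ring)
  have hef0 : e = 0 ∧ f = 0 := by
    have h4 := hpowz m
    rw [hαm, MulAut.one_apply] at h4
    have h5 : A x y n ((m : ZMod (2 ^ n)) * e) ((m : ZMod (2 ^ n)) * f) = 1 := by
      have h6 : A x y n ((m : ZMod (2 ^ n)) * e) ((m : ZMod (2 ^ n)) * f) * z = 1 * z := by
        rw [one_mul]; exact h4.symm
      exact mul_right_cancel h6
    obtain ⟨h7, h8⟩ := (A_eq_one h).mp h5
    exact ⟨zmod_odd_mul e m hα h7, zmod_odd_mul f m hα h8⟩
  have hαz : α z = z := by rw [hef, hef0.1, hef0.2, A_zero, one_mul]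
  apply MulEquiv.ext
  intro s
  rw [MulAut.one_apply]
  obtain ⟨i, j, hs | hs⟩ := normal_form h s
  · rw [hs, hαA']
  · rw [hs, map_mul, hαA', hαz]

end Cfsg.Agent.Lib.Helper65.Psl3WA
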