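import Mathlib

set_option autoImplicit false

namespace Cfsg.Agent.Lib.Helper65.NilCoprime

/-- In a nilpotent group, elements of coprime finite orders commute. -/
theorem commute_of_coprime (G : Type*) [Group G] [Group.IsNilpotent G] :
    ∀ x y : G, IsOfFinOrder x → IsOfFinOrder y → (orderOf x).Coprime (orderOf y) →
      x * y = y * x := by
  refine Group.nilpotent_center_quotient_ind
    (P := fun (G : Type _) [Group G] [Group.IsNilpotent G] =>
      ∀ x y : G, IsOfFinOrder x → IsOfFinOrder y → (orderOf x).Coprime (orderOf y) →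
        x * y = y * x) G ?_ ?_
  · intro G _ _ x y _ _ _; exact Subsingleton.elim _ _
  · intro G _ _ ih x y hx hy hcop
    have h1 := ih (QuotientGroup.mk' (Subgroup.center G) x) (QuotientGroup.mk' (Subgroup.center G) y)
      (MonoidHom.isOfFinOrder _ hx) (MonoidHom.isOfFinOrder _ hy)
      (Nat.Coprime.coprime_dvd_left (orderOf_map_dvd _ x)
        (Nat.Coprime.coprime_dvd_right (orderOf_map_dvd _ y) hcop))
    have hc : x * y * x⁻¹ * y⁻¹ ∈ Subgroup.center G := by
      rw [← QuotientGroup.eq_one_iff, ← QuotientGroup.mk'_apply]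
      simp only [map_mul, map_inv]
      rw [h1]
      group
    set c := x * y * x⁻¹ * y⁻¹ with hcdef
    have hcomm : ∀ g : G, g * c = c * g := fun g => Subgroup.mem_center_iff.mp hc g
    -- c ^ orderOf y = 1
    have e1 : c ^ orderOf y = 1 := by
      have h2 : c * y = x * y * x⁻¹ := by rw [hcdef]; group
      have h3 : (c * y) ^ orderOf y = c ^ orderOf y * y ^ orderOf y :=
        (show Commute c y from (hcomm y).symm).mul_pow _
      rw [h2, conj_pow, pow_orderOf_eq_one] at h3
      simpa using h3.symm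
    have e2 : c ^ orderOf x = 1 := by
      have h2 : c⁻¹ * x = y * x * y⁻¹ := by rw [hcdef]; group
      have hci : Commute c⁻¹ x := (show Commute c x from (hcomm x).symm).inv_left
      have h3 : (c⁻¹ * x) ^ orderOf x = c⁻¹ ^ orderOf x * x ^ orderOf x := hci.mul_pow _
      rw [h2, conj_pow, pow_orderOf_eq_one] at h3
      have h4 : c⁻¹ ^ orderOf x = 1 := by simpa using h3.symm
      rw [inv_pow, inv_eq_one] at h4
      exact h4
    have e3 : orderOf c ∣ 1 := by
      rw [← Nat.Coprime.gcd_eq_one hcop]
      exact Nat.dvd_gcd (orderOf_dvd_of_pow_eq_one e2) (orderOf_dvd_of_pow_eq_one e1)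
    have e4 : c = 1 := orderOf_eq_one_iff.mp (Nat.dvd_one.mp e3)
    have e5 : x * y * x⁻¹ * y⁻¹ = 1 := e4
    calc x * y = (x * y * x⁻¹ * y⁻¹) * (y * x) := by group
      _ = y * x := by rw [e5, one_mul]

/-- If every element commuting with `g` has odd order, every nilpotent subgroup containing `g`
consists of elements of odd order. -/
theorem odd_order_of_nilpotent {G : Type*} [Group G] [Finite G] (g : G)
    (hodd : ∀ x : G, x * g = g * x → Odd (orderOf x)) (A : Subgroup G)
    (hA : Group.IsNilpotent A) (hg : g ∈ A) : ∀ x ∈ A, Odd (orderOf x) := by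
  intro x hx
  by_contra hnot
  rw [Nat.not_odd_iff_even] at hnot
  obtain ⟨k, hk⟩ := hnot
  have hpos : 0 < orderOf x := orderOf_pos x
  have hk0 : k ≠ 0 := by rintro rfl; omega
  have hs : orderOf (x ^ k) = 2 := by
    have h2k : k + k = 2 * k := by ring
    rw [orderOf_pow' x hk0, hk, h2k, Nat.gcd_mul_left_left,
      Nat.mul_div_cancel _ (Nat.pos_of_ne_zero hk0)]
  have hgodd : Odd (orderOf g) := hodd g rfl
  have hcop : (orderOf (⟨x ^ k, A.pow_mem hx k⟩ : A)).Coprime (orderOf (⟨g, hg⟩ : A)) := by
    rw [Subgroup.orderOf_mk, Subgroup.orderOf_mk, hs]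
    exact Nat.coprime_two_left.mpr hgodd
  have hcomm := commute_of_coprime A (⟨x ^ k, A.pow_mem hx k⟩ : A) (⟨g, hg⟩ : A)
    (isOfFinOrder_of_finite _) (isOfFinOrder_of_finite _) hcop
  have hcomm' : x ^ k * g = g * x ^ k := by simpa using congrArg Subtype.val hcomm
  have := hodd (x ^ k) hcomm'
  rw [hs] at this
  exact absurd this (by decide)

end Cfsg.Agent.Lib.Helper65.NilCoprime
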