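import Mathlib
import Cfsg.Agent.Lib.Helper42.ReeSpStmt

/-! S1159, piece CT2: the number of nonidentity elements of odd order conjugate into `C(A)`. -/

set_option autoImplicit false

namespace Cfsg.Agent.Lib.Helper65.ReeSpCT2

open Cfsg.Agent.Lib.Helper42.ReeSpStmt

universe u v

theorem qq_mod4 (m : ℕ) : qq m % 4 = 3 := by
  show 3 ^ (2 * m + 1) % 4 = 3
  rw [pow_succ, pow_mul, Nat.mul_mod, Nat.pow_mod]
  norm_num

/-- CT2, by fibre counting: the map `(g, a) ↦ g a g⁻¹` from `G × A#` onto the set `T2` has all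
fibres in bijection with `N(A)`; written as an explicit bijection `T2 × N(A) ≃ G × A#`. -/
theorem main : CT2.{u, v} := by
  intro G _ _ U H A K _ _ m hax hNA
  classical
  unfold CT2C
  unfold NAC at hNA
  have hq4 := qq_mod4 m
  obtain ⟨k', hk'⟩ : ∃ k', qq m = 4 * k' + 3 := ⟨qq m / 4, by omega⟩
  have hcardA : Nat.card A = k' + 1 := by rw [hax.cardA, hk']; omega
  have hcardCA : Nat.card ↥(Subgroup.centralizer (A : Set G)) = 4 * (k' + 1) := by
    rw [hax.cardCA, hk']; ring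
  have hAodd : Odd (Nat.card A) := by
    rw [hax.cardA]
    have h8 : qq m % 8 = 3 := by
      show 3 ^ (2 * m + 1) % 8 = 3
      rw [pow_succ, pow_mul, Nat.mul_mod, Nat.pow_mod]
      norm_num
    rw [Nat.odd_iff]
    omega
  have hcyc : IsCyclic A := hax.cycA
  -- `A ≤ C(A)`
  have hAC : A ≤ Subgroup.centralizer (A : Set G) := by
    intro a ha
    rw [Subgroup.mem_centralizer_iff]
    intro b hb
    have := mul_comm' (⟨b, hb⟩ : A) ⟨a, ha⟩
    exact congrArg Subtype.val this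
  -- odd order elements of `A`
  have hodd_of_mem : ∀ b ∈ A, Odd (orderOf b) := fun b hb =>
    Odd.of_dvd_nat hAodd (Subgroup.orderOf_dvd_natCard A hb)
  -- elements of odd order of `C(A)` lie in `A`
  have hCA : ∀ c ∈ Subgroup.centralizer (A : Set G), Odd (orderOf c) → c ∈ A := by
    intro c hc hodd
    have hnorm : (A.subgroupOf (Subgroup.centralizer (A : Set G))).Normal := by
      refine ⟨fun n hn g => ?_⟩
      have e : g * n * g⁻¹ = n := by
        apply Subtype.ext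
        show (g : G) * (n : G) * (g : G)⁻¹ = (n : G)
        rw [hax.commCA g g.2 n n.2, mul_inv_cancel_right]
      rw [e]; exact hn
    have hidx : (A.subgroupOf (Subgroup.centralizer (A : Set G))).index = 4 := by
      have h1 := Subgroup.card_mul_index (A.subgroupOf (Subgroup.centralizer (A : Set G)))
      have h2 : Nat.card (A.subgroupOf (Subgroup.centralizer (A : Set G))) = Nat.card A :=
        Nat.card_congr (Subgroup.subgroupOfEquivOfLe hAC).toEquiv
      rw [h2, hcardA, hcardCA] at h1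
      have hpos : 0 < k' + 1 := Nat.succ_pos _
      exact Nat.eq_of_mul_eq_mul_left hpos (by rw [h1]; ring)
    have h4 : c ^ 4 ∈ A := by
      have := Subgroup.pow_index_mem (A.subgroupOf (Subgroup.centralizer (A : Set G)))
        (⟨c, hc⟩ : Subgroup.centralizer (A : Set G))
      rw [hidx] at this
      exact Subgroup.mem_subgroupOf.mp this
    obtain ⟨t, ht⟩ := hodd
    have hpow : c ^ (2 * t + 1) = 1 := by rw [← ht]; exact pow_orderOf_eq_one c
    rcases Nat.even_or_odd' t with ⟨s, rfl | rfl⟩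
    · -- order `4 s + 1`
      have h5 : (c ^ 4) ^ s * c = 1 := by
        rw [← pow_mul, ← pow_succ]
        have : 4 * s + 1 = 2 * (2 * s) + 1 := by ring
        rw [this]; exact hpow
      have h6 : c = ((c ^ 4) ^ s)⁻¹ := by
        rw [eq_inv_iff_mul_eq_one, mul_comm_of_pow c s]
        exact h5
      rw [h6]
      exact A.inv_mem (A.pow_mem h4 s)
    · -- order `4 s + 3`
      have h5 : (c ^ 4) ^ (s + 1) = c := by
        rw [← pow_mul]
        have : 4 * (s + 1) = (2 * (2 * s + 1) + 1) + 1 := by ring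
        rw [this, pow_succ, hpow, one_mul]
      rw [← h5]
      exact A.pow_mem h4 (s + 1)
  -- conjugation preserves orders
  have hord : ∀ n b : G, orderOf (n * b * n⁻¹) = orderOf b := fun n b =>
    orderOf_injective (MulAut.conj n).toMonoidHom (MulAut.conj n).injective b
  -- the TI property of `A`
  have hTI : ∀ n a₀ : G, a₀ ∈ A → a₀ ≠ 1 → n * a₀ * n⁻¹ ∈ A → ∀ b ∈ A, n * b * n⁻¹ ∈ A := by
    intro n a₀ ha₀ hne ha b hb
    have hne' : n * a₀ * n⁻¹ ≠ 1 := by
      intro h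
      apply hne
      have : a₀ = n⁻¹ * (n * a₀ * n⁻¹) * n := by group
      rw [this, h]; group
    apply hCA
    · rw [← hax.centA _ ha hne', Subgroup.mem_centralizer_iff]
      intro y hy
      rw [Set.mem_singleton_iff] at hy
      subst hy
      have hcomm : a₀ * b = b * a₀ := by
        have := mul_comm' (⟨a₀, ha₀⟩ : A) ⟨b, hb⟩
        exact congrArg Subtype.val this
      calc n * a₀ * n⁻¹ * (n * b * n⁻¹) = n * (a₀ * b) * n⁻¹ := by group
        _ = n * (b * a₀) * n⁻¹ := by rw [hcomm]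
        _ = n * b * n⁻¹ * (n * a₀ * n⁻¹) := by group
    · rw [hord]; exact hodd_of_mem b hb
  have hNorm : ∀ n a₀ : G, a₀ ∈ A → a₀ ≠ 1 → n * a₀ * n⁻¹ ∈ A →
      n ∈ Subgroup.normalizer (A : Set G) := by
    intro n a₀ ha₀ hne ha
    have hne' : n * a₀ * n⁻¹ ≠ 1 := by
      intro h
      apply hne
      have : a₀ = n⁻¹ * (n * a₀ * n⁻¹) * n := by group
      rw [this, h]; group
    rw [Subgroup.mem_normalizer_iff]
    intro b
    constructor
    · exact hTI n a₀ ha₀ hne ha b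
    · intro hb
      have h1 : n⁻¹ * (n * a₀ * n⁻¹) * n⁻¹⁻¹ ∈ A := by
        have : n⁻¹ * (n * a₀ * n⁻¹) * n⁻¹⁻¹ = a₀ := by group
        rw [this]; exact ha₀
      have h2 := hTI n⁻¹ (n * a₀ * n⁻¹) ha hne' h1 _ hb
      have : n⁻¹ * (n * b * n⁻¹) * n⁻¹⁻¹ = b := by group
      rwa [this] at h2
  -- representatives
  have hrep : ∀ t : G, ∃ p : G × G, T2 G A t →
      (p.2 ∈ A ∧ p.2 ≠ 1 ∧ p.1 * p.2 * p.1⁻¹ = t) := by
    intro t
    by_cases ht : T2 G A t
    · obtain ⟨hne, hodd, x, hx⟩ := ht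
      refine ⟨(x⁻¹, x * t * x⁻¹), fun _ => ⟨hCA _ hx (by rw [hord]; exact hodd), ?_, by group⟩⟩
      intro h
      have h' : x * t * x⁻¹ = 1 := h
      apply hne
      have : t = x⁻¹ * (x * t * x⁻¹) * x := by group
      rw [this, h']; group
    · exact ⟨(1, 1), fun h => absurd h ht⟩
  choose f hf using hrep
  have hT : ∀ (g a : G), a ∈ A → a ≠ 1 → T2 G A (g * a * g⁻¹) := by
    intro g a ha hne
    refine ⟨?_, by rw [hord]; exact hodd_of_mem a ha, g⁻¹, ?_⟩
    · intro h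
      apply hne
      have : a = g⁻¹ * (g * a * g⁻¹) * g := by group
      rw [this, h]; group
    · have : g⁻¹ * (g * a * g⁻¹) * g⁻¹⁻¹ = a := by group
      rw [this]; exact hAC ha
  -- the bijection
  let e : {t : G // T2 G A t} × ↥(Subgroup.normalizer (A : Set G)) ≃
      G × {a : G // a ∈ A ∧ a ≠ 1} :=
    { toFun := fun x => ((f x.1.1).1 * (x.2 : G)⁻¹,
        ⟨(x.2 : G) * (f x.1.1).2 * (x.2 : G)⁻¹, by
          obtain ⟨h1, h2, h3⟩ := hf x.1.1 x.1.2
          refine ⟨(Subgroup.mem_normalizer_iff.mp x.2.2 _).mp h1, ?_⟩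
          intro h
          apply h2
          have : (f x.1.1).2 = (x.2 : G)⁻¹ * ((x.2 : G) * (f x.1.1).2 * (x.2 : G)⁻¹) * (x.2 : G) := by
            group
          rw [this, h]; group⟩)
      invFun := fun y => (⟨y.1 * y.2.1 * y.1⁻¹, hT y.1 y.2.1 y.2.2.1 y.2.2.2⟩,
        ⟨y.1⁻¹ * (f (y.1 * y.2.1 * y.1⁻¹)).1, by
          obtain ⟨h1, h2, h3⟩ := hf _ (hT y.1 y.2.1 y.2.2.1 y.2.2.2)
          apply hNorm _ _ h1 h2
          have : y.1⁻¹ * (f (y.1 * y.2.1 * y.1⁻¹)).1 * (f (y.1 * y.2.1 * y.1⁻¹)).2 *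
              (y.1⁻¹ * (f (y.1 * y.2.1 * y.1⁻¹)).1)⁻¹ =
              y.1⁻¹ * ((f (y.1 * y.2.1 * y.1⁻¹)).1 * (f (y.1 * y.2.1 * y.1⁻¹)).2 *
                (f (y.1 * y.2.1 * y.1⁻¹)).1⁻¹) * y.1 := by group
          rw [this, h3]
          have : y.1⁻¹ * (y.1 * y.2.1 * y.1⁻¹) * y.1 = y.2.1 := by group
          rw [this]; exact y.2.2.1⟩)
      left_inv := by
        rintro ⟨⟨t, ht⟩, ⟨n, hn⟩⟩
        obtain ⟨h1, h2, h3⟩ := hf t ht
        have e1 : (f t).1 * n⁻¹ * (n * (f t).2 * n⁻¹) * ((f t).1 * n⁻¹)⁻¹ = t := by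
          have e0 : (f t).1 * n⁻¹ * (n * (f t).2 * n⁻¹) * ((f t).1 * n⁻¹)⁻¹
              = (f t).1 * (f t).2 * (f t).1⁻¹ := by group
          exact e0.trans h3
        apply Prod.ext
        · apply Subtype.ext
          exact e1
        · apply Subtype.ext
          show ((f t).1 * n⁻¹)⁻¹ * (f ((f t).1 * n⁻¹ * (n * (f t).2 * n⁻¹) * ((f t).1 * n⁻¹)⁻¹)).1 = n
          rw [e1]; group
      right_inv := by
        rintro ⟨g, ⟨a, ha, hne⟩⟩
        obtain ⟨h1, h2, h3⟩ := hf _ (hT g a ha hne)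
        apply Prod.ext
        · show (f (g * a * g⁻¹)).1 * (g⁻¹ * (f (g * a * g⁻¹)).1)⁻¹ = g
          group
        · apply Subtype.ext
          show g⁻¹ * (f (g * a * g⁻¹)).1 * (f (g * a * g⁻¹)).2 * (g⁻¹ * (f (g * a * g⁻¹)).1)⁻¹ = a
          have : g⁻¹ * (f (g * a * g⁻¹)).1 * (f (g * a * g⁻¹)).2 * (g⁻¹ * (f (g * a * g⁻¹)).1)⁻¹
              = g⁻¹ * ((f (g * a * g⁻¹)).1 * (f (g * a * g⁻¹)).2 * (f (g * a * g⁻¹)).1⁻¹) * g := by
            group
          rw [this, h3]; group }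
  have hcard := Nat.card_congr e
  rw [Nat.card_prod, Nat.card_prod, hNA, hax.card] at hcard
  have hA1 : Nat.card {a : G // a ∈ A ∧ a ≠ 1} = k' := by
    have h1 : Nat.card {a : G // a ∈ A ∧ a ≠ 1} = ((A : Set G) \ {1}).ncard := by
      rw [← Nat.card_coe_set_eq]
      rfl
    rw [h1, Set.ncard_sdiff_singleton_of_mem (show (1 : G) ∈ (A : Set G) from A.one_mem)]
    have h2 : (A : Set G).ncard = Nat.card A := by
      rw [← Nat.card_coe_set_eq]
      rfl
    rw [h2, hcardA]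
    rfl
  rw [hA1, hk'] at hcard
  rw [hk']
  have e0 : 4 * k' + 3 - 3 = 4 * k' := by omega
  have e1 : 4 * k' + 3 - 1 = 4 * k' + 2 := by omega
  have e2 : (4 * k' + 3) ^ 2 - (4 * k' + 3) + 1 = 16 * k' ^ 2 + 20 * k' + 7 := by
    have : (4 * k' + 3) ^ 2 - (4 * k' + 3) = 16 * k' ^ 2 + 20 * k' + 6 := by
      apply Nat.sub_eq_of_eq_add; ring
    rw [this]
  rw [e0, e1, e2]
  rw [e1] at hcard
  have hpos : 0 < k' + 1 := Nat.succ_pos _
  apply Nat.eq_of_mul_eq_mul_left hpos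
  have e3 : (4 * k' + 3) ^ 3 + 1 = 4 * (k' + 1) * (16 * k' ^ 2 + 20 * k' + 7) := by ring
  rw [e3] at hcard
  calc (k' + 1) * (24 * Nat.card {g : G // T2 G A g})
      = Nat.card {g : G // T2 G A g} * (6 * (4 * k' + 3 + 1)) := by ring
    _ = (4 * k' + 3) ^ 3 * (4 * k' + 2) * (4 * (k' + 1) * (16 * k' ^ 2 + 20 * k' + 7)) * k' := hcard
    _ = (k' + 1) * (4 * k' * (4 * k' + 3) ^ 3 * (4 * k' + 2) * (16 * k' ^ 2 + 20 * k' + 7)) := by
      ring
where
  mul_comm_of_pow {G : Type u} [Group G] (c : G) (s : ℕ) : c * (c ^ 4) ^ s = (c ^ 4) ^ s * c := by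
    rw [← pow_mul, ← pow_succ, ← pow_succ']

end Cfsg.Agent.Lib.Helper65.ReeSpCT2
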