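import Mathlib
import Cfsg.Agent.Lib.Helper57.FTStmt

/-!
# S3999 / CNT (call by helper57)

The map `K × {c : C // orderOf c = d} → {x : X // orderOf x = d}`, `(k, c) ↦ k * c * k⁻¹`, is a
bijection.
-/

set_option autoImplicit false

namespace Cfsg.Agent.Lib.Helper65.FTCNT

open Cfsg.Agent.Lib.Helper57.FTStmt
open scoped Pointwise

universe u

theorem orderOf_conj' {X : Type u} [Group X] (k y : X) :
    orderOf (k * y * k⁻¹) = orderOf y :=
  (MulAut.conj k).orderOf_eq y

theorem main : Cnt.{u} := by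
  intro X _ _ C K hC hKn hcompl hker hcop d hd hdC
  classical
  obtain ⟨hCbot, hCtop, hTI⟩ := hC
  have hKC : K ⊓ C = ⊥ := hcompl.disjoint.eq_bot
  obtain ⟨f, hf⟩ : ∃ f : ↥K × {c : ↥C // orderOf c = d} → {x : X // orderOf x = d},
      ∀ kc, ((f kc : {x : X // orderOf x = d}) : X) =
        (kc.1 : X) * ((kc.2.1 : ↥C) : X) * (kc.1 : X)⁻¹ := by
    refine ⟨fun kc => ⟨(kc.1 : X) * ((kc.2.1 : ↥C) : X) * (kc.1 : X)⁻¹, ?_⟩, fun kc => rfl⟩
    rw [orderOf_conj', Subgroup.orderOf_coe]
    exact kc.2.2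
  have hbij : Function.Bijective f := by
    constructor
    · rintro ⟨k, c, hc⟩ ⟨k', c', hc'⟩ h
      have h0 : (k : X) * (c : X) * (k : X)⁻¹ = (k' : X) * (c' : X) * (k' : X)⁻¹ := by
        have := congrArg Subtype.val h
        rw [hf, hf] at this
        exact this
      have hg : ((k' : X)⁻¹ * (k : X)) ∈ K := K.mul_mem (K.inv_mem k'.2) k.2
      have hc'eq : (c' : X) =
          ((k' : X)⁻¹ * (k : X)) * (c : X) * ((k' : X)⁻¹ * (k : X))⁻¹ := by
        have e : (c' : X) = (k' : X)⁻¹ * ((k' : X) * (c' : X) * (k' : X)⁻¹) * (k' : X) := by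
          group
        rw [e, ← h0]
        group
      have hc'1 : (c' : X) ≠ 1 := by
        intro h1
        have e : c' = 1 := Subtype.ext h1
        rw [e, orderOf_one] at hc'
        omega
      have hgC : ((k' : X)⁻¹ * (k : X)) ∈ C := by
        by_contra hnot
        have hbot := hTI _ hnot
        have hmem : (c' : X) ∈ C ⊓ (MulAut.conj ((k' : X)⁻¹ * (k : X)) • C) := by
          refine ⟨c'.2, ?_⟩
          rw [hc'eq]
          exact Subgroup.smul_mem_pointwise_smul (c : X)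
            (MulAut.conj ((k' : X)⁻¹ * (k : X))) C c.2
        rw [hbot, Subgroup.mem_bot] at hmem
        exact hc'1 hmem
      have hg1 : (k' : X)⁻¹ * (k : X) = 1 := by
        have hm : (k' : X)⁻¹ * (k : X) ∈ K ⊓ C := ⟨hg, hgC⟩
        rw [hKC, Subgroup.mem_bot] at hm
        exact hm
      have hkk : (k : X) = (k' : X) := (inv_mul_eq_one.mp hg1).symm
      have hcc : (c : X) = (c' : X) := by
        rw [hc'eq, hg1]
        simp
      have e1 : k = k' := Subtype.ext hkk
      have e2 : c = c' := Subtype.ext hcc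
      subst e1
      subst e2
      rfl
    · rintro ⟨x, hx⟩
      have hxK : x ∉ K := by
        intro hxK
        have d1 : d ∣ Nat.card K := by
          rw [← hx]
          exact Subgroup.orderOf_dvd_natCard K hxK
        have d2 := Nat.dvd_gcd d1 hdC
        rw [hcop.gcd_eq_one] at d2
        have := Nat.dvd_one.mp d2
        omega
      have hxker : x ∉ Cfsg.frobeniusKernel C := by
        rw [← hker]
        exact hxK
      have hex : ∃ g : X, x ∈ MulAut.conj g • C := by
        by_contra hne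
        exact hxker (Or.inr (fun g hg => hne ⟨g, hg⟩))
      obtain ⟨g, hg⟩ := hex
      rw [Subgroup.mem_pointwise_smul_iff_inv_smul_mem] at hg
      have hc1 : g⁻¹ * x * g ∈ C := by
        simpa [MulAut.smul_def, MulAut.conj_inv_apply] using hg
      obtain ⟨⟨⟨k, hk⟩, ⟨c₀, hc₀⟩⟩, hkc⟩ := hcompl.2 g
      have hkc' : k * c₀ = g := hkc
      have hcmem : c₀ * (g⁻¹ * x * g) * c₀⁻¹ ∈ C :=
        C.mul_mem (C.mul_mem hc₀ hc1) (C.inv_mem hc₀)
      have hxeq : k * (c₀ * (g⁻¹ * x * g) * c₀⁻¹) * k⁻¹ = x := by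
        rw [← hkc']
        group
      have hord : orderOf (⟨c₀ * (g⁻¹ * x * g) * c₀⁻¹, hcmem⟩ : ↥C) = d := by
        rw [← Subgroup.orderOf_coe]
        show orderOf (c₀ * (g⁻¹ * x * g) * c₀⁻¹) = d
        rw [← orderOf_conj' k, hxeq, hx]
      refine ⟨(⟨k, hk⟩, ⟨⟨c₀ * (g⁻¹ * x * g) * c₀⁻¹, hcmem⟩, hord⟩), ?_⟩
      apply Subtype.ext
      rw [hf]
      exact hxeq
  rw [← Nat.card_prod]
  exact (Nat.card_congr (Equiv.ofBijective f hbij)).symm

end Cfsg.Agent.Lib.Helper65.FTCNT
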