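import Mathlib
import Cfsg.Agent.Lib.Helper57.FTStmt

/-!
# S3999 / CYC15 (call by helper57)

A group of order 15 has an element of order 15: `b` of order 5 generates a subgroup of index
3 = smallest prime divisor, hence normal; `a` of order 3 acts on it by `b ↦ b ^ k` with
`k ^ 3 ≡ 1 (mod 5)`, so `k ≡ 1` and `a`, `b` commute.
-/

set_option autoImplicit false

namespace Cfsg.Agent.Lib.Helper65.FTCYC15

open Cfsg.Agent.Lib.Helper57.FTStmt

universe u

theorem main : Cyc15.{u} := by
  intro H _ hcard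
  have hfin : Finite H := Nat.finite_of_card_ne_zero (by rw [hcard]; norm_num)
  have h3 : Fact (Nat.Prime 3) := ⟨by norm_num⟩
  have h5 : Fact (Nat.Prime 5) := ⟨by norm_num⟩
  obtain ⟨a, ha⟩ := exists_prime_orderOf_dvd_card' (G := H) 3 (by rw [hcard]; norm_num)
  obtain ⟨b, hb⟩ := exists_prime_orderOf_dvd_card' (G := H) 5 (by rw [hcard]; norm_num)
  -- `⟨b⟩` is normal
  have hKcard : Nat.card ↥(Subgroup.zpowers b) = 5 := by
    rw [Nat.card_zpowers, hb]
  have hKidx : (Subgroup.zpowers b).index = 3 := by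
    have h := (Subgroup.zpowers b).card_mul_index
    rw [hKcard, hcard] at h
    omega
  have hKn : (Subgroup.zpowers b).Normal := by
    apply Subgroup.normal_of_index_eq_minFac_card
    rw [hKidx, hcard]
    norm_num
  have hconj : a * b * a⁻¹ ∈ Subgroup.zpowers b := hKn.conj_mem b (Subgroup.mem_zpowers b) a
  obtain ⟨k, hk⟩ : ∃ k : ℕ, b ^ k = a * b * a⁻¹ :=
    (Submonoid.mem_powers_iff (a * b * a⁻¹) b).mp
      ((mem_powers_iff_mem_zpowers (x := b) (y := a * b * a⁻¹)).mpr hconj)
  have hj : ∀ j : ℕ, a * b ^ j * a⁻¹ = b ^ (k * j) := by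
    intro j
    rw [← conj_pow, ← hk, ← pow_mul]
  have ha3 : a ^ 3 = 1 := by
    rw [← ha, pow_orderOf_eq_one]
  have haaa : a * a * a = 1 := by
    rw [← ha3]
    simp [pow_succ]
  have e1 : a * (a * (a * b * a⁻¹) * a⁻¹) * a⁻¹ = b := by
    calc a * (a * (a * b * a⁻¹) * a⁻¹) * a⁻¹ = (a * a * a) * b * (a * a * a)⁻¹ := by
          simp only [mul_assoc, mul_inv_rev]
      _ = b := by
          rw [haaa]
          simp
  have e2 : a * (a * (a * b * a⁻¹) * a⁻¹) * a⁻¹ = b ^ (k * (k * k)) := by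
    rw [← hk, hj k, hj (k * k)]
  have e3 : b ^ (k * (k * k)) = b ^ 1 := by
    rw [← e2, e1, pow_one]
  have hmod : k * (k * k) ≡ 1 [MOD 5] := by
    have := (pow_eq_pow_iff_modEq (x := b) (n := k * (k * k)) (m := 1)).mp e3
    rw [hb] at this
    exact this
  have hk5 : k ≡ k % 5 [MOD 5] := (Nat.mod_modEq k 5).symm
  have h' : (k % 5) * ((k % 5) * (k % 5)) ≡ 1 [MOD 5] :=
    ((hk5.mul (hk5.mul hk5)).symm.trans hmod)
  have hr : k % 5 < 5 := Nat.mod_lt _ (by norm_num)
  have hk1 : k % 5 = 1 := by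
    generalize k % 5 = r at h' hr
    interval_cases r
    · exact absurd h' (by decide)
    · rfl
    · exact absurd h' (by decide)
    · exact absurd h' (by decide)
    · exact absurd h' (by decide)
  have hcomm : a * b * a⁻¹ = b := by
    rw [← hk, ← pow_mod_orderOf, hb, hk1, pow_one]
  have hc : Commute a b := by
    have : a * b = b * a := by
      calc a * b = a * b * a⁻¹ * a := by group
        _ = b * a := by rw [hcomm]
    exact this
  refine ⟨a * b, ?_⟩
  rw [hc.orderOf_mul_eq_mul_orderOf_of_coprime (by rw [ha, hb]; norm_num), ha, hb]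

end Cfsg.Agent.Lib.Helper65.FTCYC15
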