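import Mathlib
import Cfsg.Agent.Lib.Helper3.M24BlkStmt

/-! S5006, piece QAR15: the octad test separates `r15` from its inverse. Also the general
reduction of the octad test `QA` to a computation with tables, used for QAR23 as well. -/

set_option autoImplicit false

namespace Cfsg.Agent.Lib.Helper65.M24QAR15

open Cfsg Cfsg.Agent.Lib.Helper7.GolayBase Cfsg.Agent.Lib.Helper7.GolayCode
  Cfsg.Agent.Lib.Helper7.GolayPerm Cfsg.Agent.Lib.Helper3.M24Blk
  Cfsg.Agent.Lib.Helper3.M24BlkStmt

/-- Iterating a table. -/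
def itT (t : List Nat) (k i : Nat) : Nat := Nat.iterate (fun x => t.getD x 0) k i

/-- The mask of the points `g ^ k (pt i)`, `k ∈ L`, computed from the table `t` of `g`. -/
def orbMask (t : List Nat) (L : List Nat) (i : Nat) : Nat :=
  L.foldr (fun k acc => acc ||| (1 <<< itT t k i)) 0

theorem rep_lt {g : Equiv.Perm GolayPt} {t : List Nat} (hg : Rep g t) {i : Nat} (hi : i < 24) :
    t.getD i 0 < 24 := by
  have h := hg.2 (pt i)
  rw [idx_pt hi] at h
  rw [h]
  exact idx_lt _

theorem itT_spec {g : Equiv.Perm GolayPt} {t : List Nat} (hg : Rep g t) {i : Nat} (hi : i < 24)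
    (k : Nat) : itT t k i < 24 ∧ (g ^ k) (pt i) = pt (itT t k i) := by
  induction k with
  | zero => exact ⟨hi, rfl⟩
  | succ k ih =>
    have e : itT t (k + 1) i = t.getD (itT t k i) 0 := Function.iterate_succ_apply' _ _ _
    refine ⟨by rw [e]; exact rep_lt hg ih.1, ?_⟩
    rw [pow_succ', Equiv.Perm.mul_apply, ih.2, hg.apply ih.1, e]

theorem testBit_orbMask (t L : List Nat) (i n : Nat) :
    (orbMask t L i).testBit n = true ↔ ∃ k ∈ L, itT t k i = n := by
  induction L with
  | nil => simp [orbMask]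
  | cons k L ih =>
    have e : orbMask t (k :: L) i = orbMask t L i ||| (1 <<< itT t k i) := rfl
    rw [e, Nat.testBit_or, Bool.or_eq_true, ih, Nat.one_shiftLeft, Nat.testBit_two_pow]
    simp only [decide_eq_true_eq, List.mem_cons, exists_eq_or_imp]
    exact or_comm

theorem mk_orbMask {g : Equiv.Perm GolayPt} {t : List Nat} (hg : Rep g t) (L : List Nat)
    {i : Nat} (hi : i < 24) :
    mk (orbMask t L i) = L.toFinset.image (fun k => (g ^ k) (pt i)) := by
  ext p
  rw [mem_mk, testBit_orbMask, Finset.mem_image]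
  constructor
  · rintro ⟨k, hk, h⟩
    refine ⟨k, List.mem_toFinset.mpr hk, ?_⟩
    rw [(itT_spec hg hi k).2, h, pt_idx]
  · rintro ⟨k, hk, rfl⟩
    refine ⟨k, List.mem_toFinset.mp hk, ?_⟩
    rw [(itT_spec hg hi k).2, idx_pt (itT_spec hg hi k).1]

theorem mk_mem_supports_iff {m : Nat} (hm : m < 2 ^ 24) :
    mk m ∈ supports (golayCode : Set (GolayPt → ZMod 2)) ↔ inCode m = true := by
  rw [mem_supports_iff, inCode_iff]
  constructor
  · rintro ⟨c, hc, h⟩
    have h1 := mk_injOn (codeList_lt c hc) hm h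
    rw [← h1]
    exact hc
  · intro h
    exact ⟨m, h, rfl⟩

/-- The octad test on a permutation with table `t`, as a computation. -/
theorem qa_iff (L : List Nat) {g : Equiv.Perm GolayPt} {t : List Nat} (hg : Rep g t)
    (hlt : ∀ i, i < 24 → orbMask t L i < 2 ^ 24) :
    QA L.toFinset g ↔ ∃ i, i < 24 ∧ inCode (orbMask t L i) = true := by
  unfold QA
  constructor
  · rintro ⟨p, hp⟩
    refine ⟨idx p, idx_lt p, ?_⟩
    rw [← mk_mem_supports_iff (hlt _ (idx_lt p)), mk_orbMask hg L (idx_lt p), pt_idx]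
    exact hp
  · rintro ⟨i, hi, h⟩
    refine ⟨pt i, ?_⟩
    rw [← mk_orbMask hg L hi, mk_mem_supports_iff (hlt i hi)]
    exact h

/-- The offsets of `S15f` as a list. -/
def L15 : List Nat := [0, 1, 2, 3, 7, 10, 11, 13]

theorem S15f_eq : S15f = L15.toFinset := by decide

theorem rep_r15 : Rep ((r15 : G24) : Equiv.Perm GolayPt) r15T := rep_mkG r15T r15T' _ _

theorem rep_r15_inv : Rep ((r15⁻¹ : G24) : Equiv.Perm GolayPt) r15T' := by
  have h : ((r15⁻¹ : G24) : Equiv.Perm GolayPt) = ((r15 : G24) : Equiv.Perm GolayPt)⁻¹ := rfl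
  rw [h]
  exact rep_r15.inv (by decide) (by decide +kernel)

theorem main : QAR15Stmt := by
  constructor
  · rw [S15f_eq, qa_iff L15 rep_r15 (by decide +kernel)]
    exact ⟨0, by decide, by decide +kernel⟩
  · rw [S15f_eq, qa_iff L15 rep_r15_inv (by decide +kernel)]
    rintro ⟨i, hi, h⟩
    have key : ∀ i, i < 24 → inCode (orbMask r15T' L15 i) = false := by decide +kernel
    rw [key i hi] at h
    exact Bool.false_ne_true h

end Cfsg.Agent.Lib.Helper65.M24QAR15
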