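import Mathlib
import Cfsg.Agent.Lib.Helper3.M24BlkStmt
import Cfsg.Agent.Lib.Helper65.M24QAR15

/-! S5006, piece QAR23: the octad test separates `r23` from its inverse. -/

set_option autoImplicit false

namespace Cfsg.Agent.Lib.Helper65.M24QAR23

open Cfsg Cfsg.Agent.Lib.Helper7.GolayBase Cfsg.Agent.Lib.Helper7.GolayCode
  Cfsg.Agent.Lib.Helper7.GolayPerm Cfsg.Agent.Lib.Helper3.M24Blk
  Cfsg.Agent.Lib.Helper3.M24BlkStmt Cfsg.Agent.Lib.Helper65.M24QAR15

/-- The offsets of `S23f` as a list. -/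
def L23 : List Nat := [0, 1, 2, 3, 4, 7, 10, 12]

theorem S23f_eq : S23f = L23.toFinset := by decide

theorem rep_r23 : Rep ((r23 : G24) : Equiv.Perm GolayPt) r23T := rep_mkG r23T r23T' _ _

theorem rep_r23_inv : Rep ((r23⁻¹ : G24) : Equiv.Perm GolayPt) r23T' := by
  have h : ((r23⁻¹ : G24) : Equiv.Perm GolayPt) = ((r23 : G24) : Equiv.Perm GolayPt)⁻¹ := rfl
  rw [h]
  exact rep_r23.inv (by decide) (by decide +kernel)

theorem main : QAR23Stmt := by
  constructor
  · rw [S23f_eq, qa_iff L23 rep_r23 (by decide +kernel)]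
    exact ⟨0, by decide, by decide +kernel⟩
  · rw [S23f_eq, qa_iff L23 rep_r23_inv (by decide +kernel)]
    rintro ⟨i, hi, h⟩
    have key : ∀ i, i < 24 → inCode (orbMask r23T' L23 i) = false := by decide +kernel
    rw [key i hi] at h
    exact Bool.false_ne_true h

end Cfsg.Agent.Lib.Helper65.M24QAR23
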