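import Mathlib
import Cfsg.Agent.Lib.Helper94.OMiPStmt
import Cfsg.Agent.Lib.Helper14.OrthIndex
import Cfsg.Agent.Lib.Helper44.NegPairs
import Cfsg.Agent.Lib.Helper65.OPPELTA

/-!
# S5991 / MPELTA (sub-call by helper94), second seat

A Siegel element of `Omega^-_(2d)(q)`, `q` odd, `d` odd: `x = 1 + N` where `N` kills the `e`'s and
the anisotropic plane and sends the `f`'s to `e`'s through a skew pairing on the `(d - 1) / 2`
pairs of indices (port of `Cfsg.Agent.Lib.Helper65.OPPELTA`).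
-/

set_option autoImplicit false

namespace Cfsg.Agent.Lib.Helper65.MPELTA

open Matrix

universe u

open Cfsg.Agent.Lib.Helper94.OMiPStmt

section nil

variable {F : Type u} [Field F] {n : ℕ}

/-- the nilpotent map -/
def Nf (σ : Fin n → Fin n) (ε : Fin n → F) (v : (Fin n ⊕ Fin n) ⊕ Fin 2 → F) :
    (Fin n ⊕ Fin n) ⊕ Fin 2 → F :=
  Sum.elim (Sum.elim (fun b => ε (σ b) * v (Sum.inl (Sum.inr (σ b)))) (fun _ => 0)) (fun _ => 0)

theorem Nf_ll (σ : Fin n → Fin n) (ε : Fin n → F) (v : (Fin n ⊕ Fin n) ⊕ Fin 2 → F) (b : Fin n) :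
    Nf σ ε v (Sum.inl (Sum.inl b)) = ε (σ b) * v (Sum.inl (Sum.inr (σ b))) := rfl

theorem Nf_lr (σ : Fin n → Fin n) (ε : Fin n → F) (v : (Fin n ⊕ Fin n) ⊕ Fin 2 → F) (b : Fin n) :
    Nf σ ε v (Sum.inl (Sum.inr b)) = 0 := rfl

theorem Nf_r (σ : Fin n → Fin n) (ε : Fin n → F) (v : (Fin n ⊕ Fin n) ⊕ Fin 2 → F) (j : Fin 2) :
    Nf σ ε v (Sum.inr j) = 0 := rfl

/-- the nilpotent map, as a linear map -/
def Nl (σ : Fin n → Fin n) (ε : Fin n → F) :
    ((Fin n ⊕ Fin n) ⊕ Fin 2 → F) →ₗ[F] ((Fin n ⊕ Fin n) ⊕ Fin 2 → F) where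
  toFun := Nf σ ε
  map_add' u v := by
    funext i
    rcases i with (i | i) | i
    · simp only [Nf_ll, Pi.add_apply, mul_add]
    · simp only [Nf_lr, Pi.add_apply, add_zero]
    · simp only [Nf_r, Pi.add_apply, add_zero]
  map_smul' c v := by
    funext i
    rcases i with (i | i) | i
    · simp only [Nf_ll, Pi.smul_apply, smul_eq_mul, RingHom.id_apply]
      ring
    · simp only [Nf_lr, Pi.smul_apply, smul_eq_mul, RingHom.id_apply, mul_zero]
    · simp only [Nf_r, Pi.smul_apply, smul_eq_mul, RingHom.id_apply, mul_zero]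

/-- `1 + N` is an isometry -/
theorem Nf_iso (h2 : (2 : F) ≠ 0) (a b : F) (σ : Fin n → Fin n) (ε : Fin n → F)
    (hσ : ∀ a, σ (σ a) = a) (hε : ∀ a, ε (σ a) = -ε a) (v : (Fin n ⊕ Fin n) ⊕ Fin 2 → F) :
    Cfsg.quadFormMinus n F a b (v + Nf σ ε v) = Cfsg.quadFormMinus n F a b v := by
  have h1 : ∑ b, ε (σ b) * v (Sum.inl (Sum.inr (σ b))) * v (Sum.inl (Sum.inr b))
      = ∑ b, ε (σ (σ b)) * v (Sum.inl (Sum.inr (σ (σ b)))) * v (Sum.inl (Sum.inr (σ b))) :=
    (Equiv.sum_comp (Function.Involutive.toPerm σ hσ)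
      (fun b => ε (σ b) * v (Sum.inl (Sum.inr (σ b))) * v (Sum.inl (Sum.inr b)))).symm
  have h3 : ∑ b, ε (σ (σ b)) * v (Sum.inl (Sum.inr (σ (σ b)))) * v (Sum.inl (Sum.inr (σ b)))
      = -∑ b, ε (σ b) * v (Sum.inl (Sum.inr (σ b))) * v (Sum.inl (Sum.inr b)) := by
    rw [← Finset.sum_neg_distrib]
    apply Finset.sum_congr rfl
    intro b _
    rw [hσ b, hε b]
    ring
  have h4 : (2 : F) * ∑ b, ε (σ b) * v (Sum.inl (Sum.inr (σ b))) * v (Sum.inl (Sum.inr b)) = 0 := by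
    linear_combination h1 + h3
  have hS : ∑ b, ε (σ b) * v (Sum.inl (Sum.inr (σ b))) * v (Sum.inl (Sum.inr b)) = 0 :=
    (mul_eq_zero.mp h4).resolve_left h2
  have h5 : ∑ i, (v (Sum.inl (Sum.inl i)) + ε (σ i) * v (Sum.inl (Sum.inr (σ i)))) *
        v (Sum.inl (Sum.inr i))
      = ∑ i, v (Sum.inl (Sum.inl i)) * v (Sum.inl (Sum.inr i))
        + ∑ b, ε (σ b) * v (Sum.inl (Sum.inr (σ b))) * v (Sum.inl (Sum.inr b)) := by
    rw [← Finset.sum_add_distrib]
    apply Finset.sum_congr rfl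
    intro i _
    ring
  unfold Cfsg.quadFormMinus
  simp only [Pi.add_apply, Nf_ll, Nf_lr, Nf_r, add_zero]
  rw [h5, hS, add_zero]

/-- `N ^ 2 = 0` -/
theorem Nf2 (σ : Fin n → Fin n) (ε : Fin n → F) (v : (Fin n ⊕ Fin n) ⊕ Fin 2 → F) :
    Nf σ ε (Nf σ ε v) = 0 := by
  funext i
  rcases i with (i | i) | i
  · simp [Nf_ll, Nf_lr]
  · rfl
  · rfl

theorem Nf_pair [DecidableEq (Fin n)] (σ : Fin n → Fin n) (ε : Fin n → F)
    (hσ : ∀ a, σ (σ a) = a) (b : Fin n) (h2 : ε (σ b) * ε (σ b) = 1) :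
    Nf σ ε (ε (σ b) • Pi.single (Sum.inl (Sum.inr (σ b))) (1 : F))
      = Pi.single (Sum.inl (Sum.inl b)) 1 := by
  funext i
  rcases i with (i | i) | i
  · rw [Nf_ll]
    by_cases hb : i = b
    · subst hb
      simp [h2]
    · have hne : σ i ≠ σ b := fun h => hb (by rw [← hσ i, h, hσ])
      simp [hb, hne]
  · rw [Nf_lr]
    simp
  · rw [Nf_r]
    simp

end nil

theorem main : MPEltA.{u} := by
  intro F _ _ p hpF _ hodd d hd3 hdodd a b hab
  classical
  have hp : p.Prime := hpF.out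
  have h2 : (2 : F) ≠ 0 := by
    intro h
    have hch : ringChar F = 2 :=
      CharP.ringChar_of_prime_eq_zero Nat.prime_two (by exact_mod_cast h)
    have := FiniteField.even_card_of_char_two hch
    rcases hodd with ⟨m, hm⟩
    omega
  have hp2 : p ≠ 2 := by
    intro h
    apply h2
    have := CharP.cast_eq_zero F p
    rw [h] at this
    exact_mod_cast this
  have hp3 : 3 ≤ p := by
    have := hp.two_le
    omega
  have hpodd : p % 2 = 1 := hp.eq_two_or_odd.resolve_left hp2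
  obtain ⟨k, hk⟩ := hdodd
  obtain ⟨σ, ε, β, hσ, hε, hβinj, hβ1, hβ0⟩ :=
    Cfsg.Agent.Lib.Helper65.OPPELTA.exists_data F (d - 1) k (by omega)
  obtain ⟨N, hN⟩ : ∃ N : (Mi d → F) →ₗ[F] (Mi d → F), N = Nl σ ε := ⟨_, rfl⟩
  have hNapp : ∀ v, N v = Nf σ ε v := by
    intro v
    rw [hN]
    rfl
  obtain ⟨Nmat, hNmat⟩ : ∃ Nmat : Matrix (Mi d) (Mi d) F, Nmat = LinearMap.toMatrix' N :=
    ⟨_, rfl⟩
  obtain ⟨X, hX⟩ : ∃ X : Matrix (Mi d) (Mi d) F, X = 1 + Nmat := ⟨_, rfl⟩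
  have hXlin : Matrix.toLin' X = LinearMap.id + N := by
    rw [hX, hNmat, map_add, Matrix.toLin'_one, Matrix.toLin'_toMatrix']
  have hXv : ∀ v, X *ᵥ v = v + Nf σ ε v := by
    intro v
    rw [← Matrix.toLin'_apply, hXlin, LinearMap.add_apply, LinearMap.id_apply, hNapp]
  have hN2 : Nmat * Nmat = 0 := by
    rw [hNmat, ← LinearMap.toMatrix'_comp]
    have : N ∘ₗ N = 0 := by
      apply LinearMap.ext
      intro v
      rw [LinearMap.comp_apply, hNapp, hNapp, Nf2]
      rfl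
    rw [this, map_zero]
  have hNp : Nmat ^ p = 0 := by
    rw [show p = 2 + (p - 2) by omega, pow_add, pow_two, hN2, zero_mul]
  have hne : Nonempty (Mi d) := ⟨Sum.inr 0⟩
  have hXp : X ^ p = 1 := by
    rw [hX, add_pow_char_of_commute p (Commute.one_left Nmat), one_pow, hNp, add_zero]
  obtain ⟨x, hx⟩ : ∃ x : Matrix.GeneralLinearGroup (Mi d) F,
      (x : Matrix (Mi d) (Mi d) F) = X := by
    refine ⟨⟨X, X ^ (p - 1), ?_, ?_⟩, rfl⟩
    · rw [← pow_succ', show p - 1 + 1 = p by omega, hXp]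
    · rw [← pow_succ, show p - 1 + 1 = p by omega, hXp]
  have hxp : x ^ p = 1 := by
    apply Units.ext
    rw [Units.val_pow_eq_pow_val, hx, hXp]
    rfl
  have hiso : x ∈ Cfsg.isometryGroup F (Cfsg.quadFormMinus (d - 1) F a b) := by
    intro u v
    show Cfsg.quadFormMinus (d - 1) F a b ((x : Matrix (Mi d) (Mi d) F) *ᵥ u) =
      Cfsg.quadFormMinus (d - 1) F a b u
    rw [hx, hXv, Nf_iso h2 a b σ ε hσ hε]
  have hNPx : NM (x : Matrix (Mi d) (Mi d) F) = N := by
    unfold NM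
    rw [hx, hXlin, add_sub_cancel_left]
  have hrange_le : LinearMap.range (NM (x : Matrix (Mi d) (Mi d) F)) ≤
      FxM (x : Matrix (Mi d) (Mi d) F) := by
    rw [hNPx]
    rintro _ ⟨v, rfl⟩
    rw [hNapp]
    unfold FxM
    rw [LinearMap.mem_ker, LinearMap.sub_apply, LinearMap.id_apply, Matrix.toLin'_apply, hx, hXv,
      Nf2, add_zero, sub_self]
  have hfin : Module.finrank F ↥(LinearMap.range (NM (x : Matrix (Mi d) (Mi d) F))) = d - 1 := by
    rw [hNPx]
    have hli : LinearIndependent F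
        (fun s : Fin k ⊕ Fin k =>
          (Pi.single (Sum.inl (Sum.inl (β s))) (1 : F) : Mi d → F)) :=
      (Pi.linearIndependent_single_one (Mi d) F).comp
        (fun s : Fin k ⊕ Fin k => (Sum.inl (Sum.inl (β s)) : Mi d))
        (fun s t h => hβinj (Sum.inl.inj (Sum.inl.inj h)))
    have heq : LinearMap.range N = Submodule.span F
        (Set.range (fun s : Fin k ⊕ Fin k =>
          (Pi.single (Sum.inl (Sum.inl (β s))) (1 : F) : Mi d → F))) := by
      apply le_antisymm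
      · rintro _ ⟨v, rfl⟩
        rw [hNapp]
        have hdec : Nf σ ε v = ∑ c : Fin (d - 1),
            (ε (σ c) * v (Sum.inl (Sum.inr (σ c)))) •
              (Pi.single (Sum.inl (Sum.inl c)) (1 : F) : Mi d → F) := by
          funext i
          rcases i with (i | i) | i
          · rw [Nf_ll, Finset.sum_apply]
            simp [Pi.single_apply]
          · rw [Nf_lr, Finset.sum_apply]
            simp
          · rw [Nf_r, Finset.sum_apply]
            simp
        rw [hdec]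
        apply Submodule.sum_mem
        intro c _
        rcases hβ0 c with ⟨s, rfl⟩ | h0
        · exact Submodule.smul_mem _ _ (Submodule.subset_span ⟨s, rfl⟩)
        · rw [h0, zero_mul, zero_smul]
          exact Submodule.zero_mem _
      · rw [Submodule.span_le]
        rintro _ ⟨s, rfl⟩
        exact ⟨_, by rw [hNapp]; exact Nf_pair σ ε hσ (β s) (hβ1 s)⟩
    rw [heq, finrank_span_eq_card hli, Fintype.card_sum, Fintype.card_fin]
    omega
  have hx1 : x ≠ 1 := by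
    intro h
    rw [h] at hfin
    have h0 : NM ((1 : Matrix.GeneralLinearGroup (Mi d) F) : Matrix (Mi d) (Mi d) F) = 0 := by
      unfold NM
      rw [Units.val_one, Matrix.toLin'_one, sub_self]
    rw [h0, LinearMap.range_zero, finrank_bot] at hfin
    omega
  have hord : orderOf x = p := orderOf_eq_prime hxp hx1
  refine ⟨x, ?_, hord, hrange_le, hfin⟩
  have hS := Cfsg.Agent.Lib.Helper44.NegPairs.sep_minusQ (F := F) h2 (d - 1) a b hab
  have hcardP : 2 ≤ Fintype.card (Mi d) := by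
    simp only [Fintype.card_sum, Fintype.card_fin]
    omega
  obtain ⟨g, hg⟩ : ∃ g : ↥(Cfsg.isometryGroup F
      ⇑(Cfsg.Agent.Lib.Helper44.NegPairs.minusQ (d - 1) F a b)),
      (g : Matrix.GeneralLinearGroup (Mi d) F) = x := ⟨⟨x, hiso⟩, rfl⟩
  have hgp : g ^ p = 1 := by
    apply Subtype.ext
    rw [Subgroup.coe_pow, hg, hxp]
    rfl
  have hyy : g ^ ((p + 1) / 2) * g ^ ((p + 1) / 2) = g := by
    rw [← pow_add, show (p + 1) / 2 + (p + 1) / 2 = p + 1 by omega, pow_succ, hgp, one_mul]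
  have hmem := Cfsg.Agent.Lib.Helper14.OrthIndex.sq_mem_omega h2
    (Cfsg.Agent.Lib.Helper44.NegPairs.minusQ (d - 1) F a b) hS hcardP (g ^ ((p + 1) / 2))
  rw [hyy] at hmem
  exact ⟨g, hmem, hg⟩

end Cfsg.Agent.Lib.Helper65.MPELTA
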