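import Mathlib
import Cfsg.Agent.Lib.Helper68.M11UStmt

/-!
# S0420 piece ORDER720: a proper subgroup of a simple group of order 7920 containing two
distinct Sylow 3-subgroups and a subgroup of order 8 normalizing one of them has order 720

Proof by Sylow counting inside `H`: the normalizer in `H` of `P₁` has order divisible by 72, the
number of Sylow 3-subgroups of `H` is `≡ 1 mod 3` and is not `1`, and the index of `H` is at
least 11.
-/

set_option autoImplicit false

namespace Cfsg.Agent.Lib.Helper65.MUORDER720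

open Cfsg Cfsg.Agent.Lib.Helper68.M11UStmt Cfsg.Agent.Lib.Helper92.M11Stmt

universe u

theorem arith (a i m n : ℕ) (h1 : a * i = 7920) (h2 : 11 ≤ i) (h3 : m * n = a) (h4 : 72 ∣ m)
    (h5 : n % 3 = 1) (h6 : n ≠ 1) : a = 720 := by
  obtain ⟨j, rfl⟩ := h4
  subst h3
  obtain ⟨t, ht⟩ : ∃ t, t = j * n := ⟨_, rfl⟩
  have h7 : t * i = 110 := by
    rw [ht]
    nlinarith [h1]
  have h8 : 72 * j * n = 72 * t := by
    rw [ht]
    ring
  rw [h8]
  have hi : i ≤ 110 := Nat.le_of_dvd (by norm_num) (Dvd.intro_left _ h7)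
  have hnt : n ∣ t := ⟨j, by rw [ht]; ring⟩
  interval_cases i <;> first | omega | skip
  all_goals
    have ht5 : t ≤ 5 := by omega
    have htpos : 0 < t := by omega
    have hn : n ≤ 5 := le_trans (Nat.le_of_dvd htpos hnt) ht5
    interval_cases n <;> omega

theorem main (hMin : MinIndex.{u}) (_hSP : SumProd.{u}) : Order720.{u} := by
  intro G _ _ _ hG P₁ P₂ Q H hne hQ hQP hP₁H hP₂H hQH hHtop
  classical
  have : Fact (Nat.Prime 3) := ⟨Nat.prime_three⟩
  have hcard : ∀ R : Sylow 3 G, Nat.card (R : Subgroup G) = 9 := by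
    intro R
    obtain ⟨k, hk⟩ := IsPGroup.iff_card.mp R.2
    have hidx := R.not_dvd_index
    have hmul : Nat.card (R : Subgroup G) * (R : Subgroup G).index = 7920 := by
      rw [Subgroup.card_mul_index, hG]
    rw [hk] at hmul
    have hk2 : k ≤ 2 := by
      by_contra hcon
      push Not at hcon
      have h27 : 3 ^ 3 ∣ 7920 := by
        rw [← hmul]
        exact Dvd.dvd.mul_right (pow_dvd_pow 3 hcon) _
      omega
    interval_cases k
    · exfalso; apply hidx; omega
    · exfalso; apply hidx; omega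
    · rw [hk]; norm_num
  have hidx := hMin G hG H hHtop
  have hmul : Nat.card H * H.index = 7920 := by rw [Subgroup.card_mul_index, hG]
  -- the Sylow 3-subgroups of `H`
  have hS : P₁.subtype hP₁H ≠ P₂.subtype hP₂H := fun h => hne (Sylow.subtype_injective h)
  have hmod : Nat.card (Sylow 3 H) ≡ 1 [MOD 3] := card_sylow_modEq_one 3 H
  have hne1 : Nat.card (Sylow 3 H) ≠ 1 := by
    intro h1
    rw [Nat.card_eq_one_iff_unique] at h1
    obtain ⟨hsub, -⟩ := h1
    exact hS (Subsingleton.elim _ _)
  have hcn : Nat.card (Sylow 3 H) = (Subgroup.normalizer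
      (((P₁.subtype hP₁H : Sylow 3 H) : Subgroup H) : Set H)).index :=
    Sylow.card_eq_index_normalizer (P₁.subtype hP₁H)
  have hNmul := Subgroup.card_mul_index
    (Subgroup.normalizer (((P₁.subtype hP₁H : Sylow 3 H) : Subgroup H) : Set H))
  -- the normalizer has order divisible by 72
  have h9 : 9 ∣ Nat.card
      (Subgroup.normalizer (((P₁.subtype hP₁H : Sylow 3 H) : Subgroup H) : Set H)) := by
    have hle : ((P₁.subtype hP₁H : Sylow 3 H) : Subgroup H) ≤
        Subgroup.normalizer (((P₁.subtype hP₁H : Sylow 3 H) : Subgroup H) : Set H) :=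
      Subgroup.le_normalizer
    have hc := Subgroup.card_dvd_of_le hle
    have hc9 : Nat.card ((P₁.subtype hP₁H : Sylow 3 H) : Subgroup H) = 9 := by
      rw [Sylow.coe_subtype, Nat.card_congr (Subgroup.subgroupOfEquivOfLe hP₁H).toEquiv]
      exact hcard P₁
    rwa [hc9] at hc
  have h8 : 8 ∣ Nat.card
      (Subgroup.normalizer (((P₁.subtype hP₁H : Sylow 3 H) : Subgroup H) : Set H)) := by
    have hle : Q.subgroupOf H ≤
        Subgroup.normalizer (((P₁.subtype hP₁H : Sylow 3 H) : Subgroup H) : Set H) := by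
      intro q hq
      rw [Subgroup.mem_subgroupOf] at hq
      rw [Subgroup.mem_normalizer_iff]
      intro h
      rw [Sylow.coe_subtype, Subgroup.mem_subgroupOf, Subgroup.mem_subgroupOf]
      constructor
      · intro hh
        exact hQP _ hq _ hh
      · intro hh
        have h2 := hQP _ (Q.inv_mem hq) _ hh
        have h3 : (q : G)⁻¹ * ((q * h * q⁻¹ : H) : G) * (q : G)⁻¹⁻¹ = (h : G) := by
          push_cast
          group
        rwa [h3] at h2
    have hc := Subgroup.card_dvd_of_le hle
    have hc8 : Nat.card (Q.subgroupOf H) = 8 := by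
      rw [Nat.card_congr (Subgroup.subgroupOfEquivOfLe hQH).toEquiv]
      exact hQ
    rwa [hc8] at hc
  have h72 : 72 ∣ Nat.card
      (Subgroup.normalizer (((P₁.subtype hP₁H : Sylow 3 H) : Subgroup H) : Set H)) :=
    Nat.Coprime.mul_dvd_of_dvd_of_dvd (by norm_num : Nat.Coprime 9 8) h9 h8
  rw [← hcn] at hNmul
  have h5 : Nat.card (Sylow 3 H) % 3 = 1 := hmod
  exact arith _ _ _ _ hmul hidx hNmul h72 h5 hne1

end Cfsg.Agent.Lib.Helper65.MUORDER720
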