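import Mathlib
import Cfsg.Agent.Lib.Helper75.NDStmt
import Cfsg.Agent.Lib.Helper16.MaxPair

/-! S4890, piece CAN: the canonical character of a maximal pair `(D, e)` is trivial on `Z(D)`
and fixed by every element stabilizing `e`. -/

set_option autoImplicit false

namespace Cfsg.Agent.Lib.Helper65.NdCAN

open Cfsg Cfsg.Agent.Lib.Helper75.NDStmt

universe u

theorem main : CAN.{u} := by
  intro G _ _ p _ M hM B D _ e hmax
  classical
  have hBe := hmax.1
  have hQ : IsPGroup p D := hBe.1.1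
  have he : IsPBlock M e := hBe.1.2
  have hZ := Cfsg.Agent.Lib.Helper16.BPLocal.isDefectGroup_of_maximal_self hM hmax
  have hZp : IsPGroup p ((D ⊓ Subgroup.centralizer (D : Set G)).subgroupOf
      (Subgroup.centralizer (D : Set G))) :=
    Cfsg.Agent.Lib.Helper16.ExtFirst.isPGroup_subgroupOf _ _ (hQ.to_le inf_le_left)
  have htop : (D ⊓ Subgroup.centralizer (D : Set G)).subgroupOf
      (Subgroup.centralizer (D : Set G)) ⊔ Subgroup.centralizer
        ((((D ⊓ Subgroup.centralizer (D : Set G)).subgroupOf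
          (Subgroup.centralizer (D : Set G)) : Subgroup (Subgroup.centralizer (D : Set G))) :
            Set (Subgroup.centralizer (D : Set G)))) = ⊤ := by
    rw [eq_top_iff]
    refine le_trans ?_ le_sup_right
    intro c _
    rw [Subgroup.mem_centralizer_iff]
    intro z hz
    apply Subtype.ext
    exact Subgroup.mem_centralizer_iff.mp c.2 (z : G) (Subgroup.mem_subgroupOf.mp hz).1
  obtain ⟨⟨θ, ⟨hθe, hθZ⟩, huniq⟩, -, -⟩ := Cfsg.Agent.S0968.result p M hM _ hZp htop e he hZ
  refine ⟨θ, hθe, fun z hz => hθZ z (Subgroup.mem_subgroupOf.mpr ⟨hz, z.2⟩), ?_⟩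
  rintro x ⟨hxN, hx'⟩
  obtain ⟨θ', hθ'e, hconj⟩ := hx' θ hθe
  have hθ'Z : ∀ z ∈ (D ⊓ Subgroup.centralizer (D : Set G)).subgroupOf
      (Subgroup.centralizer (D : Set G)),
      (θ' : Subgroup.centralizer (D : Set G) → ℂ) z
        = (θ' : Subgroup.centralizer (D : Set G) → ℂ) 1 := by
    intro z hz
    have hzD : (z : G) ∈ D := (Subgroup.mem_subgroupOf.mp hz).1
    have hk : x⁻¹ * (z : G) * x ∈ Subgroup.centralizer (D : Set G) := by
      refine (Subgroup.mem_normalizer_iff.mp hxN (x⁻¹ * (z : G) * x)).mpr ?_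
      have e1 : x * (x⁻¹ * (z : G) * x) * x⁻¹ = (z : G) := by group
      rw [e1]
      exact z.2
    have hkD : x⁻¹ * (z : G) * x ∈ D := by
      have := (inferInstance : D.Normal).conj_mem (z : G) hzD x⁻¹
      rwa [inv_inv] at this
    have h1 := hconj ⟨x⁻¹ * (z : G) * x, hk⟩ z (by
      show (z : G) = x * (x⁻¹ * (z : G) * x) * x⁻¹
      group)
    have h2 := hconj 1 1 (by
      show ((1 : Subgroup.centralizer (D : Set G)) : G)
        = x * ((1 : Subgroup.centralizer (D : Set G)) : G) * x⁻¹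
      rw [Subgroup.coe_one]
      group)
    rw [h1, h2]
    exact hθZ _ (Subgroup.mem_subgroupOf.mpr ⟨hkD, hk⟩)
  have hEq : θ' = θ := huniq θ' ⟨hθ'e, hθ'Z⟩
  rw [hEq] at hconj
  exact hconj

end Cfsg.Agent.Lib.Helper65.NdCAN
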