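import Mathlib
import Cfsg.Agent.Lib.Helper88.ORStmt
import Cfsg.Agent.Lib.Helper87.FSBasic
import Cfsg.Agent.Lib.Helper87.FSHyp
import Cfsg.Agent.Lib.Helper87.Tate
import Cfsg.Agent.H85.Hyp
import Cfsg.Agent.S5120
import Cfsg.Agent.S5124
import Cfsg.Agent.S5199

/-! S5202, piece CASEA: for `F₁` normal in `F` over the same `S`, the subsystems `X` of `F` and
`W` of `F₁` of `p`-power index over `hyp(F)` satisfy `W` normal in `X`. -/

set_option autoImplicit false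

namespace Cfsg.Agent.Lib.Helper65.ORCASEA

open Cfsg Cfsg.FusionSystem Cfsg.Agent.Lib.Helper88.ORStmt

universe u

theorem main (hPP : PPEx.{u}) (hINVP : InvPPower.{u}) (hWNT : WNTrans.{u})
    (hNT : NormalTrans.{u}) (hINVE : InvSub.{u}) (hEXS : ExtSame.{u}) : RLCaseA.{u} := by
  intro Ω _ S _ p _ hS F hF F₁ hF₁n
  have hF₁sat : F₁.IsSaturated p := hF₁n.1.1
  have hF₁F : F₁.IsSubsystemOf F := hF₁n.1.2.2.1
  have hHS : F.hyperfocalSubgroup p ≤ S := Cfsg.Agent.Lib.Helper87.FSHyp.hyperfocal_le F p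
  have hH₁ : F₁.hyperfocalSubgroup p ≤ F.hyperfocalSubgroup p :=
    Cfsg.Agent.Lib.Helper87.Tate.hyperfocal_mono F F₁ p hF₁F
  have hHsc : F.StronglyClosed (F.hyperfocalSubgroup p) := Cfsg.Agent.S5124.result p hS F hF
  have hHn : ((F.hyperfocalSubgroup p).subgroupOf S).Normal := by
    refine ⟨fun n hn g => ?_⟩
    rw [Subgroup.mem_subgroupOf] at hn ⊢
    exact Cfsg.Agent.H85.hyperfocal_conj_mem F p g.2 hn
  obtain ⟨X, hXs, hXi⟩ := hPP p hS F hF (F.hyperfocalSubgroup p) hHS le_rfl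
  obtain ⟨W, hWs, hWi⟩ := hPP p hS F₁ hF₁sat (F.hyperfocalSubgroup p) hHS hH₁
  have hXn : X.IsNormalIn F p :=
    Cfsg.Agent.S5120.result p hS F hF (F.hyperfocalSubgroup p) hHS hHn le_rfl X hXs hXi
  have hWn₁ : W.IsNormalIn F₁ p :=
    Cfsg.Agent.S5120.result p hS F₁ hF₁sat (F.hyperfocalSubgroup p) hHS hHn hH₁ W hWs hWi
  have hInv : Cfsg.Agent.H85.InvCond W F := hINVP p hS F hF F₁ W hF₁n hHsc hWs hWi
  have hWwn : W.IsWeaklyNormalIn F p := hWNT p hS F hF F₁ W hF₁n hWn₁ hHsc hInv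
  have hWn : W.IsNormalIn F p := hNT p F F₁ W hF₁F hWwn hWn₁ inf_le_left
  have hWX : W.IsSubsystemOf X :=
    Cfsg.Agent.S5199.result p hS F hF W hWn X hXn (sup_le le_rfl le_rfl) hXi
  have hWinvX : W.IsInvariantIn X := hINVE p hS F hF W X hWn hXs hXi.1 hWX
  exact ⟨X, W, ⟨hXs, hXi⟩, ⟨hWs, hWi⟩, ⟨hWs, hXs, hWinvX⟩, hEXS W X hWX⟩

end Cfsg.Agent.Lib.Helper65.ORCASEA
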