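import Mathlib
import Cfsg.Agent.Lib.Helper44.PGStmt
import Cfsg.Agent.Lib.Helper42.SpOrdD

/-!
S2474 piece CSUF1: `PSp(2n, q)` has elements of order `r * s` when `CritI` holds.
-/

set_option autoImplicit false

namespace Cfsg.Agent.Lib.Helper65.PGCSUF1

open Matrix Polynomial
open Cfsg.Agent.Lib.Helper44.PGStmt
open Cfsg.Agent.Lib.Helper42.SpOrdC Cfsg.Agent.Lib.Helper42.SpOrdD
open Cfsg.Agent.Lib.Helper43.SpBasic (pr)

universe u

theorem two_ne_zero_of_char {F : Type u} [Field F] (p : ℕ) [Fact p.Prime] [CharP F p]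
    (hp2 : p ≠ 2) : (2 : F) ≠ 0 := by
  intro h
  have h1 : ((2 : ℕ) : F) = 0 := by exact_mod_cast h
  rw [CharP.cast_eq_zero_iff F p] at h1
  exact hp2 ((Nat.prime_dvd_prime_iff_eq (Fact.out : p.Prime) Nat.prime_two).1 h1)

/-- torus element of order `M ≥ 3` in `Sp_{2k}(q)` when `M ∣ q ^ k ∓ 1`. -/
theorem torus_elt {F : Type u} [Field F] [Fintype F] (p : ℕ) [Fact p.Prime] [CharP F p]
    (hp2 : p ≠ 2) (k : ℕ) (hk : 1 ≤ k) (M : ℕ) (hM3 : 3 ≤ M)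
    (hT : Tor (Fintype.card F) k M) :
    ∃ X : Matrix.symplecticGroup (Fin k) F, orderOf X = M := by
  rcases hT with h | h
  · exact exists_torus_minus p k hk M h
  · exact torus_plus_n p hk (two_ne_zero_of_char p hp2) M h hM3

/-- [CSUF1] -/
theorem main (hS : SpSum.{u}) : CSufI.{u} := by
  intro F _ _ p _ _ hp2 n hn r s hr hs hrs hr2 hs2 hrp hsp hcrit
  have hn1 : 1 ≤ n := by omega
  have hr3 : 3 ≤ r := by
    have := hr.two_le
    omega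
  have hs3 : 3 ≤ s := by
    have := hs.two_le
    omega
  have hodd : Odd (r * s) := (hr.odd_of_ne_two hr2).mul (hs.odd_of_ne_two hs2)
  suffices h : ∃ Y : Matrix.symplecticGroup (Fin n) F, orderOf Y = r * s by
    obtain ⟨Y, hY⟩ := h
    refine ⟨pr Y, ?_⟩
    rw [order_pr_of_odd hn1 Y (by rw [hY]; exact hodd), hY]
  rcases hcrit with ⟨k₁, k₂, hk₁, hk₂, hk, hT₁, hT₂⟩ | ⟨k, hk1, hkn, hT⟩
  · obtain ⟨X₁, hX₁⟩ := torus_elt p hp2 k₁ hk₁ r hr3 hT₁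
    obtain ⟨X₂, hX₂⟩ := torus_elt p hp2 k₂ hk₂ s hs3 hT₂
    obtain ⟨Y, hY, -⟩ := hS F k₁ k₂ n hk X₁ X₂
    refine ⟨Y, orderOf_eq_of_pow_iff Y (r * s) fun j => ?_⟩
    rw [hY j, ← orderOf_dvd_iff_pow_eq_one, ← orderOf_dvd_iff_pow_eq_one, hX₁, hX₂]
    constructor
    · rintro ⟨h1, h2⟩
      exact Nat.Coprime.mul_dvd_of_dvd_of_dvd ((Nat.coprime_primes hr hs).2 hrs) h1 h2
    · intro h
      exact ⟨(dvd_mul_right r s).trans h, (dvd_mul_left s r).trans h⟩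
  · have h3 : 3 ≤ r * s := by nlinarith
    obtain ⟨X, hX⟩ := torus_elt p hp2 k hk1 (r * s) h3 hT
    obtain ⟨Y, hY, -⟩ := hS F k 0 n (by omega) X 1
    refine ⟨Y, orderOf_eq_of_pow_iff Y (r * s) fun j => ?_⟩
    rw [hY j, one_pow, ← orderOf_dvd_iff_pow_eq_one, hX]
    simp

end Cfsg.Agent.Lib.Helper65.PGCSUF1
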