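import Mathlib
import Cfsg.Agent.Lib.Helper44.PGStmt
import Cfsg.Agent.Lib.Helper42.SpOrdD
import Cfsg.Agent.Lib.Helper65.PGCSUF1

/-!
S2474 piece CSUF4: `PSp(2n, q)` has elements of order `2 * r` when `CritIV` holds.
-/

set_option autoImplicit false

namespace Cfsg.Agent.Lib.Helper65.PGCSUF4

open Matrix Polynomial
open Cfsg.Agent.Lib.Helper44.PGStmt
open Cfsg.Agent.Lib.Helper42.SpOrdC Cfsg.Agent.Lib.Helper42.SpOrdD
open Cfsg.Agent.Lib.Helper43.SpBasic (pr)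
open Cfsg.Agent.Lib.Helper65.PGCSUF1

universe u

/-- [CSUF4] -/
theorem main (hS : SpSum.{u}) : CSufIV.{u} := by
  intro F _ _ p _ _ hp2 n hn r hr hr2 hrp hcrit
  have hn1 : 1 ≤ n := by omega
  have h2 : (2 : F) ≠ 0 := two_ne_zero_of_char p hp2
  have hr3 : 3 ≤ r := by
    have := hr.two_le
    omega
  have hodd : Odd r := hr.odd_of_ne_two hr2
  rcases hcrit with ⟨k, hk1, hkn, hT⟩ | hT
  · obtain ⟨X₂, hX₂⟩ := torus_elt p hp2 k hk1 r hr3 hT
    haveI : Nonempty (Fin k ⊕ Fin k) := ⟨Sum.inl ⟨0, hk1⟩⟩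
    let X₁ : Matrix.symplecticGroup (Fin 1) F :=
      ⟨-1, SymplecticGroup.neg_mem (Submonoid.one_mem _)⟩
    have hX₁c : (X₁ : Matrix (Fin 1 ⊕ Fin 1) (Fin 1 ⊕ Fin 1) F) = -1 := rfl
    obtain ⟨Y, hY1, hY2⟩ := hS F 1 k n (by omega) X₁ X₂
    have hX₂r : (X₂ : Matrix (Fin k ⊕ Fin k) (Fin k ⊕ Fin k) F) ^ r = 1 := by
      have h3 := pow_orderOf_eq_one X₂
      rw [hX₂] at h3
      exact (sp_pow_eq_one_iff X₂ r).1 h3
    refine ⟨pr Y, orderOf_eq_of_pow_iff (pr Y) (2 * r) fun j => ?_⟩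
    rw [pr_pow_eq_one_iff hn1 Y j]
    constructor
    · rintro ⟨c, hcc, hc⟩
      obtain ⟨h1, h2'⟩ := hY2 j c hc
      have hc1 : c = 1 := by
        have h3 : ((X₂ : Matrix (Fin k ⊕ Fin k) (Fin k ⊕ Fin k) F) ^ j) ^ r = (c ^ r) • 1 := by
          rw [h2', _root_.smul_pow, one_pow]
        have h4 : ((X₂ : Matrix (Fin k ⊕ Fin k) (Fin k ⊕ Fin k) F) ^ j) ^ r = 1 := by
          rw [← pow_mul, mul_comm, pow_mul, hX₂r, one_pow]
        rw [h4] at h3
        exact eq_one_of_sq_of_odd_pow c hcc r hodd (scalar_eq_one (c ^ r) h3.symm)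
      subst hc1
      rw [one_smul] at h1 h2'
      have hrj : r ∣ j := by
        rw [← hX₂]
        exact orderOf_dvd_of_pow_eq_one ((sp_pow_eq_one_iff X₂ j).2 h2')
      have h2j : 2 ∣ j := by
        by_contra hnd
        have hj : Odd j := Nat.odd_iff.2 (by omega)
        rw [hX₁c, hj.neg_one_pow] at h1
        have h6 := congrFun (congrFun h1 (Sum.inl 0)) (Sum.inl 0)
        rw [Matrix.neg_apply, Matrix.one_apply_eq] at h6
        apply h2
        linear_combination -h6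
      exact Nat.Coprime.mul_dvd_of_dvd_of_dvd (Nat.coprime_two_left.2 hodd) h2j hrj
    · intro hj
      refine ⟨1, one_mul 1, ?_⟩
      rw [one_smul, ← sp_pow_eq_one_iff, hY1 j]
      constructor
      · obtain ⟨m, rfl⟩ := (dvd_mul_right 2 r).trans hj
        apply (sp_pow_eq_one_iff X₁ _).2
        rw [hX₁c, pow_mul]
        simp
      · rw [← orderOf_dvd_iff_pow_eq_one, hX₂]
        exact (dvd_mul_left r 2).trans hj
  · obtain ⟨X, hX⟩ := torus_elt p hp2 n hn1 (4 * r) (by omega) hT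
    obtain ⟨h, hh⟩ := exists_two_mul_of_four hn1 X r (by omega) hX
    exact ⟨h, hh⟩

end Cfsg.Agent.Lib.Helper65.PGCSUF4
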