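import Mathlib
import Cfsg.Agent.Lib.Helper85.PPStmt

/-! S5113, piece FNC: an `S`-conjugate of a fully normalized subgroup is fully normalized. -/

set_option autoImplicit false

namespace Cfsg.Agent.Lib.Helper65.PPFNC

open Cfsg Cfsg.FusionSystem Cfsg.Agent.Lib.Helper85.PPStmt

universe u

theorem main : FNConj.{u} := by
  intro Ω _ S _ F Q Q' s hs hQ hQ'
  obtain ⟨hQS, hQmax⟩ := hQ
  have hQ'S : Q' ≤ S := by
    intro x hx
    have h1 := hQS ((hQ' x).mp hx)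
    have h2 := S.mul_mem (S.mul_mem hs h1) (S.inv_mem hs)
    have e : s * (s⁻¹ * x * s) * s⁻¹ = x := by group
    rwa [e] at h2
  refine ⟨hQ'S, fun R hR => ?_⟩
  obtain ⟨φ, hφ, hφr⟩ := hR
  -- conjugation by `s` maps `Q` onto `Q'`
  have hc : ∀ x : Q, conjHom Q s x ∈ Q' := by
    intro x
    rw [hQ']
    show s⁻¹ * (s * (x : Ω) * s⁻¹) * s ∈ Q
    have e : s⁻¹ * (s * (x : Ω) * s⁻¹) * s = x := by group
    rw [e]
    exact x.2
  have hconj : F.IsConj Q R := by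
    refine ⟨φ.comp ((conjHom Q s).codRestrict Q' hc), F.comp_mem (F.conj_mem hQS hs) hφ hc, ?_⟩
    rw [← hφr]
    apply le_antisymm
    · rintro _ ⟨x, rfl⟩
      exact ⟨_, rfl⟩
    · rintro _ ⟨y, rfl⟩
      have hy : s⁻¹ * (y : Ω) * s ∈ Q := (hQ' y).mp y.2
      refine ⟨⟨s⁻¹ * (y : Ω) * s, hy⟩, ?_⟩
      show φ ((conjHom Q s).codRestrict Q' hc ⟨s⁻¹ * (y : Ω) * s, hy⟩) = φ y
      congr 1
      apply Subtype.ext
      show s * (s⁻¹ * (y : Ω) * s) * s⁻¹ = y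
      group
  have h1 := hQmax R hconj
  -- `N_S(Q)` embeds in `N_S(Q')`
  have hfin : Finite (normalizerIn S Q') :=
    Finite.of_injective (Subgroup.inclusion (inf_le_left : normalizerIn S Q' ≤ S))
      (Subgroup.inclusion_injective _)
  have hmem : ∀ y : normalizerIn S Q, s * (y : Ω) * s⁻¹ ∈ normalizerIn S Q' := by
    intro y
    have hyS : (y : Ω) ∈ S := y.2.1
    have hyN : (y : Ω) ∈ Subgroup.normalizer (Q : Set Ω) := y.2.2
    refine ⟨S.mul_mem (S.mul_mem hs hyS) (S.inv_mem hs), ?_⟩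
    show s * (y : Ω) * s⁻¹ ∈ Subgroup.normalizer (Q' : Set Ω)
    rw [Subgroup.mem_normalizer_iff]
    intro h
    rw [hQ', hQ']
    rw [Subgroup.mem_normalizer_iff] at hyN
    rw [hyN (s⁻¹ * h * s)]
    have e : (y : Ω) * (s⁻¹ * h * s) * (y : Ω)⁻¹ =
        s⁻¹ * (s * (y : Ω) * s⁻¹ * h * (s * (y : Ω) * s⁻¹)⁻¹) * s := by group
    rw [e]
  have h2 : Nat.card (normalizerIn S Q) ≤ Nat.card (normalizerIn S Q') := by
    refine Nat.card_le_card_of_injective (fun y => ⟨s * (y : Ω) * s⁻¹, hmem y⟩) ?_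
    intro y y' hyy'
    have h3 : s * (y : Ω) * s⁻¹ = s * (y' : Ω) * s⁻¹ := congrArg Subtype.val hyy'
    exact Subtype.ext (mul_left_cancel (mul_right_cancel h3))
  exact h1.trans h2

end Cfsg.Agent.Lib.Helper65.PPFNC
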