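import Mathlib
import Cfsg.Agent.Lib.Helper85.PPStmt
import Cfsg.Agent.Lib.Helper87.FSBasic
import Cfsg.Agent.Lib.Helper87.FSSat
import Cfsg.Agent.Lib.Helper87.FSHyp
import Cfsg.Agent.S5077

/-! S5113, piece SFA: in the system `E` over `T` of the maps `c_t ∘ Star` (`t ∈ T`), a subgroup
`Q ≤ T` that is fully normalized in `F` is fully automized. -/

set_option autoImplicit false

namespace Cfsg.Agent.Lib.Helper65.PPSFA

open Cfsg Cfsg.FusionSystem Cfsg.Agent.Lib.Helper85.PPStmt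
open Cfsg.Agent.Lib.Helper87

universe u v

theorem main (hOR : StarOfResid.{u}) (hSM : StarMem.{u}) : SatFA.{u, v} := by
  intro Ω _ S _ p _ hS F hF A _ δ T hDD hprime hrig E hE Q hQT hfn
  have hTS : T ≤ S := hDD.le
  have hQS : Q ≤ S := hQT.trans hTS
  have hfa : F.IsFullyAutomized p Q := (((Cfsg.Agent.S5077.result p hS F).mp hF).1 Q hfn).2
  have hfinQ : Finite Q := Finite.of_injective (Subgroup.inclusion hQS)
    (Subgroup.inclusion_injective hQS)
  -- maps of `E` are maps of `F`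
  have hEF : ∀ (P : Subgroup Ω) (φ : P →* Ω), φ ∈ E.Hom P → φ ∈ F.Hom P := by
    intro P φ hφ
    obtain ⟨hPT, t, htT, ψ, hψ, hφψ⟩ := (hE P φ).mp hφ
    have hψF := hSM Ω S F p P ψ hψ
    have hrS : ψ.range ≤ S := by
      rintro _ ⟨x, rfl⟩
      exact (F.le_of_mem hψF).2 x
    have h1 := F.comp_mem hψF (F.conj_mem (P := ψ.range) (g := (t : Ω)) hrS t.2)
      (fun x => ⟨x, rfl⟩)
    exact FSBasic.mem_of_eq F h1 (fun x => hφψ x)
  have hHG : E.autGroup Q ≤ F.autGroup Q := by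
    intro α hα
    rw [FSBasic.mem_autGroup_iff F hQS]
    exact hEF _ _ ((FSBasic.mem_autGroup_iff E hQT α).mp hα)
  have hKH : autInducedBy T Q ≤ E.autGroup Q := FSBasic.autInducedBy_le_autGroup E hQT
  have hKp : IsPGroup p (autInducedBy T Q) := FSBasic.isPGroup_autInducedBy (hS.to_le hTS) Q
  -- `O^p(Aut_F(Q)) ≤ Aut_E(Q)`
  have hres : ∀ n : F.autGroup Q, n ∈ pResidual p (F.autGroup Q) →
      (n : MulAut Q) ∈ E.autGroup Q := by
    intro n hn
    rw [FSBasic.mem_autGroup_iff E hQT, hE]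
    refine ⟨hQT, 1, T.one_mem, Q.subtype.comp (n : MulAut Q).toMonoidHom,
      hOR Ω S F p Q hQS n hn, fun x => by simp⟩
  -- a `p`-subgroup of `Aut_E(Q)` is conjugate into `Aut_T(Q)`
  have key : ∀ B : Subgroup (MulAut Q), IsPGroup p B → B ≤ E.autGroup Q →
      ∃ χ : MulAut Q, ∀ β ∈ B, χ * β * χ⁻¹ ∈ autInducedBy T Q := by
    intro B hB hBH
    obtain ⟨χ, hχ, hχB⟩ := FSSat.exists_conj_le_autS F hfa B hB (hBH.trans hHG)
    by_cases hcen : centralizerIn S Q ≤ T
    · -- the rigid case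
      have hr := hrig Q hfn hQT hcen
      have hHR : ∀ α ∈ E.autGroup Q, α ∈ autInducedBy S Q → α ∈ autInducedBy T Q := by
        intro α hαE hαS
        obtain ⟨s, hsS, hs⟩ := (FSBasic.mem_autInducedBy_iff α).mp hαS
        obtain ⟨-, t, htT, ψ, hψ, hαψ⟩ :=
          (hE Q _).mp ((FSBasic.mem_autGroup_iff E hQT α).mp hαE)
        have hψ' : ψ = conjHom Q ((t⁻¹ * ⟨s, hsS⟩ : S) : Ω) := by
          ext x
          have h2 : ((α x : Q) : Ω) = (t : Ω) * ψ x * (t : Ω)⁻¹ := hαψ x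
          rw [hs x] at h2
          have h3 : ψ x = (t : Ω)⁻¹ * (s * x * s⁻¹) * t := by rw [h2]; group
          show ψ x = (t : Ω)⁻¹ * s * x * ((t : Ω)⁻¹ * s)⁻¹
          rw [h3]; group
        rw [hψ'] at hψ
        have hδ := hr _ hψ
        have hmem := (hDD.ker _).mp hδ
        have hsT : s ∈ T := by
          have h4 := T.mul_mem htT hmem
          have e : (t : Ω) * ((t⁻¹ * ⟨s, hsS⟩ : S) : Ω) = s := by
            show (t : Ω) * ((t : Ω)⁻¹ * s) = s
            group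
          rwa [e] at h4
        exact (FSBasic.mem_autInducedBy_iff α).mpr ⟨s, hsT, hs⟩
      obtain ⟨n, hn, r, hr', hχnr⟩ :=
        FSHyp.autGroup_decomp F hfa χ⁻¹ ((F.autGroup Q).inv_mem hχ)
      refine ⟨(n : MulAut Q)⁻¹, fun β hβ => ?_⟩
      apply hHR
      · have hnE := hres n hn
        have h1 := (E.autGroup Q).mul_mem
          ((E.autGroup Q).mul_mem ((E.autGroup Q).inv_mem hnE) (hBH hβ)) hnE
        rwa [inv_inv]
      · have h1 := hχB β hβ
        have h2 := (autInducedBy S Q).mul_mem ((autInducedBy S Q).mul_mem hr' h1)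
          ((autInducedBy S Q).inv_mem hr')
        have hχ' : χ = r⁻¹ * (n : MulAut Q)⁻¹ := by
          rw [← mul_inv_rev, ← hχnr, inv_inv]
        have e : r * (χ * β * χ⁻¹) * r⁻¹ = (n : MulAut Q)⁻¹ * β * ((n : MulAut Q)⁻¹)⁻¹ := by
          rw [hχ']; group
        rwa [e] at h2
    · -- some `v ∈ C_S(Q)` outside `T`
      obtain ⟨v, hvC, hvT⟩ := SetLike.not_le_iff_exists.mp hcen
      have hvS : v ∈ S := hvC.1
      have hvc : v ∈ Subgroup.centralizer (Q : Set Ω) := hvC.2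
      rw [Subgroup.mem_centralizer_iff] at hvc
      have hδv : δ ⟨v, hvS⟩ ≠ 1 := fun h => hvT ((hDD.ker _).mp h)
      refine ⟨χ, fun β hβ => ?_⟩
      obtain ⟨s, hsS, hs⟩ := (FSBasic.mem_autInducedBy_iff _).mp (hχB β hβ)
      obtain ⟨k, hk⟩ := hprime ⟨v, hvS⟩ ⟨s, hsS⟩ hδv
      refine (FSBasic.mem_autInducedBy_iff _).mpr ⟨(v ^ k)⁻¹ * s, ?_, fun x => ?_⟩
      · have h1 : δ ((⟨v, hvS⟩ ^ k)⁻¹ * ⟨s, hsS⟩) = 1 := by
          rw [map_mul, map_inv, map_pow, hk, inv_mul_cancel]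
        exact (hDD.ker _).mp h1
      · have hy : (((χ * β * χ⁻¹) x : Q) : Ω) = s * x * s⁻¹ := hs x
        have hc : (((χ * β * χ⁻¹) x : Q) : Ω) * v ^ k = v ^ k * (((χ * β * χ⁻¹) x : Q) : Ω) := by
          have h1 : Commute (((χ * β * χ⁻¹) x : Q) : Ω) v := hvc _ ((χ * β * χ⁻¹) x).2
          exact (h1.pow_right k).eq
        generalize v ^ k = w at hc ⊢
        have e : w⁻¹ * s * (x : Ω) * (w⁻¹ * s)⁻¹ = w⁻¹ * (s * x * s⁻¹) * w := by group
        rw [e, ← hy]
        generalize (((χ * β * χ⁻¹) x : Q) : Ω) = y at hc ⊢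
        rw [mul_assoc, hc, ← mul_assoc, inv_mul_cancel, one_mul]
  -- the Sylow subgroup
  have hKp' : IsPGroup p ((autInducedBy T Q).subgroupOf (E.autGroup Q)) :=
    hKp.comap_of_injective _ (Subgroup.subtype_injective _)
  have hmax : ∀ {P' : Subgroup (E.autGroup Q)}, IsPGroup p P' →
      (autInducedBy T Q).subgroupOf (E.autGroup Q) ≤ P' →
      P' = (autInducedBy T Q).subgroupOf (E.autGroup Q) := by
    intro P' hP' hle
    have hBH : P'.map (E.autGroup Q).subtype ≤ E.autGroup Q := by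
      rintro _ ⟨x, -, rfl⟩
      exact x.2
    obtain ⟨χ, hχ⟩ := key (P'.map (E.autGroup Q).subtype) (hP'.map _) hBH
    have hKB : autInducedBy T Q ≤ P'.map (E.autGroup Q).subtype := by
      intro α hα
      exact ⟨⟨α, hKH hα⟩, hle (Subgroup.mem_subgroupOf.mpr hα), rfl⟩
    have hcard : Nat.card (P'.map (E.autGroup Q).subtype) ≤ Nat.card (autInducedBy T Q) := by
      refine Nat.card_le_card_of_injective
        (fun β : P'.map (E.autGroup Q).subtype => (⟨χ * β * χ⁻¹, hχ β β.2⟩ : autInducedBy T Q)) ?_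
      intro β β' h
      have h1 : χ * (β : MulAut Q) * χ⁻¹ = χ * (β' : MulAut Q) * χ⁻¹ := congrArg Subtype.val h
      exact Subtype.ext (mul_left_cancel (mul_right_cancel h1))
    have heq := Subgroup.eq_of_le_of_card_ge hKB hcard
    apply le_antisymm
    · intro x hx
      rw [Subgroup.mem_subgroupOf, heq]
      exact ⟨x, hx, rfl⟩
    · exact hle
  exact ⟨hQT, ⟨(autInducedBy T Q).subgroupOf (E.autGroup Q), hKp', hmax⟩, rfl⟩

end Cfsg.Agent.Lib.Helper65.PPSFA
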