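import Mathlib
import Cfsg.Agent.Lib.Helper30.PSgStmt
import Cfsg.Agent.Lib.Helper69.PNil
import Cfsg.Agent.Lib.Helper69.Conj

/-! S4321, piece FIN: the final step. `P` a normal Sylow `p`-subgroup, `u ∈ P` with
`p ∣ cs u`, `v` of order `p`; if every `z ∈ P` with `p ∣ cs z` has class size prime to that of
`v` and its `G`-class equal to its `P`-class, then `v` is central. -/

set_option autoImplicit false

namespace Cfsg.Agent.Lib.Helper65.PSgFIN

open Subgroup
open Cfsg.Agent.Lib.Helper55.ClassSize Cfsg.Agent.Lib.Helper30.PSgStmt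

universe u

/-- The product `Z(P) · C₀` as a subgroup of `P`, for subgroups `Z ≤ P ⊓ C_G(P)` and `C₀ ≤ P`. -/
def prodSub {G : Type*} [Group G] (P Z C₀ : Subgroup G) (hZ : Z ≤ P ⊓ centralizer (P : Set G))
    (hC : C₀ ≤ P) : Subgroup P where
  carrier := {x | ∃ z₀ ∈ Z, ∃ c₀ ∈ C₀, (x : G) = z₀ * c₀}
  one_mem' := ⟨1, Z.one_mem, 1, C₀.one_mem, by simp⟩
  mul_mem' := by
    rintro x x' ⟨z₀, hz₀, c₀, hc₀, hx⟩ ⟨z₀', hz₀', c₀', hc₀', hx'⟩
    refine ⟨z₀ * z₀', Z.mul_mem hz₀ hz₀', c₀ * c₀', C₀.mul_mem hc₀ hc₀', ?_⟩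
    have hcomm : c₀ * z₀' = z₀' * c₀ := mem_centralizer_iff.mp (hZ hz₀').2 c₀ (hC hc₀)
    show (x : G) * (x' : G) = z₀ * z₀' * (c₀ * c₀')
    rw [hx, hx']
    calc z₀ * c₀ * (z₀' * c₀') = z₀ * (c₀ * z₀') * c₀' := by group
      _ = z₀ * (z₀' * c₀) * c₀' := by rw [hcomm]
      _ = z₀ * z₀' * (c₀ * c₀') := by group
  inv_mem' := by
    rintro x ⟨z₀, hz₀, c₀, hc₀, hx⟩
    refine ⟨z₀⁻¹, Z.inv_mem hz₀, c₀⁻¹, C₀.inv_mem hc₀, ?_⟩
    have hcomm : c₀⁻¹ * z₀⁻¹ = z₀⁻¹ * c₀⁻¹ :=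
      mem_centralizer_iff.mp (hZ (Z.inv_mem hz₀)).2 c₀⁻¹ (hC (C₀.inv_mem hc₀))
    show (x : G)⁻¹ = z₀⁻¹ * c₀⁻¹
    rw [hx, mul_inv_rev, hcomm]

theorem main : FinDef.{u} := by
  intro G _ _ p _ P u v hPn hu hpu hv H
  by_contra hne
  obtain ⟨t, ht, htv⟩ := Nat.exists_prime_and_dvd hne
  have hft : Fact t.Prime := ⟨ht⟩
  obtain ⟨T⟩ : Nonempty (Sylow t G) := inferInstance
  -- elements commuting with `P` have class size prime to `p`
  have hE : ∀ z : G, (∀ y ∈ (P : Subgroup G), y * z = z * y) → ¬ p ∣ cs z := by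
    intro z hz hp
    have hle : (P : Subgroup G) ≤ centralizer ({z} : Set G) := fun y hy => mem_cent.2 (hz y hy)
    exact P.not_dvd_index (hp.trans (index_dvd_of_le hle))
  -- elements of class size prime to `p` commute with `P`
  have hC : ∀ z : G, ¬ p ∣ cs z → ∀ y ∈ (P : Subgroup G), y * z = z * y := by
    intro z hz y hy
    obtain ⟨g, hg⟩ := Cfsg.Agent.Lib.Helper69.Conj.exists_conj_mem_centralizer_sylow P z hz
    rw [mem_centralizer_iff] at hg
    have h1 := hg (g * y * g⁻¹) (hPn.conj_mem y hy g)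
    have h2 : g * (y * z) * g⁻¹ = g * (z * y) * g⁻¹ := by
      calc g * (y * z) * g⁻¹ = g * y * g⁻¹ * (g * z * g⁻¹) := by group
        _ = g * z * g⁻¹ * (g * y * g⁻¹) := h1
        _ = g * (z * y) * g⁻¹ := by group
    exact mul_left_cancel (mul_right_cancel h2)
  -- a `P`-conjugate centralized by `T`
  have hB : ∀ z ∈ (P : Subgroup G), p ∣ cs z → ∃ x ∈ (P : Subgroup G),
      x * z * x⁻¹ ∈ (P : Subgroup G) ⊓ centralizer ((T : Subgroup G) : Set G) := by
    intro z hz hpz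
    obtain ⟨hcop, hconj⟩ := H z hz hpz
    have htz : ¬ t ∣ cs z := fun h => ht.one_lt.ne' (Nat.eq_one_of_dvd_coprimes hcop h htv)
    obtain ⟨g, hg⟩ := Cfsg.Agent.Lib.Helper69.Conj.exists_conj_mem_centralizer_sylow T z htz
    obtain ⟨x, hxP, hx⟩ := hconj g
    refine ⟨x, hxP, (P : Subgroup G).mul_mem ((P : Subgroup G).mul_mem hxP hz)
      ((P : Subgroup G).inv_mem hxP), ?_⟩
    rw [← hx]
    exact hg
  -- `P = Z(P) C₀`
  have hM : prodSub (P : Subgroup G) ((P : Subgroup G) ⊓ centralizer ((P : Subgroup G) : Set G))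
      ((P : Subgroup G) ⊓ centralizer ((T : Subgroup G) : Set G)) le_rfl inf_le_left = ⊤ := by
    apply Cfsg.Agent.Lib.Helper69.PNil.eq_top_of_forall_conj_mem
    intro x
    by_cases hpx : p ∣ cs (x : G)
    · obtain ⟨y, hyP, hyx⟩ := hB x x.2 hpx
      refine ⟨⟨y, hyP⟩, 1, one_mem _, y * x * y⁻¹, hyx, ?_⟩
      show y * (x : G) * y⁻¹ = 1 * (y * x * y⁻¹)
      rw [one_mul]
    · refine ⟨1, (x : G), ⟨x.2, mem_centralizer_iff.mpr (hC x hpx)⟩, 1, one_mem _, ?_⟩
      show (1 : G) * (x : G) * (1 : G)⁻¹ = x * 1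
      group
  -- elements of `P` with class size divisible by `p` lie in `C₀`
  have hF : ∀ z ∈ (P : Subgroup G), p ∣ cs z →
      z ∈ (P : Subgroup G) ⊓ centralizer ((T : Subgroup G) : Set G) := by
    intro z hz hpz
    obtain ⟨y, hyP, hyz⟩ := hB z hz hpz
    have hyM : (⟨y, hyP⟩ : (P : Subgroup G)) ∈ prodSub (P : Subgroup G)
        ((P : Subgroup G) ⊓ centralizer ((P : Subgroup G) : Set G))
        ((P : Subgroup G) ⊓ centralizer ((T : Subgroup G) : Set G)) le_rfl inf_le_left := by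
      rw [hM]; exact mem_top _
    obtain ⟨z₀, hz₀, c₀, hc₀, hy⟩ := hyM
    have hy' : y = z₀ * c₀ := hy
    have hcz : c₀ * z * c₀⁻¹ ∈ (P : Subgroup G) :=
      (P : Subgroup G).mul_mem ((P : Subgroup G).mul_mem hc₀.1 hz) ((P : Subgroup G).inv_mem hc₀.1)
    have hcomm := mem_centralizer_iff.mp hz₀.2 _ hcz
    have h1 : y * z * y⁻¹ = c₀ * z * c₀⁻¹ := by
      rw [hy']
      calc z₀ * c₀ * z * (z₀ * c₀)⁻¹ = z₀ * (c₀ * z * c₀⁻¹) * z₀⁻¹ := by group
        _ = c₀ * z * c₀⁻¹ * z₀ * z₀⁻¹ := by rw [hcomm]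
        _ = c₀ * z * c₀⁻¹ := by group
    rw [h1] at hyz
    have h3 := mul_mem (mul_mem (inv_mem hc₀) hyz) hc₀
    have e : c₀⁻¹ * (c₀ * z * c₀⁻¹) * c₀ = z := by group
    rwa [e] at h3
  -- all of `P` lies in `C₀`
  have huC := hF u hu hpu
  have hG : ∀ a ∈ (P : Subgroup G),
      a ∈ (P : Subgroup G) ⊓ centralizer ((T : Subgroup G) : Set G) := by
    intro a ha
    by_cases hpa : p ∣ cs a
    · exact hF a ha hpa
    · have hac := hC a hpa
      have hpau : p ∣ cs (a * u) := by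
        by_contra h
        have hauc := hC (a * u) h
        apply hE u _ hpu
        intro y hy
        have h1 := hauc y hy
        have h2 := hac y hy
        have h3 : a * (y * u) = a * (u * y) := by
          calc a * (y * u) = a * y * u := by group
            _ = y * a * u := by rw [h2]
            _ = y * (a * u) := by group
            _ = a * u * y := h1
            _ = a * (u * y) := by group
        exact mul_left_cancel h3
      have h4 := hF (a * u) ((P : Subgroup G).mul_mem ha hu) hpau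
      have h5 := mul_mem h4 (inv_mem huC)
      have e : a * u * u⁻¹ = a := by group
      rwa [e] at h5
  -- `v ∈ P`
  have hvP : v ∈ (P : Subgroup G) := by
    obtain ⟨g, hg⟩ := Cfsg.Agent.Lib.Helper69.PNil.exists_conj_mem_of_not_dvd_index p
      (P : Subgroup G) P.not_dvd_index v ⟨1, by rw [hv, pow_one]⟩
    have h1 := hPn.conj_mem _ hg g
    have e : g * (g⁻¹ * v * g) * g⁻¹ = v := by group
    rwa [e] at h1
  have hvT := mem_centralizer_iff.mp (hG v hvP).2
  have hle : (T : Subgroup G) ≤ centralizer ({v} : Set G) := fun w hw => mem_cent.2 (hvT w hw)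
  exact T.not_dvd_index (htv.trans (index_dvd_of_le hle))

end Cfsg.Agent.Lib.Helper65.PSgFIN
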