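import Mathlib
import Cfsg.Agent.Lib.Helper65.NilCover
import Cfsg.Agent.Lib.Helper65.NilCoprime

set_option autoImplicit false

namespace Cfsg.Agent.Lib.Helper65.PglBase

open Matrix

/-- The injection principle for covers: a cover by proper subgroups `D i`, each with a witness
`h i` whose nilpotent overgroups all lie in `E i`, such that the `E i` only contain witnesses of
the same `D i`, and an element outside all `E i`, rule out a nilpotent cover of least size. -/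
theorem no_nilpotent_min_cover_inj {G : Type*} [Group G] [Finite G] {I : Type*} (h : I → G)
    (D E : I → Subgroup G)
    (hcov : ∀ g : G, ∃ i, g ∈ D i) (hD : ∀ i, D i ≠ ⊤)
    (hE : ∀ i, ∀ A : Subgroup G, Group.IsNilpotent A → h i ∈ A → A ≤ E i)
    (hinj : ∀ i j, h i ∈ E j → D i = D j)
    (t₀ : G) (ht₀ : ∀ i, t₀ ∉ E i) :
    ¬ ∃ 𝓐 : Finset (Subgroup G), ((∀ A ∈ 𝓐, A ≠ ⊤) ∧ (∀ g : G, ∃ A ∈ 𝓐, g ∈ A)) ∧
      (∀ 𝓑 : Finset (Subgroup G), (∀ A ∈ 𝓑, A ≠ ⊤) ∧ (∀ g : G, ∃ A ∈ 𝓑, g ∈ A) →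
        𝓐.card ≤ 𝓑.card) ∧ (∀ A ∈ 𝓐, Group.IsNilpotent ↥A) := by
  classical
  rintro ⟨𝓐, hcovA, hmin, hnil⟩
  have hfin : (Set.range D).Finite := Set.toFinite _
  set 𝓑 : Finset (Subgroup G) := hfin.toFinset with h𝓑
  have hB : (∀ A ∈ 𝓑, A ≠ ⊤) ∧ (∀ g : G, ∃ A ∈ 𝓑, g ∈ A) := by
    refine ⟨?_, ?_⟩
    · intro A hA
      rw [h𝓑, Set.Finite.mem_toFinset] at hA
      obtain ⟨i, rfl⟩ := hA
      exact hD i
    · intro g
      obtain ⟨i, hi⟩ := hcov g
      exact ⟨D i, by rw [h𝓑, Set.Finite.mem_toFinset]; exact ⟨i, rfl⟩, hi⟩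
  have hcard := hmin 𝓑 hB
  have hidx : ∀ B ∈ 𝓑, ∃ i, D i = B := by
    intro B hB'
    rw [h𝓑, Set.Finite.mem_toFinset] at hB'
    exact hB'
  choose idx hidx' using hidx
  have hmem : ∀ B (hB' : B ∈ 𝓑), ∃ A ∈ 𝓐, h (idx B hB') ∈ A := fun B hB' =>
    hcovA.2 (h (idx B hB'))
  choose f hf hf' using hmem
  have hsurj := Finset.surj_on_of_inj_on_of_card_le (s := 𝓑) (t := 𝓐) f hf (by
    intro B₁ B₂ h₁ h₂ heq
    have h1 : h (idx B₁ h₁) ∈ E (idx B₂ h₂) := by
      have := hE (idx B₂ h₂) (f B₂ h₂) (hnil _ (hf B₂ h₂)) (hf' B₂ h₂)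
      apply this
      rw [← heq]
      exact hf' B₁ h₁
    have := hinj _ _ h1
    rw [hidx' B₁ h₁, hidx' B₂ h₂] at this
    exact this) hcard
  obtain ⟨A₀, hA₀, ht₀A⟩ := hcovA.2 t₀
  obtain ⟨B, hB', rfl⟩ := hsurj A₀ hA₀
  exact ht₀ (idx B hB') (hE (idx B hB') (f B hB') (hnil _ (hf B hB')) (hf' B hB') ht₀A)

variable {F : Type*} [Field F] {n : ℕ}

/-- projective commutation of matrices -/
def PC (a b : Matrix (Fin n) (Fin n) F) : Prop := ∃ c : F, c ≠ 0 ∧ a * b = c • (b * a)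

/-- scalar matrices -/
def IsSc (a : Matrix (Fin n) (Fin n) F) : Prop := ∃ c : F, a = c • 1

theorem PC.symm {a b : Matrix (Fin n) (Fin n) F} (h : PC a b) : PC b a := by
  obtain ⟨c, hc, h⟩ := h
  refine ⟨c⁻¹, inv_ne_zero hc, ?_⟩
  rw [h, smul_smul, inv_mul_cancel₀ hc, one_smul]

theorem PC.of_comm {a b : Matrix (Fin n) (Fin n) F} (h : a * b = b * a) : PC a b :=
  ⟨1, one_ne_zero, by rw [one_smul, h]⟩

/-- the projection to the projective general linear group -/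
abbrev pr (n : ℕ) (F : Type*) [Field F] :
    GL (Fin n) F →* GL (Fin n) F ⧸ Subgroup.center (GL (Fin n) F) :=
  QuotientGroup.mk' (Subgroup.center (GL (Fin n) F))

theorem mem_center_of_isSc (a : GL (Fin n) F) (h : IsSc a.1) :
    a ∈ Subgroup.center (GL (Fin n) F) := by
  obtain ⟨c, hc⟩ := h
  rw [Subgroup.mem_center_iff]
  intro g
  apply Units.ext
  simp [hc]

theorem isSc_of_mem_center (a : GL (Fin n) F) (h : a ∈ Subgroup.center (GL (Fin n) F)) :
    IsSc a.1 := by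
  obtain ⟨c, hc⟩ := Matrix.GeneralLinearGroup.mem_center_iff_val_mem_range_scalar.mp h
  refine ⟨c, ?_⟩
  rw [← hc, Matrix.smul_one_eq_diagonal]
  rfl

theorem pr_eq_one_iff (a : GL (Fin n) F) : pr n F a = 1 ↔ IsSc a.1 := by
  rw [QuotientGroup.mk'_apply, QuotientGroup.eq_one_iff]
  exact ⟨isSc_of_mem_center a, mem_center_of_isSc a⟩

theorem pc_of_pr_comm [NeZero n] (a b : GL (Fin n) F) (h : pr n F a * pr n F b = pr n F b * pr n F a) :
    PC a.1 b.1 := by
  have h1 : pr n F ((b * a)⁻¹ * (a * b)) = 1 := by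
    rw [map_mul, map_inv, map_mul, map_mul, h]
    group
  obtain ⟨c, hc⟩ := (pr_eq_one_iff _).mp h1
  have h2 : (a * b : GL (Fin n) F) = (b * a) * ((b * a)⁻¹ * (a * b)) := by group
  have h3 : a.1 * b.1 = (b.1 * a.1) * (c • (1 : Matrix (Fin n) (Fin n) F)) := by
    have := congrArg (fun x : GL (Fin n) F => (x : Matrix (Fin n) (Fin n) F)) h2
    simp only [Units.val_mul] at this
    rw [← hc]
    simpa only [Units.val_mul] using this
  refine ⟨c, ?_, by rw [h3]; simp⟩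
  rintro rfl
  rw [zero_smul, mul_zero] at h3
  have h4 : ((a * b : GL (Fin n) F) : Matrix (Fin n) (Fin n) F) = 0 := by
    rw [Units.val_mul]; exact h3
  have h5 : ((a * b)⁻¹ * (a * b) : GL (Fin n) F) = 1 := inv_mul_cancel _
  have h6 := congrArg (fun x : GL (Fin n) F => (x : Matrix (Fin n) (Fin n) F) 0 0) h5
  simp only [Units.val_mul, h4, mul_zero, Units.val_one, Matrix.zero_apply, Matrix.one_apply_eq] at h6
  exact zero_ne_one h6

theorem pr_comm_of_comm (a b : GL (Fin n) F) (h : a.1 * b.1 = b.1 * a.1) :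
    pr n F a * pr n F b = pr n F b * pr n F a := by
  rw [← map_mul, ← map_mul]
  congr 1
  apply Units.ext
  simpa only [Units.val_mul] using h

section frame

variable (G : Subgroup (GL (Fin n) F ⧸ Subgroup.center (GL (Fin n) F)))
  (hG : ((Matrix.SpecialLinearGroup.toGL :
      Matrix.SpecialLinearGroup (Fin n) F →* GL (Fin n) F).range).map
      (QuotientGroup.mk' (Subgroup.center (GL (Fin n) F))) ≤ G)

/-- the image of a special linear matrix in the intermediate group -/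
def iG (s : Matrix.SpecialLinearGroup (Fin n) F) : ↥G :=
  ⟨pr n F (Matrix.SpecialLinearGroup.toGL s),
    hG (Subgroup.mem_map_of_mem _ ⟨s, rfl⟩)⟩

theorem iG_val (s : Matrix.SpecialLinearGroup (Fin n) F) :
    (iG G hG s : GL (Fin n) F ⧸ Subgroup.center (GL (Fin n) F)) =
      pr n F (Matrix.SpecialLinearGroup.toGL s) := rfl

theorem iG_mul (s s' : Matrix.SpecialLinearGroup (Fin n) F) :
    iG G hG (s * s') = iG G hG s * iG G hG s' := by
  apply Subtype.ext
  simp [iG_val]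

theorem iG_pow (s : Matrix.SpecialLinearGroup (Fin n) F) (k : ℕ) :
    iG G hG (s ^ k) = iG G hG s ^ k := by
  apply Subtype.ext
  simp [iG_val]

theorem iG_inv (s : Matrix.SpecialLinearGroup (Fin n) F) :
    iG G hG s⁻¹ = (iG G hG s)⁻¹ := by
  apply Subtype.ext
  simp [iG_val]

theorem iG_ne_one (s : Matrix.SpecialLinearGroup (Fin n) F) (hs : ¬ IsSc s.1) :
    iG G hG s ≠ 1 := by
  intro h
  have h1 : pr n F (Matrix.SpecialLinearGroup.toGL s) = 1 := by
    rw [← iG_val G hG, h]; rfl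
  exact hs ((pr_eq_one_iff _).mp h1)

/-- every element of the intermediate group lifts to a matrix -/
theorem exists_lift (y : ↥G) : ∃ y' : GL (Fin n) F, pr n F y' = y.1 :=
  QuotientGroup.mk'_surjective _ y.1

/-- projective commutation from commutation in the intermediate group -/
theorem pc_of_comm_G [NeZero n] (x y : ↥G) (x' y' : GL (Fin n) F) (hx : pr n F x' = x.1)
    (hy : pr n F y' = y.1) (h : x * y = y * x) : PC x'.1 y'.1 := by
  apply pc_of_pr_comm
  rw [hx, hy]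
  have := congrArg Subtype.val h
  simpa using this

/-- a nontrivial nilpotent subgroup has a central element represented by a non-scalar matrix -/
theorem exists_central_lift [NeZero n] (A : Subgroup ↥G) (hA : Group.IsNilpotent A) (x : ↥G)
    (hx : x ∈ A) (hx1 : x ≠ 1) :
    ∃ z : ↥G, z ∈ A ∧ ∃ z' : GL (Fin n) F, pr n F z' = z.1 ∧ ¬ IsSc z'.1 ∧
      ∀ y ∈ A, ∀ y' : GL (Fin n) F, pr n F y' = y.1 → PC y'.1 z'.1 := by
  obtain ⟨z, hz, hz1, hzc⟩ := NilCover.exists_central A hA x hx hx1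
  obtain ⟨z', hz'⟩ := exists_lift G z
  refine ⟨z, hz, z', hz', ?_, ?_⟩
  · intro hsc
    apply hz1
    apply Subtype.ext
    rw [← hz', (pr_eq_one_iff _).mpr hsc]
    rfl
  · intro y hy y' hy'
    exact pc_of_comm_G G y z y' z' hy' hz' (hzc y hy)

/-- the condition available for members of a nilpotent subgroup containing the image of `t` -/
def Q (t : Matrix.SpecialLinearGroup (Fin n) F) (y : GL (Fin n) F) : Prop :=
  ∀ r : ℕ, Odd r → t ^ r = 1 → (∃ c : F, y.1 * y.1 = c • 1) → PC y.1 t.1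

/-- nilpotent overgroups of the image of `t` lie in the image of `HL` -/
theorem nil_le [NeZero n] (HL : Subgroup (GL (Fin n) F)) (t : Matrix.SpecialLinearGroup (Fin n) F)
    (h1 : ∀ z y : GL (Fin n) F, ¬ IsSc z.1 → PC z.1 t.1 → PC y.1 z.1 → Q t y → y ∈ HL)
    (A : Subgroup ↥G) (hA : Group.IsNilpotent A) (ht : iG G hG t ∈ A) :
    A ≤ (HL.map (pr n F)).subgroupOf G := by
  intro y hy
  by_cases hy1 : y = 1
  · rw [hy1]; exact Subgroup.one_mem _
  obtain ⟨z, hz, z', hz', hzns, hzc⟩ := exists_central_lift G A hA y hy hy1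
  obtain ⟨y', hy'⟩ := exists_lift G y
  have hzt : PC z'.1 t.1 := (hzc _ ht (Matrix.SpecialLinearGroup.toGL t) rfl).symm
  have hQ : Q t y' := by
    intro r hr htr hsq
    have : Group.IsNilpotent A := hA
    have hy2 : (⟨y, hy⟩ : A) ^ 2 = 1 := by
      apply Subtype.ext
      apply Subtype.ext
      show (y.1) ^ 2 = 1
      rw [← hy', ← map_pow, pr_eq_one_iff]
      obtain ⟨c, hc⟩ := hsq
      exact ⟨c, by rw [pow_two, Units.val_mul, hc]⟩
    have ht2 : (⟨iG G hG t, ht⟩ : A) ^ r = 1 := by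
      apply Subtype.ext
      show (iG G hG t) ^ r = 1
      rw [← iG_pow, htr]
      apply Subtype.ext
      simp [iG_val]
    have hc := NilCoprime.commute_of_coprime A (⟨y, hy⟩ : A) ⟨iG G hG t, ht⟩
      (isOfFinOrder_iff_pow_eq_one.mpr ⟨2, by norm_num, hy2⟩)
      (isOfFinOrder_iff_pow_eq_one.mpr ⟨r, hr.pos, ht2⟩)
      (Nat.Coprime.coprime_dvd_left (orderOf_dvd_of_pow_eq_one hy2)
        (Nat.Coprime.coprime_dvd_right (orderOf_dvd_of_pow_eq_one ht2)
          (Nat.coprime_two_left.mpr hr)))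
    have hc' : y * iG G hG t = iG G hG t * y := by
      have := congrArg Subtype.val hc
      simpa using this
    exact pc_of_comm_G G y (iG G hG t) y' (Matrix.SpecialLinearGroup.toGL t) hy' rfl hc'
  have hyHL := h1 z' y' hzns hzt (hzc y hy y' hy') hQ
  rw [Subgroup.mem_subgroupOf]
  exact ⟨y', hyHL, hy'⟩

end frame

/-- the two-element criterion at the level of matrices -/
theorem two_elt_criterion [NeZero n]
    (G : Subgroup (GL (Fin n) F ⧸ Subgroup.center (GL (Fin n) F)))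
    (hG : ((Matrix.SpecialLinearGroup.toGL :
      Matrix.SpecialLinearGroup (Fin n) F →* GL (Fin n) F).range).map
      (QuotientGroup.mk' (Subgroup.center (GL (Fin n) F))) ≤ G)
    (HL : Subgroup (GL (Fin n) F))
    (hZ : ∀ a : GL (Fin n) F, IsSc a.1 → a ∈ HL)
    (τ t u : Matrix.SpecialLinearGroup (Fin n) F)
    (hτ : Matrix.SpecialLinearGroup.toGL τ ∉ HL) (htns : ¬ IsSc t.1)
    (h1 : ∀ z y : GL (Fin n) F, ¬ IsSc z.1 → PC z.1 t.1 → PC y.1 z.1 → Q t y → y ∈ HL)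
    (h2 : ∀ z y : GL (Fin n) F, ¬ IsSc z.1 → PC z.1 u.1 → PC y.1 z.1 → Q u y → y ∈ HL)
    (h3 : ∀ z : GL (Fin n) F, ¬ IsSc z.1 → PC z.1 t.1 → PC z.1 u.1 → False) :
    ¬ ∃ 𝓐 : Finset (Subgroup ↥G), ((∀ A ∈ 𝓐, A ≠ ⊤) ∧ (∀ g : ↥G, ∃ A ∈ 𝓐, g ∈ A)) ∧
      (∀ 𝓑 : Finset (Subgroup ↥G), (∀ A ∈ 𝓑, A ≠ ⊤) ∧ (∀ g : ↥G, ∃ A ∈ 𝓑, g ∈ A) →
        𝓐.card ≤ 𝓑.card) ∧ (∀ A ∈ 𝓐, Group.IsNilpotent ↥A) := by
  apply NilCover.no_nilpotent_min_cover ((HL.map (pr n F)).subgroupOf G) ?_ (iG G hG u) (iG G hG t)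
    (fun A hA hu => nil_le G hG HL u h2 A hA hu) (fun A hA ht => nil_le G hG HL t h1 A hA ht)
  · intro A hA hu ht
    obtain ⟨z, hz, z', hz', hzns, hzc⟩ := exists_central_lift G A hA _ ht (iG_ne_one G hG t htns)
    exact h3 z' hzns (hzc _ ht (Matrix.SpecialLinearGroup.toGL t) rfl).symm
      (hzc _ hu (Matrix.SpecialLinearGroup.toGL u) rfl).symm
  · intro htop
    have hmem : iG G hG τ ∈ (HL.map (pr n F)).subgroupOf G := by rw [htop]; trivial
    rw [Subgroup.mem_subgroupOf] at hmem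
    obtain ⟨y, hyHL, hy⟩ := hmem
    have h1' : pr n F (y⁻¹ * Matrix.SpecialLinearGroup.toGL τ) = 1 := by
      rw [map_mul, map_inv, hy]
      exact inv_mul_cancel _
    have h2' := hZ _ ((pr_eq_one_iff _).mp h1')
    apply hτ
    have : Matrix.SpecialLinearGroup.toGL τ = y * (y⁻¹ * Matrix.SpecialLinearGroup.toGL τ) := by
      group
    rw [this]
    exact HL.mul_mem hyHL h2'

end Cfsg.Agent.Lib.Helper65.PglBase
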