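import Mathlib
import Cfsg.Agent.Lib.Helper65.PglBase

set_option autoImplicit false

namespace Cfsg.Agent.Lib.Helper65.PglBig

open Matrix Cfsg.Agent.Lib.Helper65.PglBase

/-- a Singer cycle: an invertible matrix whose powers act transitively on nonzero vectors -/
theorem exists_singer (F : Type*) [Field F] [Fintype F] (d : ℕ) [NeZero d] :
    ∃ S : Matrix (Fin d) (Fin d) F, IsUnit S ∧
      ∀ v w : Fin d → F, v ≠ 0 → w ≠ 0 → ∃ k : ℕ, w = (S ^ k) *ᵥ v := by
  classical
  obtain ⟨p, hp⟩ := CharP.exists F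
  have : Fact p.Prime := ⟨CharP.char_is_prime F p⟩
  let K := FiniteField.Extension F p d
  have hfr : Module.finrank F K = d := FiniteField.finrank_extension F p d
  let b : Module.Basis (Fin d) F K := Module.finBasisOfFinrankEq F K hfr
  obtain ⟨θ, hθ⟩ := IsCyclic.exists_generator (α := Kˣ)
  refine ⟨Algebra.leftMulMatrix b (θ : K), ?_, ?_⟩
  · apply IsUnit.of_mul_eq_one (Algebra.leftMulMatrix b ((θ⁻¹ : Kˣ) : K))
    rw [← map_mul]
    simp
  · intro v w hv hw
    set x : K := b.equivFun.symm v with hx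
    set y : K := b.equivFun.symm w with hy
    have hx0 : x ≠ 0 := by
      intro h
      apply hv
      have : b.equivFun x = v := b.equivFun.apply_symm_apply v
      rw [← this, h, map_zero]
    have hy0 : y ≠ 0 := by
      intro h
      apply hw
      have : b.equivFun y = w := b.equivFun.apply_symm_apply w
      rw [← this, h, map_zero]
    have hmem : Units.mk0 (y * x⁻¹) (mul_ne_zero hy0 (inv_ne_zero hx0)) ∈ Submonoid.powers θ :=
      mem_powers_iff_mem_zpowers.mpr (hθ _)
    obtain ⟨k, hk⟩ := hmem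
    refine ⟨k, ?_⟩
    have hk' : (θ : K) ^ k = y * x⁻¹ := by
      have := congrArg (fun u : Kˣ => (u : K)) hk
      simpa using this
    have h1 : (Algebra.leftMulMatrix b (θ : K)) ^ k = Algebra.leftMulMatrix b ((θ : K) ^ k) := by
      rw [map_pow]
    have hv' : v = b.repr x := (b.equivFun.apply_symm_apply v).symm
    have hw' : w = b.repr y := (b.equivFun.apply_symm_apply w).symm
    rw [h1, hv', Algebra.leftMulMatrix_mulVec_repr, hk', hw']
    rw [mul_assoc, inv_mul_cancel₀ hx0, mul_one]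


variable {F : Type*} [Field F] {d : ℕ}

theorem isUnit_of_ker (M : Matrix (Fin d) (Fin d) F) (h : ∀ v, M *ᵥ v = 0 → v = 0) :
    IsUnit M := by
  rw [← Matrix.mulVec_injective_iff_isUnit]
  intro v w hvw
  have := h (v - w) (by rw [Matrix.mulVec_sub, hvw, sub_self])
  exact sub_eq_zero.mp this

theorem row_ker_of_isUnit (M : Matrix (Fin d) (Fin d) F) (h : IsUnit M) (r : Fin d → F)
    (hr : r ᵥ* M = 0) : r = 0 := by
  have := Matrix.vecMul_injective_iff_isUnit.mpr h
  apply this
  show r ᵥ* M = 0 ᵥ* M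
  rw [hr, Matrix.zero_vecMul]

theorem col_ker_of_isUnit (M : Matrix (Fin d) (Fin d) F) (h : IsUnit M) (v : Fin d → F)
    (hv : M *ᵥ v = 0) : v = 0 := by
  have := Matrix.mulVec_injective_iff_isUnit.mpr h
  apply this
  show M *ᵥ v = M *ᵥ 0
  rw [hv, Matrix.mulVec_zero]

/-- the dichotomy for matrices commuting with a Singer cycle -/
theorem singer_dich (S : Matrix (Fin d) (Fin d) F)
    (hS : ∀ v w : Fin d → F, v ≠ 0 → w ≠ 0 → ∃ k : ℕ, w = (S ^ k) *ᵥ v)
    (P : Matrix (Fin d) (Fin d) F) (hP : P * S = S * P) : P = 0 ∨ IsUnit P := by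
  by_cases h : ∀ v, P *ᵥ v = 0 → v = 0
  · exact Or.inr (isUnit_of_ker P h)
  · left
    push Not at h
    obtain ⟨v, hv, hv0⟩ := h
    have hall : ∀ w, P *ᵥ w = 0 := by
      intro w
      by_cases hw : w = 0
      · rw [hw, Matrix.mulVec_zero]
      · obtain ⟨k, rfl⟩ := hS v w hv0 hw
        have hc : Commute P (S ^ k) := Commute.pow_right hP k
        rw [Matrix.mulVec_mulVec, hc.eq, ← Matrix.mulVec_mulVec, hv, Matrix.mulVec_zero]
    ext i j
    have := congrFun (hall (Pi.single j 1)) i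
    simpa using this

/-- a Singer cycle in dimension at least two has no eigenvalue in the base field -/
theorem singer_sub_unit (S : Matrix (Fin d) (Fin d) F)
    (hS : ∀ v w : Fin d → F, v ≠ 0 → w ≠ 0 → ∃ k : ℕ, w = (S ^ k) *ᵥ v)
    (i0 i1 : Fin d) (h01 : i0 ≠ i1) (β : F) : IsUnit (S - β • (1 : Matrix (Fin d) (Fin d) F)) := by
  apply isUnit_of_ker
  intro v hv
  by_contra hv0
  have hSv : S *ᵥ v = β • v := by
    have : (S - β • (1 : Matrix (Fin d) (Fin d) F)) *ᵥ v = S *ᵥ v - β • v := by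
      rw [Matrix.sub_mulVec, Matrix.smul_mulVec, Matrix.one_mulVec]
    rw [this] at hv
    exact sub_eq_zero.mp hv
  have hpow : ∀ k : ℕ, (S ^ k) *ᵥ v = β ^ k • v := by
    intro k
    induction k with
    | zero => simp
    | succ k ih =>
      rw [pow_succ, ← Matrix.mulVec_mulVec, hSv, Matrix.mulVec_smul, ih, smul_smul, pow_succ, mul_comm]
  have h0 : (Pi.single i0 (1 : F) : Fin d → F) ≠ 0 := by
    intro h
    have := congrFun h i0
    simp at this
  have h1 : (Pi.single i1 (1 : F) : Fin d → F) ≠ 0 := by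
    intro h
    have := congrFun h i1
    simp at this
  obtain ⟨k0, hk0⟩ := hS v _ hv0 h0
  obtain ⟨k1, hk1⟩ := hS v _ hv0 h1
  rw [hpow] at hk0 hk1
  have e1 := congrFun hk0 i0
  have e2 := congrFun hk0 i1
  have e3 := congrFun hk1 i1
  simp only [Pi.single_eq_same, Pi.smul_apply, smul_eq_mul, Pi.single_apply, h01.symm,
    if_false] at e1 e2 e3
  have hb : β ^ k0 ≠ 0 := by
    intro hb; rw [hb, zero_mul] at e1; exact one_ne_zero e1
  have hv1 : v i1 = 0 := by
    rcases mul_eq_zero.mp e2.symm with h | h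
    · exact absurd h hb
    · exact h
  rw [hv1, mul_zero] at e3
  exact one_ne_zero e3


/-- block diagonal matrix with a scalar and a square block -/
def blk (a : F) (S : Matrix (Fin d) (Fin d) F) : Matrix (Fin (d + 1)) (Fin (d + 1)) F :=
  Matrix.of fun i j =>
    Fin.cases (Fin.cases a (fun _ => 0) j) (fun i' => Fin.cases 0 (fun j' => S i' j') j) i

@[simp] theorem blk_zero_zero (a : F) (S : Matrix (Fin d) (Fin d) F) : blk a S 0 0 = a := by
  simp [blk]

@[simp] theorem blk_zero_succ (a : F) (S : Matrix (Fin d) (Fin d) F) (j : Fin d) :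
    blk a S 0 j.succ = 0 := by
  simp [blk]

@[simp] theorem blk_succ_zero (a : F) (S : Matrix (Fin d) (Fin d) F) (i : Fin d) :
    blk a S i.succ 0 = 0 := by
  simp [blk]

@[simp] theorem blk_succ_succ (a : F) (S : Matrix (Fin d) (Fin d) F) (i j : Fin d) :
    blk a S i.succ j.succ = S i j := by
  simp [blk]

theorem mul_blk_zero (z : Matrix (Fin (d + 1)) (Fin (d + 1)) F) (a : F)
    (S : Matrix (Fin d) (Fin d) F) (i : Fin (d + 1)) : (z * blk a S) i 0 = z i 0 * a := by
  rw [Matrix.mul_apply, Fin.sum_univ_succ]; simp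

theorem mul_blk_succ (z : Matrix (Fin (d + 1)) (Fin (d + 1)) F) (a : F)
    (S : Matrix (Fin d) (Fin d) F) (i : Fin (d + 1)) (j : Fin d) :
    (z * blk a S) i j.succ = ∑ l, z i l.succ * S l j := by
  rw [Matrix.mul_apply, Fin.sum_univ_succ]; simp

theorem blk_mul_zero (z : Matrix (Fin (d + 1)) (Fin (d + 1)) F) (a : F)
    (S : Matrix (Fin d) (Fin d) F) (j : Fin (d + 1)) : (blk a S * z) 0 j = a * z 0 j := by
  rw [Matrix.mul_apply, Fin.sum_univ_succ]; simp

theorem blk_mul_succ (z : Matrix (Fin (d + 1)) (Fin (d + 1)) F) (a : F)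
    (S : Matrix (Fin d) (Fin d) F) (i : Fin d) (j : Fin (d + 1)) :
    (blk a S * z) i.succ j = ∑ l, S i l * z l.succ j := by
  rw [Matrix.mul_apply, Fin.sum_univ_succ]; simp

theorem det_blk (a : F) (S : Matrix (Fin d) (Fin d) F) : (blk a S).det = a * S.det := by
  rw [Matrix.det_succ_row_zero, Fin.sum_univ_succ]
  have h1 : (blk a S).submatrix Fin.succ Fin.succ = S := by
    ext i j
    simp
  simp [h1]

theorem gl_ker {n : ℕ} (z : GL (Fin n) F) (v : Fin n → F) (h : z.1 *ᵥ v = 0) : v = 0 := by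
  have h1 : (z⁻¹ : GL (Fin n) F).1 *ᵥ (z.1 *ᵥ v) = v := by
    rw [Matrix.mulVec_mulVec, ← Units.val_mul, inv_mul_cancel, Units.val_one, Matrix.one_mulVec]
  rw [← h1, h, Matrix.mulVec_zero]

theorem gl_zero_zero_ne (z : GL (Fin (d + 1)) F) (hcol : ∀ i : Fin d, z.1 i.succ 0 = 0) :
    z.1 0 0 ≠ 0 := by
  intro h0
  have h1 : z.1 *ᵥ (Pi.single 0 1) = 0 := by
    funext i
    rw [Matrix.mulVec_single_one]
    refine Fin.cases ?_ ?_ i
    · simpa using h0
    · intro i'; simpa using hcol i'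
  have := congrFun (gl_ker z _ h1) 0
  simp at this

/-- a matrix commuting projectively with `blk α S`, `S` without eigenvalues, is block diagonal -/
theorem pc_blk (S : Matrix (Fin d) (Fin d) F)
    (hS1 : ∀ (β : F) (v : Fin d → F), S *ᵥ v = β • v → v = 0)
    (hS2 : ∀ (β : F) (r : Fin d → F), r ᵥ* S = β • r → r = 0) (α : F) (hα : α ≠ 0)
    (z : GL (Fin (d + 1)) F) (h : PC z.1 (blk α S)) :
    z.1 = blk (z.1 0 0) (z.1.submatrix Fin.succ Fin.succ) ∧ z.1 0 0 ≠ 0 ∧
      (z.1.submatrix Fin.succ Fin.succ) * S = S * (z.1.submatrix Fin.succ Fin.succ) := by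
  obtain ⟨c, hc, h⟩ := h
  have hcol : ∀ i : Fin d, z.1 i.succ 0 = 0 := by
    have : (fun l : Fin d => z.1 l.succ 0) = 0 := by
      apply hS1 (α / c)
      funext i
      have h1 := congrFun (congrFun h i.succ) 0
      rw [mul_blk_zero, Matrix.smul_apply, blk_mul_succ, smul_eq_mul] at h1
      simp only [Matrix.mulVec, dotProduct, Pi.smul_apply, smul_eq_mul]
      rw [div_mul_eq_mul_div, eq_div_iff hc]
      linear_combination -h1
    intro i
    exact congrFun this i
  have hrow : ∀ j : Fin d, z.1 0 j.succ = 0 := by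
    have : (fun l : Fin d => z.1 0 l.succ) = 0 := by
      apply hS2 (c * α)
      funext j
      have h1 := congrFun (congrFun h 0) j.succ
      rw [mul_blk_succ, Matrix.smul_apply, blk_mul_zero, smul_eq_mul] at h1
      simp only [Matrix.vecMul, dotProduct, Pi.smul_apply, smul_eq_mul]
      linear_combination h1
    intro j
    exact congrFun this j
  have h00 : z.1 0 0 ≠ 0 := gl_zero_zero_ne z hcol
  have hc1 : c = 1 := by
    have h1 := congrFun (congrFun h 0) 0
    rw [mul_blk_zero, Matrix.smul_apply, blk_mul_zero, smul_eq_mul] at h1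
    have h2 : (z.1 0 0 * α) * (1 - c) = 0 := by linear_combination h1
    rcases mul_eq_zero.mp h2 with h3 | h3
    · exact absurd h3 (mul_ne_zero h00 hα)
    · linear_combination -h3
  refine ⟨?_, h00, ?_⟩
  · ext i j
    refine Fin.cases ?_ ?_ i
    · refine Fin.cases ?_ ?_ j
      · simp
      · intro j'; simpa using hrow j'
    · intro i'
      refine Fin.cases ?_ ?_ j
      · simpa using hcol i'
      · intro j'; simp
  · ext i j
    have h1 := congrFun (congrFun h i.succ) j.succ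
    rw [mul_blk_succ, Matrix.smul_apply, blk_mul_succ, smul_eq_mul, hc1, one_mul] at h1
    simpa [Matrix.mul_apply] using h1


theorem blk_smul_one (ζ : F) :
    blk ζ (ζ • (1 : Matrix (Fin d) (Fin d) F)) = ζ • (1 : Matrix (Fin (d + 1)) (Fin (d + 1)) F) := by
  ext i j
  refine Fin.cases ?_ ?_ i
  · refine Fin.cases ?_ ?_ j
    · simp
    · intro j'; simp [Matrix.one_apply, (Fin.succ_ne_zero j').symm]
  · intro i'
    refine Fin.cases ?_ ?_ j
    · simp [Matrix.one_apply, Fin.succ_ne_zero]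
    · intro j'; simp [Matrix.one_apply]

theorem eq_blk_of (z : Matrix (Fin (d + 1)) (Fin (d + 1)) F) (hcol : ∀ i : Fin d, z i.succ 0 = 0)
    (hrow : ∀ j : Fin d, z 0 j.succ = 0) : z = blk (z 0 0) (z.submatrix Fin.succ Fin.succ) := by
  ext i j
  refine Fin.cases ?_ ?_ i
  · refine Fin.cases ?_ ?_ j
    · simp
    · intro j'; simpa using hrow j'
  · intro i'
    refine Fin.cases ?_ ?_ j
    · simpa using hcol i'
    · intro j'; simp

/-- members of a nilpotent overgroup stabilise the first coordinate line -/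
theorem stab_of_pc (S : Matrix (Fin d) (Fin d) F)
    (hdich : ∀ P : Matrix (Fin d) (Fin d) F, P * S = S * P → P = 0 ∨ IsUnit P)
    (i0 i1 : Fin d) (h01 : i0 ≠ i1)
    (ζ : F) (hζ : ζ ≠ 0) (Z : Matrix (Fin d) (Fin d) F) (hZS : Z * S = S * Z)
    (z y : GL (Fin (d + 1)) F) (hz : z.1 = blk ζ Z) (hzns : ¬ IsSc z.1) (h : PC y.1 z.1) :
    ∀ i : Fin d, y.1 i.succ 0 = 0 := by
  obtain ⟨μ, hμ, h⟩ := h
  rw [hz] at h
  have hP : (Z - (ζ / μ) • (1 : Matrix (Fin d) (Fin d) F)) * S =
      S * (Z - (ζ / μ) • (1 : Matrix (Fin d) (Fin d) F)) := by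
    rw [Matrix.sub_mul, Matrix.mul_sub, hZS]; simp
  have hv : (Z - (ζ / μ) • (1 : Matrix (Fin d) (Fin d) F)) *ᵥ
      (fun l : Fin d => y.1 l.succ 0) = 0 := by
    funext i
    have h1 := congrFun (congrFun h i.succ) 0
    rw [mul_blk_zero, Matrix.smul_apply, blk_mul_succ, smul_eq_mul] at h1
    rw [Matrix.sub_mulVec, Matrix.smul_mulVec, Matrix.one_mulVec]
    simp only [Matrix.mulVec, dotProduct, Pi.sub_apply, Pi.smul_apply, smul_eq_mul,
      Pi.zero_apply]
    rw [sub_eq_zero, div_mul_eq_mul_div, eq_div_iff hμ]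
    linear_combination -h1
  rcases hdich _ hP with h0 | hu
  · exfalso
    have hZ : Z = (ζ / μ) • (1 : Matrix (Fin d) (Fin d) F) := sub_eq_zero.mp h0
    have hμ1 : μ ≠ 1 := by
      rintro rfl
      apply hzns
      refine ⟨ζ, ?_⟩
      rw [hz, hZ, div_one, blk_smul_one]
    have hy00 : y.1 0 0 = 0 := by
      have h1 := congrFun (congrFun h 0) 0
      rw [mul_blk_zero, Matrix.smul_apply, blk_mul_zero, smul_eq_mul] at h1
      have h2 : (y.1 0 0 * ζ) * (1 - μ) = 0 := by linear_combination h1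
      rcases mul_eq_zero.mp h2 with h3 | h3
      · rcases mul_eq_zero.mp h3 with h4 | h4
        · exact h4
        · exact absurd h4 hζ
      · exact absurd (by linear_combination -h3 : μ = 1) hμ1
    have hyss : ∀ i j : Fin d, y.1 i.succ j.succ = 0 := by
      intro i j
      have h1 := congrFun (congrFun h i.succ) j.succ
      rw [mul_blk_succ, Matrix.smul_apply, blk_mul_succ, smul_eq_mul, hZ] at h1
      simp only [Matrix.smul_apply, Matrix.one_apply, smul_eq_mul, mul_ite, mul_one, mul_zero,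
        ite_mul, zero_mul, Finset.sum_ite_eq, Finset.sum_ite_eq', Finset.mem_univ, if_true] at h1
      have h2 : (y.1 i.succ j.succ * (ζ / μ)) * (1 - μ) = 0 := by linear_combination h1
      rcases mul_eq_zero.mp h2 with h3 | h3
      · rcases mul_eq_zero.mp h3 with h4 | h4
        · exact h4
        · exact absurd h4 (div_ne_zero hζ hμ)
      · exact absurd (by linear_combination -h3 : μ = 1) hμ1
    have hmat : (y⁻¹ : GL (Fin (d + 1)) F).1 * y.1 = 1 := by
      rw [← Units.val_mul, inv_mul_cancel]; rfl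
    have hx : ∀ i j : Fin d, ((y⁻¹ : GL (Fin (d + 1)) F).1 * y.1) i.succ j.succ =
        (y⁻¹ : GL (Fin (d + 1)) F).1 i.succ 0 * y.1 0 j.succ := by
      intro i j
      rw [Matrix.mul_apply, Fin.sum_univ_succ]
      simp [hyss]
    have e00 := hx i0 i0
    have e11 := hx i1 i1
    have e01 := hx i0 i1
    rw [hmat] at e00 e11 e01
    simp only [Matrix.one_apply_eq] at e00 e11
    rw [Matrix.one_apply_ne (fun h => h01 (Fin.succ_injective _ h))] at e01
    rcases mul_eq_zero.mp e01.symm with h3 | h3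
    · rw [h3, zero_mul] at e00; exact one_ne_zero e00
    · rw [h3, mul_zero] at e11; exact one_ne_zero e11
  · exact fun i => congrFun (col_ker_of_isUnit _ hu _ hv) i

/-- the stabiliser of the first coordinate line -/
def stabL (F : Type*) [Field F] (d : ℕ) : Subgroup (GL (Fin (d + 1)) F) where
  carrier := {y | ∀ i : Fin d, y.1 i.succ 0 = 0}
  mul_mem' := by
    intro a b ha hb i
    rw [Units.val_mul, Matrix.mul_apply, Fin.sum_univ_succ]
    have ha' : ∀ i : Fin d, a.1 i.succ 0 = 0 := ha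
    have hb' : ∀ i : Fin d, b.1 i.succ 0 = 0 := hb
    simp [ha', hb']
  one_mem' := by
    intro i
    simp [Matrix.one_apply, Fin.succ_ne_zero]
  inv_mem' := by
    intro a ha i
    have ha' : ∀ i : Fin d, a.1 i.succ 0 = 0 := ha
    have h00 := gl_zero_zero_ne a ha'
    have hinv : (a⁻¹ : GL (Fin (d + 1)) F).1 * a.1 = 1 := by
      rw [← Units.val_mul, inv_mul_cancel]; rfl
    have h1 := congrFun (congrFun hinv i.succ) 0
    rw [Matrix.mul_apply, Fin.sum_univ_succ] at h1
    simp only [ha', mul_zero, Finset.sum_const_zero, add_zero,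
      Matrix.one_apply_ne (Fin.succ_ne_zero i)] at h1
    rcases mul_eq_zero.mp h1 with h | h
    · exact h
    · exact absurd h h00

theorem mem_stabL (y : GL (Fin (d + 1)) F) : y ∈ stabL F d ↔ ∀ i : Fin d, y.1 i.succ 0 = 0 :=
  Iff.rfl

theorem pc_conj {n : ℕ} (g a b : GL (Fin n) F) (h : PC a.1 b.1) :
    PC (g⁻¹ * a * g).1 (g⁻¹ * b * g).1 := by
  obtain ⟨c, hc, h⟩ := h
  refine ⟨c, hc, ?_⟩
  have e1 : (g⁻¹ * a * g).1 * (g⁻¹ * b * g).1 = (g⁻¹ : GL (Fin n) F).1 * (a.1 * b.1) * g.1 := by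
    have : (g⁻¹ * a * g) * (g⁻¹ * b * g) = g⁻¹ * (a * b) * g := by group
    have := congrArg (fun x : GL (Fin n) F => x.1) this
    simpa only [Units.val_mul] using this
  have e2 : (g⁻¹ * b * g).1 * (g⁻¹ * a * g).1 = (g⁻¹ : GL (Fin n) F).1 * (b.1 * a.1) * g.1 := by
    have : (g⁻¹ * b * g) * (g⁻¹ * a * g) = g⁻¹ * (b * a) * g := by group
    have := congrArg (fun x : GL (Fin n) F => x.1) this
    simpa only [Units.val_mul] using this
  rw [e1, e2, h, Matrix.mul_smul, Matrix.smul_mul]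

theorem isSc_conj {n : ℕ} (g a : GL (Fin n) F) (h : IsSc (g⁻¹ * a * g).1) : IsSc a.1 := by
  obtain ⟨c, hc⟩ := h
  refine ⟨c, ?_⟩
  have h1 : a = g * (g⁻¹ * a * g) * g⁻¹ := by group
  have h2 : g.1 * (g⁻¹ : GL (Fin n) F).1 = 1 := by
    rw [← Units.val_mul, mul_inv_cancel]; rfl
  rw [h1, Units.val_mul, Units.val_mul, hc, Matrix.mul_smul, Matrix.smul_mul, mul_one, h2]


/-- the case of degree at least three -/
theorem big_case [Fintype F] (d : ℕ) (hd : 2 ≤ d)
    (G : Subgroup (GL (Fin (d + 1)) F ⧸ Subgroup.center (GL (Fin (d + 1)) F)))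
    (hG : ((Matrix.SpecialLinearGroup.toGL :
      Matrix.SpecialLinearGroup (Fin (d + 1)) F →* GL (Fin (d + 1)) F).range).map
      (QuotientGroup.mk' (Subgroup.center (GL (Fin (d + 1)) F))) ≤ G) :
    ¬ ∃ 𝓐 : Finset (Subgroup ↥G), ((∀ A ∈ 𝓐, A ≠ ⊤) ∧ (∀ g : ↥G, ∃ A ∈ 𝓐, g ∈ A)) ∧
      (∀ 𝓑 : Finset (Subgroup ↥G), (∀ A ∈ 𝓑, A ≠ ⊤) ∧ (∀ g : ↥G, ∃ A ∈ 𝓑, g ∈ A) →
        𝓐.card ≤ 𝓑.card) ∧ (∀ A ∈ 𝓐, Group.IsNilpotent ↥A) := by
  classical
  have : NeZero d := ⟨by omega⟩
  obtain ⟨S, hSu, hS⟩ := exists_singer F d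
  let i0 : Fin d := ⟨0, by omega⟩
  let i1 : Fin d := ⟨1, by omega⟩
  have h01 : i0 ≠ i1 := by simp [i0, i1, Fin.ext_iff]
  have hdich := singer_dich S hS
  have hsub := singer_sub_unit S hS i0 i1 h01
  have hS1 : ∀ (β : F) (v : Fin d → F), S *ᵥ v = β • v → v = 0 := by
    intro β v hv
    apply col_ker_of_isUnit _ (hsub β)
    rw [Matrix.sub_mulVec, Matrix.smul_mulVec, Matrix.one_mulVec, hv, sub_self]
  have hS2 : ∀ (β : F) (r : Fin d → F), r ᵥ* S = β • r → r = 0 := by
    intro β r hr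
    apply row_ker_of_isUnit _ (hsub β)
    rw [Matrix.vecMul_sub, Matrix.vecMul_smul, Matrix.vecMul_one, hr, sub_self]
  have hdet : S.det ≠ 0 := ((Matrix.isUnit_iff_isUnit_det S).mp hSu).ne_zero
  set α : F := S.det⁻¹ with hα
  have hα0 : α ≠ 0 := inv_ne_zero hdet
  let t : Matrix.SpecialLinearGroup (Fin (d + 1)) F :=
    ⟨blk α S, by rw [det_blk, hα, inv_mul_cancel₀ hdet]⟩
  let g : Matrix.SpecialLinearGroup (Fin (d + 1)) F :=
    ⟨Matrix.transvection 0 i0.succ 1,
      Matrix.det_transvection_of_ne _ _ (Fin.succ_ne_zero i0).symm _⟩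
  let τ : Matrix.SpecialLinearGroup (Fin (d + 1)) F :=
    ⟨Matrix.transvection i0.succ 0 1, Matrix.det_transvection_of_ne _ _ (Fin.succ_ne_zero i0) _⟩
  let u : Matrix.SpecialLinearGroup (Fin (d + 1)) F := g * t * g⁻¹
  have key : ∀ z y : GL (Fin (d + 1)) F, ¬ IsSc z.1 → PC z.1 t.1 → PC y.1 z.1 →
      y ∈ stabL F d := by
    intro z y hzns hzt hyz
    obtain ⟨hz, hz00, hZS⟩ := pc_blk S hS1 hS2 α hα0 z hzt
    exact stab_of_pc S hdich i0 i1 h01 _ hz00 _ hZS z y hz hzns hyz
  have hgv : (Matrix.SpecialLinearGroup.toGL g : GL (Fin (d + 1)) F).1 =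
      Matrix.transvection 0 i0.succ 1 := rfl
  have hg : Matrix.SpecialLinearGroup.toGL g ∈ stabL F d := by
    intro i
    rw [hgv]
    simp [Matrix.transvection, Matrix.one_apply, Fin.succ_ne_zero]
  have hconj : ∀ z : GL (Fin (d + 1)) F, PC z.1 u.1 →
      PC ((Matrix.SpecialLinearGroup.toGL g)⁻¹ * z * Matrix.SpecialLinearGroup.toGL g).1 t.1 := by
    intro z hz
    have h1 := pc_conj (Matrix.SpecialLinearGroup.toGL g) z (Matrix.SpecialLinearGroup.toGL u) hz
    have e : (Matrix.SpecialLinearGroup.toGL g)⁻¹ * Matrix.SpecialLinearGroup.toGL u *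
        Matrix.SpecialLinearGroup.toGL g = Matrix.SpecialLinearGroup.toGL t := by
      rw [← map_inv, ← map_mul, ← map_mul]
      congr 1
      show g⁻¹ * (g * t * g⁻¹) * g = t
      group
    rw [e] at h1
    exact h1
  apply two_elt_criterion G hG (stabL F d) ?_ τ t u ?_ ?_ ?_ ?_ ?_
  · rintro a ⟨c, hc⟩ i
    rw [hc]
    simp [Matrix.one_apply, Fin.succ_ne_zero]
  · intro h
    have h1 := h i0
    have h2 : (Matrix.SpecialLinearGroup.toGL τ : GL (Fin (d + 1)) F).1 =
      Matrix.transvection i0.succ 0 1 := rfl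
    rw [h2] at h1
    simp [Matrix.transvection, Matrix.one_apply, Fin.succ_ne_zero] at h1
  · rintro ⟨c, hc⟩
    have hSc : S = c • (1 : Matrix (Fin d) (Fin d) F) := by
      ext i j
      have h1 := congrFun (congrFun hc i.succ) j.succ
      have h2 : t.1 i.succ j.succ = S i j := by simp [t]
      rw [h2] at h1
      rw [h1]
      simp [Matrix.one_apply]
    have h3 := hS1 c (Pi.single i0 1) (by rw [hSc, Matrix.smul_mulVec, Matrix.one_mulVec])
    have h4 := congrFun h3 i0
    simp at h4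
  · intro z y hzns hzt hyz _
    exact key z y hzns hzt hyz
  · intro z y hzns hzu hyz _
    have h1 := key ((Matrix.SpecialLinearGroup.toGL g)⁻¹ * z * Matrix.SpecialLinearGroup.toGL g)
      ((Matrix.SpecialLinearGroup.toGL g)⁻¹ * y * Matrix.SpecialLinearGroup.toGL g)
      (fun h => hzns (isSc_conj _ _ h)) (hconj z hzu) (pc_conj _ _ _ hyz)
    have h2 : y = Matrix.SpecialLinearGroup.toGL g *
        ((Matrix.SpecialLinearGroup.toGL g)⁻¹ * y * Matrix.SpecialLinearGroup.toGL g) *
        (Matrix.SpecialLinearGroup.toGL g)⁻¹ := by group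
    rw [h2]
    exact Subgroup.mul_mem _ (Subgroup.mul_mem _ hg h1) (Subgroup.inv_mem _ hg)
  · intro z hzns hzt hzu
    obtain ⟨hz, hz00, hZS⟩ := pc_blk S hS1 hS2 α hα0 z hzt
    obtain ⟨hz', hz00', hZS'⟩ := pc_blk S hS1 hS2 α hα0 _ (hconj z hzu)
    set z'' : GL (Fin (d + 1)) F :=
      (Matrix.SpecialLinearGroup.toGL g)⁻¹ * z * Matrix.SpecialLinearGroup.toGL g with hz''
    have hrel : z.1 * Matrix.transvection 0 i0.succ 1 =
        Matrix.transvection 0 i0.succ 1 * z''.1 := by
      have h1 : z * Matrix.SpecialLinearGroup.toGL g = Matrix.SpecialLinearGroup.toGL g * z'' := by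
        rw [hz'']; group
      have h2 := congrArg (fun x : GL (Fin (d + 1)) F => x.1) h1
      simp only [Units.val_mul, hgv] at h2
      exact h2
    have hcol : ∀ i : Fin d, z.1 i.succ 0 = 0 := fun i => by rw [hz]; simp
    have hrow : ∀ j : Fin d, z.1 0 j.succ = 0 := fun j => by rw [hz]; simp
    have hcol' : ∀ i : Fin d, z''.1 i.succ 0 = 0 := fun i => by rw [hz']; simp
    have hrow' : ∀ j : Fin d, z''.1 0 j.succ = 0 := fun j => by rw [hz']; simp
    have hss : ∀ i j : Fin d, z.1 i.succ j.succ = z''.1 i.succ j.succ := by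
      intro i j
      have h1 := congrFun (congrFun hrel i.succ) j.succ
      rw [Matrix.transvection_mul_apply_of_ne _ _ _ _ (Fin.succ_ne_zero i)] at h1
      by_cases hj : j = i0
      · subst hj
        rw [Matrix.mul_transvection_apply_same, hcol, mul_zero, add_zero] at h1
        exact h1
      · rw [Matrix.mul_transvection_apply_of_ne _ _ _ _
          (fun h => hj (Fin.succ_injective _ h))] at h1
        exact h1
    have hr0 : ∀ j : Fin d, z.1 i0.succ j.succ = if j = i0 then z.1 0 0 else 0 := by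
      intro j
      have h1 := congrFun (congrFun hrel 0) j.succ
      rw [Matrix.transvection_mul_apply_same, hrow', zero_add, one_mul, ← hss] at h1
      by_cases hj : j = i0
      · subst hj
        rw [Matrix.mul_transvection_apply_same, hrow, zero_add, one_mul] at h1
        rw [if_pos rfl, ← h1]
      · rw [Matrix.mul_transvection_apply_of_ne _ _ _ _
          (fun h => hj (Fin.succ_injective _ h)), hrow] at h1
        rw [if_neg hj, ← h1]
    set Z : Matrix (Fin d) (Fin d) F := z.1.submatrix Fin.succ Fin.succ with hZ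
    have hP : (Z - (z.1 0 0) • (1 : Matrix (Fin d) (Fin d) F)) * S =
        S * (Z - (z.1 0 0) • (1 : Matrix (Fin d) (Fin d) F)) := by
      rw [Matrix.sub_mul, Matrix.mul_sub, hZS]; simp
    have hker : (Pi.single i0 (1 : F) : Fin d → F) ᵥ*
        (Z - (z.1 0 0) • (1 : Matrix (Fin d) (Fin d) F)) = 0 := by
      funext j
      rw [Matrix.single_one_vecMul]
      simp only [Matrix.sub_apply, Matrix.smul_apply, Matrix.one_apply, smul_eq_mul, hZ,
        Matrix.submatrix_apply, Pi.zero_apply, Matrix.row_apply]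
      rw [hr0 j]
      by_cases hj : j = i0
      · subst hj; simp
      · rw [if_neg hj, if_neg (fun h => hj h.symm)]; simp
    rcases hdich _ hP with h0 | hu
    · apply hzns
      refine ⟨z.1 0 0, ?_⟩
      have hZ' : Z = (z.1 0 0) • (1 : Matrix (Fin d) (Fin d) F) := sub_eq_zero.mp h0
      rw [← blk_smul_one, ← hZ']
      exact hz
    · have h1 := row_ker_of_isUnit _ hu _ hker
      have h2 := congrFun h1 i0
      simp at h2

end Cfsg.Agent.Lib.Helper65.PglBig
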