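import Mathlib
import Cfsg.Agent.Lib.Helper65.PglBase

set_option autoImplicit false

namespace Cfsg.Agent.Lib.Helper65.PglTwo

open Matrix Cfsg.Agent.Lib.Helper65.PglBase

variable {F : Type*} [Field F]

theorem mat2_ext {a b : Matrix (Fin 2) (Fin 2) F} (h00 : a 0 0 = b 0 0) (h01 : a 0 1 = b 0 1)
    (h10 : a 1 0 = b 1 0) (h11 : a 1 1 = b 1 1) : a = b := by
  ext i j
  fin_cases i <;> fin_cases j <;> assumption

theorem pc_entries {x m : Matrix (Fin 2) (Fin 2) F} {c : F} (h : x * m = c • (m * x)) :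
    (x 0 0 * m 0 0 + x 0 1 * m 1 0 = c * (m 0 0 * x 0 0 + m 0 1 * x 1 0)) ∧
    (x 0 0 * m 0 1 + x 0 1 * m 1 1 = c * (m 0 0 * x 0 1 + m 0 1 * x 1 1)) ∧
    (x 1 0 * m 0 0 + x 1 1 * m 1 0 = c * (m 1 0 * x 0 0 + m 1 1 * x 1 0)) ∧
    (x 1 0 * m 0 1 + x 1 1 * m 1 1 = c * (m 1 0 * x 0 1 + m 1 1 * x 1 1)) := by
  have h00 := congrFun (congrFun h 0) 0
  have h01 := congrFun (congrFun h 0) 1
  have h10 := congrFun (congrFun h 1) 0
  have h11 := congrFun (congrFun h 1) 1
  simp only [Matrix.mul_apply, Fin.sum_univ_two, Matrix.smul_apply, smul_eq_mul] at h00 h01 h10 h11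
  exact ⟨h00, h01, h10, h11⟩

theorem mul_eq_entries {a b c d : Matrix (Fin 2) (Fin 2) F} (h : a * b = c * d) :
    (a 0 0 * b 0 0 + a 0 1 * b 1 0 = c 0 0 * d 0 0 + c 0 1 * d 1 0) ∧
    (a 0 0 * b 0 1 + a 0 1 * b 1 1 = c 0 0 * d 0 1 + c 0 1 * d 1 1) ∧
    (a 1 0 * b 0 0 + a 1 1 * b 1 0 = c 1 0 * d 0 0 + c 1 1 * d 1 0) ∧
    (a 1 0 * b 0 1 + a 1 1 * b 1 1 = c 1 0 * d 0 1 + c 1 1 * d 1 1) := by
  have h00 := congrFun (congrFun h 0) 0
  have h01 := congrFun (congrFun h 0) 1
  have h10 := congrFun (congrFun h 1) 0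
  have h11 := congrFun (congrFun h 1) 1
  simp only [Matrix.mul_apply, Fin.sum_univ_two] at h00 h01 h10 h11
  exact ⟨h00, h01, h10, h11⟩

theorem mul_eq_of_entries {a b c d : Matrix (Fin 2) (Fin 2) F}
    (h00 : a 0 0 * b 0 0 + a 0 1 * b 1 0 = c 0 0 * d 0 0 + c 0 1 * d 1 0)
    (h01 : a 0 0 * b 0 1 + a 0 1 * b 1 1 = c 0 0 * d 0 1 + c 0 1 * d 1 1)
    (h10 : a 1 0 * b 0 0 + a 1 1 * b 1 0 = c 1 0 * d 0 0 + c 1 1 * d 1 0)
    (h11 : a 1 0 * b 0 1 + a 1 1 * b 1 1 = c 1 0 * d 0 1 + c 1 1 * d 1 1) : a * b = c * d := by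
  apply mat2_ext <;> simp only [Matrix.mul_apply, Fin.sum_univ_two] <;> assumption

theorem gl2_det_ne (z : GL (Fin 2) F) : z.1 0 0 * z.1 1 1 - z.1 0 1 * z.1 1 0 ≠ 0 := by
  have h := (Matrix.isUnit_iff_isUnit_det z.1).mp z.isUnit
  rw [Matrix.det_fin_two] at h
  exact h.ne_zero

/-- upper unitriangular up to a scalar -/
def UT (x : Matrix (Fin 2) (Fin 2) F) : Prop := x 1 0 = 0 ∧ x 0 0 = x 1 1

theorem ut_of_pc (x : GL (Fin 2) F) (m : Matrix (Fin 2) (Fin 2) F) (hm : UT m)
    (h01 : m 0 1 ≠ 0) (h00 : m 0 0 ≠ 0) (h : PC x.1 m) : UT x.1 := by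
  obtain ⟨c, hc, h⟩ := h
  obtain ⟨e00, e01, e10, e11⟩ := pc_entries h
  obtain ⟨hm10, hm11⟩ := hm
  simp only [hm10, ← hm11, mul_zero, add_zero, zero_mul, zero_add] at e00 e01 e10 e11
  have hdet := gl2_det_ne x
  have hx10 : x.1 1 0 = 0 := by
    by_contra hne
    have h1 : (x.1 1 0 * m 0 0) * (1 - c) = 0 := by linear_combination e10
    have hc1 : c = 1 := by
      rcases mul_eq_zero.mp h1 with h2 | h2
      · exact absurd h2 (mul_ne_zero hne h00)
      · linear_combination -h2
    rw [hc1] at e00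
    have h3 : m 0 1 * x.1 1 0 = 0 := by linear_combination -e00
    rcases mul_eq_zero.mp h3 with h4 | h4
    · exact h01 h4
    · exact hne h4
  simp only [hx10, mul_zero, add_zero, zero_mul, zero_add, sub_zero] at e00 e01 hdet
  have hx00 : x.1 0 0 ≠ 0 := by
    intro h0; apply hdet; rw [h0]; ring
  have hc1 : c = 1 := by
    have h1 : (x.1 0 0 * m 0 0) * (1 - c) = 0 := by linear_combination e00
    rcases mul_eq_zero.mp h1 with h2 | h2
    · exact absurd h2 (mul_ne_zero hx00 h00)
    · linear_combination -h2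
  rw [hc1] at e01
  refine ⟨hx10, ?_⟩
  have h3 : m 0 1 * (x.1 0 0 - x.1 1 1) = 0 := by linear_combination e01
  rcases mul_eq_zero.mp h3 with h4 | h4
  · exact absurd h4 h01
  · linear_combination h4

theorem ut_comm (x y : Matrix (Fin 2) (Fin 2) F) (hx : UT x) (hy : UT y) : x * y = y * x := by
  obtain ⟨hx10, hx11⟩ := hx
  obtain ⟨hy10, hy11⟩ := hy
  apply mul_eq_of_entries <;> simp only [hx10, hy10, hx11, hy11] <;> ring

theorem ut_conj_iff (b M N : Matrix (Fin 2) (Fin 2) F) (hb10 : b 1 0 = 0) (hb0 : b 0 0 ≠ 0)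
    (hb1 : b 1 1 ≠ 0) (h : N * b = b * M) : UT N ↔ UT M := by
  obtain ⟨e00, e01, e10, e11⟩ := mul_eq_entries h
  simp only [hb10, mul_zero, add_zero, zero_mul, zero_add] at e00 e01 e10 e11
  have key : N 1 0 = 0 ↔ M 1 0 = 0 := by
    constructor
    · intro h0
      rw [h0] at e10
      have : b 1 1 * M 1 0 = 0 := by linear_combination -e10
      rcases mul_eq_zero.mp this with h1 | h1
      · exact absurd h1 hb1
      · exact h1
    · intro h0
      rw [h0] at e10
      have : N 1 0 * b 0 0 = 0 := by linear_combination e10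
      rcases mul_eq_zero.mp this with h1 | h1
      · exact h1
      · exact absurd h1 hb0
  constructor
  · rintro ⟨h10, h11⟩
    have hM10 := key.mp h10
    refine ⟨hM10, ?_⟩
    simp only [h10, hM10, mul_zero, add_zero, zero_mul, zero_add] at e00 e11
    have e1 : b 0 0 * (N 0 0 - M 0 0) = 0 := by linear_combination e00
    have e2 : b 1 1 * (N 1 1 - M 1 1) = 0 := by linear_combination e11
    have e1' : N 0 0 = M 0 0 := by
      rcases mul_eq_zero.mp e1 with h | h
      · exact absurd h hb0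
      · linear_combination h
    have e2' : N 1 1 = M 1 1 := by
      rcases mul_eq_zero.mp e2 with h | h
      · exact absurd h hb1
      · linear_combination h
    rw [← e1', ← e2', h11]
  · rintro ⟨h10, h11⟩
    have hN10 := key.mpr h10
    refine ⟨hN10, ?_⟩
    simp only [h10, hN10, mul_zero, add_zero, zero_mul, zero_add] at e00 e11
    have e1 : b 0 0 * (N 0 0 - M 0 0) = 0 := by linear_combination e00
    have e2 : b 1 1 * (N 1 1 - M 1 1) = 0 := by linear_combination e11
    have e1' : N 0 0 = M 0 0 := by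
      rcases mul_eq_zero.mp e1 with h | h
      · exact absurd h hb0
      · linear_combination h
    have e2' : N 1 1 = M 1 1 := by
      rcases mul_eq_zero.mp e2 with h | h
      · exact absurd h hb1
      · linear_combination h
    rw [e1', e2', h11]

/-- projective commutation with an element of odd projective order is honest commutation -/
theorem comm_of_pc_theta (x : GL (Fin 2) F) (θ : Matrix (Fin 2) (Fin 2) F) (s : F) (hs : s ≠ 0)
    (r : ℕ) (hr : Odd r) (hθr : θ ^ r = s • (1 : Matrix (Fin 2) (Fin 2) F)) (hdetθ : θ.det ≠ 0)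
    (h : PC x.1 θ) : x.1 * θ = θ * x.1 := by
  obtain ⟨c, hc, h⟩ := h
  have hdx : x.1.det ≠ 0 := ((Matrix.isUnit_iff_isUnit_det x.1).mp x.isUnit).ne_zero
  have hc2 : c ^ 2 = 1 := by
    have h1 := congrArg Matrix.det h
    rw [Matrix.det_mul, Matrix.det_smul, Matrix.det_mul, Fintype.card_fin] at h1
    have h2 : (x.1.det * θ.det) * (1 - c ^ 2) = 0 := by linear_combination h1
    rcases mul_eq_zero.mp h2 with h3 | h3
    · exact absurd h3 (mul_ne_zero hdx hdetθ)
    · linear_combination -h3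
  have hpow : ∀ k : ℕ, x.1 * θ ^ k = c ^ k • (θ ^ k * x.1) := by
    intro k
    induction k with
    | zero => simp
    | succ k ih =>
      rw [pow_succ, ← Matrix.mul_assoc, ih, Matrix.smul_mul, Matrix.mul_assoc, h, Matrix.mul_smul,
        smul_smul, ← Matrix.mul_assoc, pow_succ]
  have h1 := hpow r
  rw [hθr, Matrix.mul_smul, Matrix.smul_mul, mul_one, one_mul, smul_smul] at h1
  have hcr : c ^ r = 1 := by
    by_contra hne
    have hall : ∀ i j, x.1 i j = 0 := by
      intro i j
      have h2 := congrFun (congrFun h1 i) j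
      simp only [Matrix.smul_apply, smul_eq_mul] at h2
      have h3 : (s * (1 - c ^ r)) * x.1 i j = 0 := by linear_combination h2
      rcases mul_eq_zero.mp h3 with h4 | h4
      · rcases mul_eq_zero.mp h4 with h5 | h5
        · exact absurd h5 hs
        · exact absurd (by linear_combination -h5 : c ^ r = 1) hne
      · exact h4
    apply gl2_det_ne x
    rw [hall 0 0, hall 0 1]; ring
  have hc1 : c = 1 := by
    obtain ⟨m, rfl⟩ := hr
    rw [pow_succ, pow_mul, hc2, one_pow, one_mul] at hcr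
    exact hcr
  rw [h, hc1, one_smul]

theorem eq_lin_of_comm (x θ : Matrix (Fin 2) (Fin 2) F) (h10 : θ 1 0 ≠ 0)
    (h : x * θ = θ * x) :
    x = (x 0 0 - x 1 0 / θ 1 0 * θ 0 0) • (1 : Matrix (Fin 2) (Fin 2) F) + (x 1 0 / θ 1 0) • θ := by
  obtain ⟨e00, e01, e10, e11⟩ := mul_eq_entries h
  apply mat2_ext
  · simp
  · simp only [Matrix.add_apply, Matrix.smul_apply, smul_eq_mul, Matrix.one_apply_ne
      (show (0 : Fin 2) ≠ 1 by decide), mul_zero, zero_add]
    field_simp
    linear_combination e00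
  · simp only [Matrix.add_apply, Matrix.smul_apply, smul_eq_mul, Matrix.one_apply_ne
      (show (1 : Fin 2) ≠ 0 by decide), mul_zero, zero_add]
    field_simp
  · simp only [Matrix.add_apply, Matrix.smul_apply, smul_eq_mul, Matrix.one_apply_eq, mul_one]
    field_simp
    linear_combination e10

theorem comm_of_comm_theta (x y θ : Matrix (Fin 2) (Fin 2) F) (h10 : θ 1 0 ≠ 0)
    (hx : x * θ = θ * x) (hy : y * θ = θ * y) : x * y = y * x := by
  have h1 := eq_lin_of_comm x θ h10 hx
  rw [h1]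
  simp only [Matrix.add_mul, Matrix.mul_add, Matrix.smul_mul, Matrix.mul_smul, one_mul, mul_one]
  rw [hy]


/-- the Borel subgroup -/
def borel (F : Type*) [Field F] : Subgroup (GL (Fin 2) F) where
  carrier := {y | y.1 1 0 = 0}
  mul_mem' := by
    intro a b ha hb
    show (a * b).1 1 0 = 0
    rw [Units.val_mul, Matrix.mul_apply, Fin.sum_univ_two]
    have ha' : a.1 1 0 = 0 := ha
    have hb' : b.1 1 0 = 0 := hb
    rw [ha', hb']; ring
  one_mem' := by
    show (1 : GL (Fin 2) F).1 1 0 = 0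
    simp
  inv_mem' := by
    intro a ha
    have ha' : a.1 1 0 = 0 := ha
    show (a⁻¹).1 1 0 = 0
    have hinv : (a⁻¹ : GL (Fin 2) F).1 * a.1 = 1 := by
      rw [← Units.val_mul, inv_mul_cancel]; rfl
    have h1 := congrFun (congrFun hinv 1) 0
    simp only [Matrix.mul_apply, Fin.sum_univ_two, ha', mul_zero, add_zero] at h1
    have hdet := gl2_det_ne a
    rw [ha'] at hdet
    have h00 : a.1 0 0 ≠ 0 := by intro h0; apply hdet; rw [h0]; ring
    rw [Matrix.one_apply_ne (by decide)] at h1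
    rcases mul_eq_zero.mp h1 with h | h
    · exact h
    · exact absurd h h00

theorem mem_borel (y : GL (Fin 2) F) : y ∈ borel F ↔ y.1 1 0 = 0 := Iff.rfl

/-- the upper unipotent element -/
def Umat (F : Type*) [Field F] : Matrix.SpecialLinearGroup (Fin 2) F :=
  ⟨!![1, 1; 0, 1], by simp [Matrix.det_fin_two]⟩

/-- the lower unipotent element -/
def Lmat (F : Type*) [Field F] : Matrix.SpecialLinearGroup (Fin 2) F :=
  ⟨!![1, 0; 1, 1], by simp [Matrix.det_fin_two]⟩

/-- diagonal elements -/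
def Dmat (a : Fˣ) : Matrix.SpecialLinearGroup (Fin 2) F :=
  ⟨!![(a : F), 0; 0, ((a⁻¹ : Fˣ) : F)], by simp [Matrix.det_fin_two]⟩

theorem Dmat_mul (a b : Fˣ) : Dmat a * Dmat b = Dmat (a * b) := by
  apply Subtype.ext
  rw [Matrix.SpecialLinearGroup.coe_mul]
  apply mat2_ext <;>
    simp [Dmat, Matrix.mul_apply, Fin.sum_univ_two, mul_comm]

theorem Dmat_one : Dmat (1 : Fˣ) = 1 := by
  apply Subtype.ext
  apply mat2_ext <;> simp [Dmat]

theorem Dmat_pow (a : Fˣ) (k : ℕ) : Dmat a ^ k = Dmat (a ^ k) := by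
  induction k with
  | zero => rw [pow_zero, pow_zero, Dmat_one]
  | succ k ih => rw [pow_succ, ih, Dmat_mul, pow_succ]

theorem diag_pc (m : Matrix (Fin 2) (Fin 2) F) (a b : F) (hab : a * b = 1) (h2 : a ^ 2 ≠ 1)
    (h4 : a ^ 4 ≠ 1) (m00 : m 0 0 = a) (m01 : m 0 1 = 0) (m10 : m 1 0 = 0) (m11 : m 1 1 = b)
    (z : GL (Fin 2) F) (h : PC z.1 m) : z.1 0 1 = 0 ∧ z.1 1 0 = 0 := by
  obtain ⟨c, hc, h⟩ := h
  obtain ⟨e00, e01, e10, e11⟩ := pc_entries h
  simp only [m00, m01, m10, m11, mul_zero, add_zero, zero_mul, zero_add] at e00 e01 e10 e11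
  have ha : a ≠ 0 := by rintro rfl; rw [zero_mul] at hab; exact zero_ne_one hab
  have hb : b ≠ 0 := by rintro rfl; rw [mul_zero] at hab; exact zero_ne_one hab
  have hba : b - a ≠ 0 := by
    intro h0
    apply h2
    have : b = a := by linear_combination h0
    rw [this] at hab
    linear_combination hab
  have hdet := gl2_det_ne z
  have fin : c = 1 → z.1 0 1 = 0 ∧ z.1 1 0 = 0 := by
    intro hc1
    rw [hc1, one_mul] at e01 e10
    constructor
    · have : z.1 0 1 * (b - a) = 0 := by linear_combination e01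
      rcases mul_eq_zero.mp this with h | h
      · exact h
      · exact absurd h hba
    · have : z.1 1 0 * (b - a) = 0 := by linear_combination -e10
      rcases mul_eq_zero.mp this with h | h
      · exact h
      · exact absurd h hba
  by_cases h00 : z.1 0 0 = 0
  · by_cases h11 : z.1 1 1 = 0
    · exfalso
      rw [h00, h11] at hdet
      have h01 : z.1 0 1 ≠ 0 := by intro h; apply hdet; rw [h]; ring
      have h10 : z.1 1 0 ≠ 0 := by intro h; apply hdet; rw [h]; ring
      have e1 : b = c * a := by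
        have : z.1 0 1 * (b - c * a) = 0 := by linear_combination e01
        rcases mul_eq_zero.mp this with h | h
        · exact absurd h h01
        · linear_combination h
      have e2 : a = c * b := by
        have : z.1 1 0 * (a - c * b) = 0 := by linear_combination e10
        rcases mul_eq_zero.mp this with h | h
        · exact absurd h h10
        · linear_combination h
      apply h4
      have e3 : a ^ 2 = c := by linear_combination a * e2 + c * hab
      have e4 : c ^ 2 = 1 := by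
        have : a * (1 - c ^ 2) = 0 := by linear_combination e2 + c * e1
        rcases mul_eq_zero.mp this with h | h
        · exact absurd h ha
        · linear_combination -h
      linear_combination (a ^ 2 + c) * e3 + e4
    · apply fin
      have : (z.1 1 1 * b) * (1 - c) = 0 := by linear_combination e11
      rcases mul_eq_zero.mp this with h | h
      · exact absurd h (mul_ne_zero h11 hb)
      · linear_combination -h
  · apply fin
    have : (z.1 0 0 * a) * (1 - c) = 0 := by linear_combination e00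
    rcases mul_eq_zero.mp this with h | h
    · exact absurd h (mul_ne_zero h00 ha)
    · linear_combination -h

/-- the case of degree two when `q - 1` has an odd prime divisor -/
theorem small_case_one [Fintype F] (r : ℕ) (hr : r.Prime) (hodd : Odd r)
    (hdiv : r ∣ Fintype.card F - 1)
    (G : Subgroup (GL (Fin 2) F ⧸ Subgroup.center (GL (Fin 2) F)))
    (hG : ((Matrix.SpecialLinearGroup.toGL :
      Matrix.SpecialLinearGroup (Fin 2) F →* GL (Fin 2) F).range).map
      (QuotientGroup.mk' (Subgroup.center (GL (Fin 2) F))) ≤ G) :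
    ¬ ∃ 𝓐 : Finset (Subgroup ↥G), ((∀ A ∈ 𝓐, A ≠ ⊤) ∧ (∀ g : ↥G, ∃ A ∈ 𝓐, g ∈ A)) ∧
      (∀ 𝓑 : Finset (Subgroup ↥G), (∀ A ∈ 𝓑, A ≠ ⊤) ∧ (∀ g : ↥G, ∃ A ∈ 𝓑, g ∈ A) →
        𝓐.card ≤ 𝓑.card) ∧ (∀ A ∈ 𝓐, Group.IsNilpotent ↥A) := by
  classical
  have : Fact r.Prime := ⟨hr⟩
  obtain ⟨a, ha⟩ := exists_prime_orderOf_dvd_card r
    (show r ∣ Fintype.card Fˣ by rw [Fintype.card_units]; exact hdiv)
  have hr2 : ¬ r ∣ 2 := by
    intro h
    have h1 := Nat.le_of_dvd (by norm_num) h
    have h2 := hr.two_le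
    have h3 : r = 2 := le_antisymm h1 h2
    rw [h3] at hodd
    exact absurd hodd (by decide)
  have har : a ^ r = 1 := by rw [← ha]; exact pow_orderOf_eq_one a
  have ha2 : (a : F) ^ 2 ≠ 1 := by
    intro h
    have h1 : a ^ 2 = 1 := Units.ext (by rw [Units.val_pow_eq_pow_val]; exact h)
    have h2 := orderOf_dvd_of_pow_eq_one h1
    rw [ha] at h2
    exact hr2 h2
  have ha4 : (a : F) ^ 4 ≠ 1 := by
    intro h
    have h1 : a ^ 4 = 1 := Units.ext (by rw [Units.val_pow_eq_pow_val]; exact h)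
    have h2 := orderOf_dvd_of_pow_eq_one h1
    rw [ha] at h2
    have h3 : r ∣ 2 ^ 2 := by norm_num; exact h2
    exact hr2 (hr.dvd_of_dvd_pow h3)
  have hab : (a : F) * ((a⁻¹ : Fˣ) : F) = 1 := by simp
  have hD : ∀ z : GL (Fin 2) F, PC z.1 (Dmat a).1 → z.1 0 1 = 0 ∧ z.1 1 0 = 0 := by
    intro z hz
    exact diag_pc (Dmat a).1 (a : F) ((a⁻¹ : Fˣ) : F) hab ha2 ha4 (by simp [Dmat]) (by simp [Dmat])
      (by simp [Dmat]) (by simp [Dmat]) z hz
  have hU : ∀ z : GL (Fin 2) F, ¬ IsSc z.1 → PC z.1 (Umat F).1 →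
      UT z.1 ∧ z.1 0 1 ≠ 0 ∧ z.1 0 0 ≠ 0 := by
    intro z hzns hz
    have hut := ut_of_pc z (Umat F).1 ⟨by simp [Umat], by simp [Umat]⟩ (by simp [Umat])
      (by simp [Umat]) hz
    refine ⟨hut, ?_, ?_⟩
    · intro h01
      apply hzns
      refine ⟨z.1 0 0, ?_⟩
      apply mat2_ext
      · simp
      · simp [h01]
      · simp [hut.1]
      · simp [hut.2]
    · intro h00
      apply gl2_det_ne z
      rw [h00, hut.1]; ring
  apply two_elt_criterion G hG (borel F) ?_ (Lmat F) (Dmat a) (Umat F) ?_ ?_ ?_ ?_ ?_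
  · rintro x ⟨c, hc⟩
    rw [mem_borel, hc]
    simp
  · intro h
    rw [mem_borel] at h
    have h1 : (Matrix.SpecialLinearGroup.toGL (Lmat F) : GL (Fin 2) F).1 1 0 = 1 := by
      show (Lmat F).1 1 0 = 1
      simp [Lmat]
    rw [h1] at h
    exact one_ne_zero h
  · rintro ⟨c, hc⟩
    have h1 := congrFun (congrFun hc 0) 0
    have h2 := congrFun (congrFun hc 1) 1
    simp [Dmat] at h1 h2
    apply ha2
    have hne : (a : F) ≠ 0 := a.ne_zero
    have h1' : (a : F) = (a : F)⁻¹ := h1.trans h2.symm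
    calc (a : F) ^ 2 = a * a := by ring
      _ = a * (a : F)⁻¹ := by rw [← h1']
      _ = 1 := mul_inv_cancel₀ hne
  · intro z y hzns hzt hyz hQ
    obtain ⟨hz01, hz10⟩ := hD z hzt
    rw [mem_borel]
    by_contra hy10
    have hdz := gl2_det_ne z
    rw [hz01, hz10] at hdz
    have hz0 : z.1 0 0 ≠ 0 := by intro h; apply hdz; rw [h]; ring
    have hz1 : z.1 1 1 ≠ 0 := by intro h; apply hdz; rw [h]; ring
    have hzne : z.1 0 0 ≠ z.1 1 1 := by
      intro h
      apply hzns
      refine ⟨z.1 0 0, ?_⟩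
      apply mat2_ext
      · simp
      · simp [hz01]
      · simp [hz10]
      · simp [h]
    obtain ⟨μ, hμ, hyz⟩ := hyz
    obtain ⟨e00, e01, e10, e11⟩ := pc_entries hyz
    simp only [hz01, hz10, mul_zero, add_zero, zero_mul, zero_add] at e00 e01 e10 e11
    have hμ1 : μ ≠ 1 := by
      rintro rfl
      have : y.1 1 0 * (z.1 0 0 - z.1 1 1) = 0 := by linear_combination e10
      rcases mul_eq_zero.mp this with h | h
      · exact hy10 h
      · exact hzne (by linear_combination h)
    have hy00 : y.1 0 0 = 0 := by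
      have : (y.1 0 0 * z.1 0 0) * (1 - μ) = 0 := by linear_combination e00
      rcases mul_eq_zero.mp this with h | h
      · rcases mul_eq_zero.mp h with h' | h'
        · exact h'
        · exact absurd h' hz0
      · exact absurd (by linear_combination -h : μ = 1) hμ1
    have hy11 : y.1 1 1 = 0 := by
      have : (y.1 1 1 * z.1 1 1) * (1 - μ) = 0 := by linear_combination e11
      rcases mul_eq_zero.mp this with h | h
      · rcases mul_eq_zero.mp h with h' | h'
        · exact h'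
        · exact absurd h' hz1
      · exact absurd (by linear_combination -h : μ = 1) hμ1
    have hsq : ∃ c : F, y.1 * y.1 = c • (1 : Matrix (Fin 2) (Fin 2) F) := by
      refine ⟨y.1 0 1 * y.1 1 0, ?_⟩
      apply mat2_ext <;> simp [Matrix.mul_apply, Fin.sum_univ_two, hy00, hy11, mul_comm]
    have hpc := hQ r hodd (by rw [Dmat_pow, har, Dmat_one]) hsq
    exact hy10 (hD y hpc).2
  · intro z y hzns hzu hyz _
    obtain ⟨hut, hz01, hz00⟩ := hU z hzns hzu
    exact (ut_of_pc y z.1 hut hz01 hz00 hyz).1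
  · intro z hzns hzt hzu
    obtain ⟨hut, hz01, hz00⟩ := hU z hzns hzu
    exact hz01 (hD z hzt).1

end Cfsg.Agent.Lib.Helper65.PglTwo
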