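import Mathlib
import Cfsg.Agent.Lib.Helper65.PglBase
import Cfsg.Agent.Lib.Helper65.PglBig
import Cfsg.Agent.Lib.Helper65.PglTwo
import Cfsg.Agent.Lib.Helper42.SL2Odd

set_option autoImplicit false

namespace Cfsg.Agent.Lib.Helper65.PglTwoC

open Matrix Cfsg.Agent.Lib.Helper65.PglBase Cfsg.Agent.Lib.Helper65.PglTwo

variable {F : Type*} [Field F]

/-- centralizers that are abelian and share an element coincide -/
theorem cent_eq {G : Type*} [Group G] (a b : G)
    (ha : ∀ x ∈ Subgroup.centralizer {a}, ∀ y ∈ Subgroup.centralizer {a}, x * y = y * x)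
    (hb : ∀ x ∈ Subgroup.centralizer {b}, ∀ y ∈ Subgroup.centralizer {b}, x * y = y * x)
    (hab : a ∈ Subgroup.centralizer {b}) : Subgroup.centralizer {a} = Subgroup.centralizer {b} := by
  have hab' : a * b = b * a := Subgroup.mem_centralizer_singleton_iff.mp hab
  have hba : b ∈ Subgroup.centralizer {a} := Subgroup.mem_centralizer_singleton_iff.mpr hab'.symm
  have haa : a ∈ Subgroup.centralizer {a} := Subgroup.mem_centralizer_singleton_iff.mpr rfl
  have hbb : b ∈ Subgroup.centralizer {b} := Subgroup.mem_centralizer_singleton_iff.mpr rfl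
  ext x
  constructor
  · intro hx
    exact Subgroup.mem_centralizer_singleton_iff.mpr (ha x hx b hba)
  · intro hx
    exact Subgroup.mem_centralizer_singleton_iff.mpr (hb x hx a hab)

/-- conjugation by a special linear matrix -/
def cj (k : Matrix.SpecialLinearGroup (Fin 2) F) (x : GL (Fin 2) F) : GL (Fin 2) F :=
  (Matrix.SpecialLinearGroup.toGL k)⁻¹ * x * Matrix.SpecialLinearGroup.toGL k

theorem cj_mul (k : Matrix.SpecialLinearGroup (Fin 2) F) (x y : GL (Fin 2) F) :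
    cj k (x * y) = cj k x * cj k y := by
  unfold cj; group

theorem cj_inv (k : Matrix.SpecialLinearGroup (Fin 2) F) (x : GL (Fin 2) F) :
    cj k x⁻¹ = (cj k x)⁻¹ := by
  unfold cj; group

theorem cj_toGL (k s : Matrix.SpecialLinearGroup (Fin 2) F) :
    cj k (Matrix.SpecialLinearGroup.toGL (k * s * k⁻¹)) = Matrix.SpecialLinearGroup.toGL s := by
  unfold cj
  rw [map_mul, map_mul, map_inv]
  group

theorem eq_of_cj (k : Matrix.SpecialLinearGroup (Fin 2) F) (x : GL (Fin 2) F) :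
    x = Matrix.SpecialLinearGroup.toGL k * cj k x * (Matrix.SpecialLinearGroup.toGL k)⁻¹ := by
  unfold cj; group

theorem k_mul_cj (k : Matrix.SpecialLinearGroup (Fin 2) F) (x : GL (Fin 2) F) :
    k.1 * (cj k x).1 = x.1 * k.1 := by
  have h1 : Matrix.SpecialLinearGroup.toGL k * cj k x = x * Matrix.SpecialLinearGroup.toGL k := by
    unfold cj; group
  have h2 := congrArg (fun g : GL (Fin 2) F => g.1) h1
  simp only [Units.val_mul] at h2
  exact h2

theorem pc_cj (k : Matrix.SpecialLinearGroup (Fin 2) F) (a b : GL (Fin 2) F) (h : PC a.1 b.1) :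
    PC (cj k a).1 (cj k b).1 :=
  PglBig.pc_conj (Matrix.SpecialLinearGroup.toGL k) a b h

theorem isSc_cj (k : Matrix.SpecialLinearGroup (Fin 2) F) (a : GL (Fin 2) F) (h : IsSc (cj k a).1) :
    IsSc a.1 :=
  PglBig.isSc_conj (Matrix.SpecialLinearGroup.toGL k) a h

theorem ut_ns (z : GL (Fin 2) F) (hns : ¬ IsSc z.1) (hut : UT z.1) :
    z.1 0 1 ≠ 0 ∧ z.1 0 0 ≠ 0 := by
  refine ⟨?_, ?_⟩
  · intro h01
    apply hns
    refine ⟨z.1 0 0, ?_⟩
    apply mat2_ext
    · simp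
    · simp [h01]
    · simp [hut.1]
    · simp [hut.2]
  · intro h00
    apply gl2_det_ne z
    rw [h00, hut.1]; ring

section grp

variable (G : Subgroup (GL (Fin 2) F ⧸ Subgroup.center (GL (Fin 2) F)))
  (hG : ((Matrix.SpecialLinearGroup.toGL :
      Matrix.SpecialLinearGroup (Fin 2) F →* GL (Fin 2) F).range).map
      (QuotientGroup.mk' (Subgroup.center (GL (Fin 2) F))) ≤ G)

theorem comm_G_of_comm (x y : ↥G) (x' y' : GL (Fin 2) F) (hx : pr 2 F x' = x.1)
    (hy : pr 2 F y' = y.1) (h : x'.1 * y'.1 = y'.1 * x'.1) : x * y = y * x := by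
  apply Subtype.ext
  show x.1 * y.1 = y.1 * x.1
  rw [← hx, ← hy]
  exact pr_comm_of_comm x' y' h

theorem mem_cent_of_comm (s : Matrix.SpecialLinearGroup (Fin 2) F) (x : ↥G) (x' : GL (Fin 2) F)
    (hx : pr 2 F x' = x.1) (h : x'.1 * s.1 = s.1 * x'.1) :
    x ∈ Subgroup.centralizer {iG G hG s} := by
  rw [Subgroup.mem_centralizer_singleton_iff]
  exact comm_G_of_comm G x (iG G hG s) x' (Matrix.SpecialLinearGroup.toGL s) hx rfl h

theorem pc_of_mem_cent (s : Matrix.SpecialLinearGroup (Fin 2) F) (x : ↥G) (x' : GL (Fin 2) F)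
    (hx : pr 2 F x' = x.1) (h : x ∈ Subgroup.centralizer {iG G hG s}) : PC x'.1 s.1 := by
  rw [Subgroup.mem_centralizer_singleton_iff] at h
  exact pc_of_comm_G G x (iG G hG s) x' (Matrix.SpecialLinearGroup.toGL s) hx rfl h

theorem mem_cent_U_iff (k : Matrix.SpecialLinearGroup (Fin 2) F) (x : ↥G) (x' : GL (Fin 2) F)
    (hx : pr 2 F x' = x.1) :
    x ∈ Subgroup.centralizer {iG G hG (k * Umat F * k⁻¹)} ↔ UT (cj k x').1 := by
  constructor
  · intro h
    have h1 := pc_cj k x' (Matrix.SpecialLinearGroup.toGL (k * Umat F * k⁻¹))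
      (pc_of_mem_cent G hG _ x x' hx h)
    rw [cj_toGL] at h1
    exact ut_of_pc (cj k x') (Umat F).1 ⟨by simp [Umat], by simp [Umat]⟩ (by simp [Umat])
      (by simp [Umat]) h1
  · intro h
    apply mem_cent_of_comm G hG _ x x' hx
    have hc : (cj k x').1 * (Umat F).1 = (Umat F).1 * (cj k x').1 :=
      ut_comm _ _ h ⟨by simp [Umat], by simp [Umat]⟩
    have hc' : cj k x' * Matrix.SpecialLinearGroup.toGL (Umat F) =
        Matrix.SpecialLinearGroup.toGL (Umat F) * cj k x' := by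
      apply Units.ext
      rw [Units.val_mul, Units.val_mul]
      exact hc
    obtain ⟨N, hN⟩ : ∃ N, N = cj k x' := ⟨_, rfl⟩
    rw [← hN] at hc'
    have e1 : x' = Matrix.SpecialLinearGroup.toGL k * N * (Matrix.SpecialLinearGroup.toGL k)⁻¹ := by
      rw [hN]; exact eq_of_cj k x'
    have e2 : Matrix.SpecialLinearGroup.toGL (k * Umat F * k⁻¹) =
        Matrix.SpecialLinearGroup.toGL k * Matrix.SpecialLinearGroup.toGL (Umat F) *
          (Matrix.SpecialLinearGroup.toGL k)⁻¹ := by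
      rw [map_mul, map_mul, map_inv]
    have e3 : x' * Matrix.SpecialLinearGroup.toGL (k * Umat F * k⁻¹) =
        Matrix.SpecialLinearGroup.toGL (k * Umat F * k⁻¹) * x' := by
      rw [e2, e1]
      calc Matrix.SpecialLinearGroup.toGL k * N * (Matrix.SpecialLinearGroup.toGL k)⁻¹ *
            (Matrix.SpecialLinearGroup.toGL k * Matrix.SpecialLinearGroup.toGL (Umat F) *
              (Matrix.SpecialLinearGroup.toGL k)⁻¹)
          = Matrix.SpecialLinearGroup.toGL k * (N * Matrix.SpecialLinearGroup.toGL (Umat F)) *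
              (Matrix.SpecialLinearGroup.toGL k)⁻¹ := by group
        _ = Matrix.SpecialLinearGroup.toGL k * (Matrix.SpecialLinearGroup.toGL (Umat F) * N) *
              (Matrix.SpecialLinearGroup.toGL k)⁻¹ := by rw [hc']
        _ = _ := by group
    have e4 := congrArg (fun g : GL (Fin 2) F => g.1) e3
    simp only [Units.val_mul] at e4
    exact e4

theorem theta_pow_scalar (θ : Matrix.SpecialLinearGroup (Fin 2) F) (r : ℕ)
    (h : iG G hG θ ^ r = 1) : ∃ s : F, s ≠ 0 ∧ θ.1 ^ r = s • (1 : Matrix (Fin 2) (Fin 2) F) := by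
  rw [← iG_pow] at h
  have h1 : pr 2 F (Matrix.SpecialLinearGroup.toGL (θ ^ r)) = 1 := by
    rw [← iG_val G hG, h]; rfl
  obtain ⟨s, hs⟩ := (pr_eq_one_iff _).mp h1
  have hs' : θ.1 ^ r = s • (1 : Matrix (Fin 2) (Fin 2) F) := by
    rw [← hs]
    exact (Matrix.SpecialLinearGroup.coe_pow θ r).symm
  refine ⟨s, ?_, hs'⟩
  rintro rfl
  have h2 := congrArg Matrix.det hs'
  rw [Matrix.det_pow, θ.2, one_pow, zero_smul, Matrix.det_zero] at h2
  exact one_ne_zero h2

theorem mem_cent_theta_iff (r : ℕ) (hodd : Odd r) (θ : Matrix.SpecialLinearGroup (Fin 2) F)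
    (hθ : iG G hG θ ^ r = 1) (x : ↥G) (x' : GL (Fin 2) F) (hx : pr 2 F x' = x.1) :
    x ∈ Subgroup.centralizer {iG G hG θ} ↔ x'.1 * θ.1 = θ.1 * x'.1 := by
  constructor
  · intro h
    obtain ⟨s, hs, hθr⟩ := theta_pow_scalar G hG θ r hθ
    exact comm_of_pc_theta x' θ.1 s hs r hodd hθr (by rw [θ.2]; exact one_ne_zero)
      (pc_of_mem_cent G hG θ x x' hx h)
  · intro h
    exact mem_cent_of_comm G hG θ x x' hx h


theorem toGL_val (s : Matrix.SpecialLinearGroup (Fin 2) F) :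
    (Matrix.SpecialLinearGroup.toGL s : GL (Fin 2) F).1 = s.1 := rfl

theorem Umat_00 : (Umat F).1 0 0 = 1 := by simp [Umat]
theorem Umat_01 : (Umat F).1 0 1 = 1 := by simp [Umat]
theorem Umat_10 : (Umat F).1 1 0 = 0 := by simp [Umat]
theorem Umat_11 : (Umat F).1 1 1 = 1 := by simp [Umat]
theorem Lmat_00 : (Lmat F).1 0 0 = 1 := by simp [Lmat]
theorem Lmat_01 : (Lmat F).1 0 1 = 0 := by simp [Lmat]
theorem Lmat_10 : (Lmat F).1 1 0 = 1 := by simp [Lmat]
theorem Lmat_11 : (Lmat F).1 1 1 = 1 := by simp [Lmat]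
theorem Dmat_00 (a : Fˣ) : (Dmat a).1 0 0 = (a : F) := by simp [Dmat]
theorem Dmat_01 (a : Fˣ) : (Dmat a).1 0 1 = 0 := by simp [Dmat]
theorem Dmat_10 (a : Fˣ) : (Dmat a).1 1 0 = 0 := by simp [Dmat]
theorem Dmat_11 (a : Fˣ) : (Dmat a).1 1 1 = ((a⁻¹ : Fˣ) : F) := by simp [Dmat]

theorem sl2_det (k : Matrix.SpecialLinearGroup (Fin 2) F) :
    k.1 0 0 * k.1 1 1 - k.1 0 1 * k.1 1 0 = 1 := by
  have := k.2
  rw [Matrix.det_fin_two] at this
  exact this

theorem isSc_cj' (k : Matrix.SpecialLinearGroup (Fin 2) F) (a : GL (Fin 2) F) (h : IsSc a.1) :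
    IsSc (cj k a).1 := by
  have hc := mem_center_of_isSc a h
  rw [Subgroup.mem_center_iff] at hc
  have : cj k a = a := by
    unfold cj
    rw [mul_assoc, ← hc, ← mul_assoc, inv_mul_cancel, one_mul]
  rw [this]
  exact h

theorem comm_of_cj_comm (k : Matrix.SpecialLinearGroup (Fin 2) F) (x' y' : GL (Fin 2) F)
    (hc : (cj k x').1 * (cj k y').1 = (cj k y').1 * (cj k x').1) :
    x'.1 * y'.1 = y'.1 * x'.1 := by
  have hc' : cj k x' * cj k y' = cj k y' * cj k x' := by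
    apply Units.ext
    rw [Units.val_mul, Units.val_mul]
    exact hc
  rw [← cj_mul, ← cj_mul] at hc'
  have e : x' * y' = y' * x' := by
    rw [eq_of_cj k (x' * y'), hc', ← eq_of_cj k (y' * x')]
  have e' := congrArg (fun g : GL (Fin 2) F => g.1) e
  simp only [Units.val_mul] at e'
  exact e'

theorem cent_U_comm (k : Matrix.SpecialLinearGroup (Fin 2) F) :
    ∀ x ∈ Subgroup.centralizer {iG G hG (k * Umat F * k⁻¹)},
      ∀ y ∈ Subgroup.centralizer {iG G hG (k * Umat F * k⁻¹)}, x * y = y * x := by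
  intro x hx y hy
  obtain ⟨x', hx'⟩ := exists_lift G x
  obtain ⟨y', hy'⟩ := exists_lift G y
  have h1 := (mem_cent_U_iff G hG k x x' hx').mp hx
  have h2 := (mem_cent_U_iff G hG k y y' hy').mp hy
  exact comm_G_of_comm G x y x' y' hx' hy' (comm_of_cj_comm k x' y' (ut_comm _ _ h1 h2))

theorem conj_U_ne_one (k : Matrix.SpecialLinearGroup (Fin 2) F) :
    iG G hG (k * Umat F * k⁻¹) ≠ 1 := by
  apply iG_ne_one
  intro hsc
  have h1 := isSc_cj' k (Matrix.SpecialLinearGroup.toGL (k * Umat F * k⁻¹)) hsc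
  rw [cj_toGL] at h1
  obtain ⟨c, hc⟩ := h1
  have h2 := congrFun (congrFun hc 0) 1
  rw [toGL_val, Umat_01] at h2
  simp at h2

theorem nil_le_cent_U (k : Matrix.SpecialLinearGroup (Fin 2) F) (A : Subgroup ↥G)
    (hA : Group.IsNilpotent A) (hmem : iG G hG (k * Umat F * k⁻¹) ∈ A) :
    A ≤ Subgroup.centralizer {iG G hG (k * Umat F * k⁻¹)} := by
  obtain ⟨z, hz, z', hz', hzns, hzc⟩ :=
    exists_central_lift G A hA _ hmem (conj_U_ne_one G hG k)
  have h1 : PC (cj k z').1 (Umat F).1 := by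
    have h0 := pc_cj k z' (Matrix.SpecialLinearGroup.toGL (k * Umat F * k⁻¹))
      (hzc _ hmem (Matrix.SpecialLinearGroup.toGL (k * Umat F * k⁻¹)) rfl).symm
    rw [cj_toGL] at h0
    exact h0
  have hut := ut_of_pc (cj k z') (Umat F).1 ⟨Umat_10, by rw [Umat_00, Umat_11]⟩
    (by rw [Umat_01]; exact one_ne_zero) (by rw [Umat_00]; exact one_ne_zero) h1
  obtain ⟨h01, h00⟩ := ut_ns (cj k z') (fun h => hzns (isSc_cj k z' h)) hut
  intro y hy
  obtain ⟨y', hy'⟩ := exists_lift G y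
  rw [mem_cent_U_iff G hG k y y' hy']
  exact ut_of_pc (cj k y') (cj k z').1 hut h01 h00 (pc_cj k y' z' (hzc y hy y' hy'))

theorem norm_cent_U_ne_top (k : Matrix.SpecialLinearGroup (Fin 2) F) :
    Subgroup.normalizer (Subgroup.centralizer {iG G hG (k * Umat F * k⁻¹)} : Set ↥G) ≠ ⊤ := by
  intro htop
  have hg : iG G hG (k * Lmat F * k⁻¹) ∈
      Subgroup.normalizer (Subgroup.centralizer {iG G hG (k * Umat F * k⁻¹)} : Set ↥G) := by
    rw [htop]; trivial
  rw [Subgroup.mem_normalizer_iff] at hg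
  have h1 := (hg (iG G hG (k * Umat F * k⁻¹))).mp (Subgroup.mem_centralizer_singleton_iff.mpr rfl)
  have e : iG G hG (k * Lmat F * k⁻¹) * iG G hG (k * Umat F * k⁻¹) *
      (iG G hG (k * Lmat F * k⁻¹))⁻¹ =
      iG G hG (k * (Lmat F * Umat F * (Lmat F)⁻¹) * k⁻¹) := by
    rw [← iG_inv, ← iG_mul, ← iG_mul]
    congr 1
    group
  rw [e] at h1
  have h2 := (mem_cent_U_iff G hG k _
    (Matrix.SpecialLinearGroup.toGL (k * (Lmat F * Umat F * (Lmat F)⁻¹) * k⁻¹)) rfl).mp h1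
  rw [cj_toGL, toGL_val] at h2
  have hN : (Lmat F * Umat F * (Lmat F)⁻¹).1 * (Lmat F).1 = (Lmat F).1 * (Umat F).1 := by
    have h3 : (Lmat F * Umat F * (Lmat F)⁻¹) * Lmat F = Lmat F * Umat F := by group
    have h4 := congrArg (fun s : Matrix.SpecialLinearGroup (Fin 2) F => s.1) h3
    simp only [Matrix.SpecialLinearGroup.coe_mul] at h4
    exact h4
  obtain ⟨e00, e01, e10, e11⟩ := mul_eq_entries hN
  obtain ⟨u10, u11⟩ := h2
  simp only [Lmat_00, Lmat_01, Lmat_10, Lmat_11, Umat_00, Umat_01, Umat_10, Umat_11, u10,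
    mul_one, mul_zero, zero_mul, add_zero, zero_add] at e10 e11
  have : (1 : F) = 0 := by linear_combination e10 - e11
  exact one_ne_zero this

theorem mem_norm_cent_U (k : Matrix.SpecialLinearGroup (Fin 2) F) (g : ↥G) (g' : GL (Fin 2) F)
    (hg : pr 2 F g' = g.1) (h10 : (cj k g').1 1 0 = 0) :
    g ∈ Subgroup.normalizer (Subgroup.centralizer {iG G hG (k * Umat F * k⁻¹)} : Set ↥G) := by
  rw [Subgroup.mem_normalizer_iff]
  intro x
  obtain ⟨x', hx'⟩ := exists_lift G x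
  have hx'' : pr 2 F (g' * x' * g'⁻¹) = (g * x * g⁻¹).1 := by
    rw [map_mul, map_mul, map_inv, hg, hx']; rfl
  rw [mem_cent_U_iff G hG k x x' hx', mem_cent_U_iff G hG k _ _ hx'']
  have hb := gl2_det_ne (cj k g')
  rw [h10] at hb
  have hb0 : (cj k g').1 0 0 ≠ 0 := by intro h; apply hb; rw [h]; ring
  have hb1 : (cj k g').1 1 1 ≠ 0 := by intro h; apply hb; rw [h]; ring
  have hrel : (cj k (g' * x' * g'⁻¹)).1 * (cj k g').1 = (cj k g').1 * (cj k x').1 := by
    rw [← Units.val_mul, ← Units.val_mul]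
    congr 1
    rw [cj_mul, cj_mul, cj_inv]
    group
  exact (ut_conj_iff (cj k g').1 (cj k x').1 (cj k (g' * x' * g'⁻¹)).1 h10 hb0 hb1 hrel).symm

omit G hG in
theorem exists_k_of_root (g' : GL (Fin 2) F) (ρ : F)
    (hρ : ρ ^ 2 - (g'.1 0 0 + g'.1 1 1) * ρ + (g'.1 0 0 * g'.1 1 1 - g'.1 0 1 * g'.1 1 0) = 0) :
    ∃ k : Matrix.SpecialLinearGroup (Fin 2) F, (cj k g').1 1 0 = 0 := by
  by_cases h10 : g'.1 1 0 = 0
  · refine ⟨1, ?_⟩
    have : cj 1 g' = g' := by unfold cj; simp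
    rw [this]; exact h10
  · let k : Matrix.SpecialLinearGroup (Fin 2) F :=
      ⟨!![ρ - g'.1 1 1, -(g'.1 1 0)⁻¹; g'.1 1 0, 0], by simp [Matrix.det_fin_two, h10]⟩
    refine ⟨k, ?_⟩
    obtain ⟨e00, e01, e10, e11⟩ := mul_eq_entries (k_mul_cj k g')
    have k00 : k.1 0 0 = ρ - g'.1 1 1 := by simp [k]
    have k01 : k.1 0 1 = -(g'.1 1 0)⁻¹ := by simp [k]
    have k10 : k.1 1 0 = g'.1 1 0 := by simp [k]
    have k11 : k.1 1 1 = 0 := by simp [k]
    rw [k00, k01, k10] at e00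
    rw [k00, k10, k11] at e10
    have hN00 : (cj k g').1 0 0 = ρ := by
      have : g'.1 1 0 * ((cj k g').1 0 0 - ρ) = 0 := by linear_combination e10
      rcases mul_eq_zero.mp this with h | h
      · exact absurd h h10
      · linear_combination h
    rw [hN00] at e00
    have : (g'.1 1 0)⁻¹ * (cj k g').1 1 0 = 0 := by linear_combination hρ - e00
    rcases mul_eq_zero.mp this with h | h
    · exact absurd h (inv_ne_zero h10)
    · exact h

theorem diag_notin_cent_U (k : Matrix.SpecialLinearGroup (Fin 2) F) (a : Fˣ)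
    (ha2 : (a : F) ^ 2 ≠ 1) :
    iG G hG (Dmat a) ∉ Subgroup.centralizer {iG G hG (k * Umat F * k⁻¹)} := by
  intro h
  have hut := (mem_cent_U_iff G hG k _ (Matrix.SpecialLinearGroup.toGL (Dmat a)) rfl).mp h
  obtain ⟨e00, e01, e10, e11⟩ :=
    mul_eq_entries (k_mul_cj k (Matrix.SpecialLinearGroup.toGL (Dmat a)))
  obtain ⟨n10, n11⟩ := hut
  have hab : (a : F) * ((a⁻¹ : Fˣ) : F) = 1 := by simp
  have hne : (a : F) - ((a⁻¹ : Fˣ) : F) ≠ 0 := by
    intro h0
    apply ha2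
    have : ((a⁻¹ : Fˣ) : F) = a := by linear_combination -h0
    rw [this] at hab
    linear_combination hab
  have hdet := sl2_det k
  simp only [toGL_val, Dmat_00, Dmat_01, Dmat_10, Dmat_11, n10, n11, mul_zero, zero_mul,
    add_zero, zero_add] at e00 e01 e10 e11
  by_cases hk : k.1 0 0 = 0
  · have hk10 : k.1 1 0 ≠ 0 := by
      intro h0; rw [hk, h0] at hdet; simp at hdet
    have he : (cj k (Matrix.SpecialLinearGroup.toGL (Dmat a))).1 1 1 = ((a⁻¹ : Fˣ) : F) := by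
      have : k.1 1 0 * ((cj k (Matrix.SpecialLinearGroup.toGL (Dmat a))).1 1 1 -
          ((a⁻¹ : Fˣ) : F)) = 0 := by linear_combination e10
      rcases mul_eq_zero.mp this with h1 | h1
      · exact absurd h1 hk10
      · linear_combination h1
    rw [hk, he] at e01
    have h2 : k.1 0 1 * ((a : F) - ((a⁻¹ : Fˣ) : F)) = 0 := by linear_combination -e01
    rcases mul_eq_zero.mp h2 with h3 | h3
    · rw [hk, h3] at hdet; simp at hdet
    · exact hne h3
  · have he : (cj k (Matrix.SpecialLinearGroup.toGL (Dmat a))).1 1 1 = (a : F) := by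
      have : k.1 0 0 * ((cj k (Matrix.SpecialLinearGroup.toGL (Dmat a))).1 1 1 - (a : F)) = 0 := by
        linear_combination e00
      rcases mul_eq_zero.mp this with h1 | h1
      · exact absurd h1 hk
      · linear_combination h1
    rw [he] at e10 e11
    have hk10 : k.1 1 0 = 0 := by
      have : k.1 1 0 * ((a : F) - ((a⁻¹ : Fˣ) : F)) = 0 := by linear_combination e10
      rcases mul_eq_zero.mp this with h1 | h1
      · exact h1
      · exact absurd h1 hne
    rw [hk10] at e11 hdet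
    have hk11 : k.1 1 1 = 0 := by
      have : k.1 1 1 * ((a : F) - ((a⁻¹ : Fˣ) : F)) = 0 := by linear_combination e11
      rcases mul_eq_zero.mp this with h1 | h1
      · exact h1
      · exact absurd h1 hne
    rw [hk11] at hdet
    simp at hdet


theorem cent_theta_comm (r : ℕ) (hodd : Odd r) (θ : Matrix.SpecialLinearGroup (Fin 2) F)
    (hθ10 : θ.1 1 0 ≠ 0) (hθ : iG G hG θ ^ r = 1) :
    ∀ x ∈ Subgroup.centralizer {iG G hG θ},
      ∀ y ∈ Subgroup.centralizer {iG G hG θ}, x * y = y * x := by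
  intro x hx y hy
  obtain ⟨x', hx'⟩ := exists_lift G x
  obtain ⟨y', hy'⟩ := exists_lift G y
  have h1 := (mem_cent_theta_iff G hG r hodd θ hθ x x' hx').mp hx
  have h2 := (mem_cent_theta_iff G hG r hodd θ hθ y y' hy').mp hy
  exact comm_G_of_comm G x y x' y' hx' hy' (comm_of_comm_theta _ _ _ hθ10 h1 h2)

omit G hG in
theorem key_theta (y z : GL (Fin 2) F) (θ : Matrix (Fin 2) (Fin 2) F) (h10 : θ 1 0 ≠ 0)
    (hzθ : z.1 * θ = θ * z.1) (hzns : ¬ IsSc z.1) (h : PC y.1 z.1) (m : ℕ) (hm : Odd m)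
    (hym : (y ^ m).1 * θ = θ * (y ^ m).1) : y.1 * θ = θ * y.1 := by
  obtain ⟨μ, hμ, h⟩ := h
  obtain ⟨α, β, hz⟩ : ∃ α β : F, z.1 = α • (1 : Matrix (Fin 2) (Fin 2) F) + β • θ :=
    ⟨_, _, eq_lin_of_comm z.1 θ h10 hzθ⟩
  have hβ0 : β ≠ 0 := by
    intro h0
    apply hzns
    refine ⟨α, ?_⟩
    rw [hz, h0, zero_smul, add_zero]
  have hdy := ((Matrix.isUnit_iff_isUnit_det y.1).mp y.isUnit).ne_zero
  have hdz := ((Matrix.isUnit_iff_isUnit_det z.1).mp z.isUnit).ne_zero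
  have hμ2 : μ ^ 2 = 1 := by
    have h1 := congrArg Matrix.det h
    rw [Matrix.det_mul, Matrix.det_smul, Matrix.det_mul, Fintype.card_fin] at h1
    have h2 : (y.1.det * z.1.det) * (1 - μ ^ 2) = 0 := by linear_combination h1
    rcases mul_eq_zero.mp h2 with h3 | h3
    · exact absurd h3 (mul_ne_zero hdy hdz)
    · linear_combination -h3
  have hpow : ∀ k : ℕ, y.1 ^ k * z.1 = μ ^ k • (z.1 * y.1 ^ k) := by
    intro k
    induction k with
    | zero => simp
    | succ k ih =>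
      rw [pow_succ, Matrix.mul_assoc, h, Matrix.mul_smul, ← Matrix.mul_assoc, ih,
        Matrix.smul_mul, smul_smul, Matrix.mul_assoc, pow_succ, mul_comm]
  have hymz : y.1 ^ m * z.1 = z.1 * y.1 ^ m := by
    have e : (y ^ m).1 = y.1 ^ m := Units.val_pow_eq_pow_val y m
    rw [e] at hym
    rw [hz]
    simp only [Matrix.mul_add, Matrix.add_mul, Matrix.mul_smul, Matrix.smul_mul, mul_one, one_mul]
    rw [hym]
  have hμm : μ ^ m = 1 := by
    have h1 := hpow m
    rw [hymz] at h1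
    by_contra hne
    have hd : (z.1 * y.1 ^ m).det ≠ 0 := by
      rw [Matrix.det_mul, Matrix.det_pow]; exact mul_ne_zero hdz (pow_ne_zero _ hdy)
    apply hd
    have h0 : z.1 * y.1 ^ m = 0 := by
      ext i j
      have h2 := congrFun (congrFun h1 i) j
      simp only [Matrix.smul_apply, smul_eq_mul] at h2
      have h3 : (1 - μ ^ m) * (z.1 * y.1 ^ m) i j = 0 := by linear_combination h2
      rcases mul_eq_zero.mp h3 with h4 | h4
      · exact absurd (by linear_combination -h4 : μ ^ m = 1) hne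
      · exact h4
    rw [h0, Matrix.det_zero]
  have hμ1 : μ = 1 := by
    obtain ⟨j, rfl⟩ := hm
    rw [pow_succ, pow_mul, hμ2, one_pow, one_mul] at hμm
    exact hμm
  rw [hμ1, one_smul, hz] at h
  simp only [Matrix.mul_add, Matrix.add_mul, Matrix.mul_smul, Matrix.smul_mul, mul_one,
    one_mul] at h
  have h' : β • (y.1 * θ) = β • (θ * y.1) := add_left_cancel h
  have h'' := congrArg (fun M : Matrix (Fin 2) (Fin 2) F => β⁻¹ • M) h'
  simp only [smul_smul, inv_mul_cancel₀ hβ0, one_smul] at h''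
  exact h''

theorem nil_le_cent_theta [Finite ↥G] (r : ℕ) (hr : r.Prime) (hodd : Odd r)
    (θ : Matrix.SpecialLinearGroup (Fin 2) F) (hθ10 : θ.1 1 0 ≠ 0)
    (hord : orderOf (iG G hG θ) = r) (A : Subgroup ↥G) (hA : Group.IsNilpotent A)
    (hmem : iG G hG θ ∈ A) : A ≤ Subgroup.centralizer {iG G hG θ} := by
  have hθr : iG G hG θ ^ r = 1 := by rw [← hord]; exact pow_orderOf_eq_one _
  have hne : iG G hG θ ≠ 1 := by
    intro h
    rw [h, orderOf_one] at hord
    exact hr.one_lt.ne hord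
  obtain ⟨z, hz, z', hz', hzns, hzc⟩ := exists_central_lift G A hA _ hmem hne
  obtain ⟨s, hs, hθs⟩ := theta_pow_scalar G hG θ r hθr
  have hdθ : θ.1.det ≠ 0 := by rw [θ.2]; exact one_ne_zero
  have hzθ : z'.1 * θ.1 = θ.1 * z'.1 :=
    comm_of_pc_theta z' θ.1 s hs r hodd hθs hdθ
      (hzc _ hmem (Matrix.SpecialLinearGroup.toGL θ) rfl).symm
  intro y hy
  obtain ⟨y', hy'⟩ := exists_lift G y
  rw [mem_cent_theta_iff G hG r hodd θ hθr y y' hy']
  have hN : orderOf (⟨y, hy⟩ : A) ≠ 0 := (orderOf_pos _).ne'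
  obtain ⟨a, m, hm, hNm⟩ := Nat.exists_eq_two_pow_mul_odd hN
  have : Group.IsNilpotent A := hA
  have hy1 : ((⟨y, hy⟩ : A) ^ m) ^ (2 ^ a) = 1 := by
    rw [← pow_mul, mul_comm, ← hNm]; exact pow_orderOf_eq_one _
  have hθ1 : (⟨iG G hG θ, hmem⟩ : A) ^ r = 1 := by
    apply Subtype.ext
    exact hθr
  have hc := NilCoprime.commute_of_coprime A ((⟨y, hy⟩ : A) ^ m) ⟨iG G hG θ, hmem⟩
    (isOfFinOrder_of_finite _) (isOfFinOrder_of_finite _)
    (Nat.Coprime.coprime_dvd_left (orderOf_dvd_of_pow_eq_one hy1)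
      (Nat.Coprime.coprime_dvd_right (orderOf_dvd_of_pow_eq_one hθ1)
        (Nat.Coprime.pow_left _ (Nat.coprime_two_left.mpr hodd))))
  have hc' : y ^ m * iG G hG θ = iG G hG θ * y ^ m := by
    have := congrArg Subtype.val hc
    simpa using this
  have hym : (y' ^ m).1 * θ.1 = θ.1 * (y' ^ m).1 := by
    have hlift : pr 2 F (y' ^ m) = (y ^ m).1 := by rw [map_pow, hy']; rfl
    exact (mem_cent_theta_iff G hG r hodd θ hθr (y ^ m) (y' ^ m) hlift).mp
      (Subgroup.mem_centralizer_singleton_iff.mpr hc')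
  exact key_theta y' z' θ.1 hθ10 hzθ hzns (hzc y hy y' hy') m hm hym

theorem norm_cent_theta_ne_top (h2 : (2 : F) ≠ 0) (r : ℕ) (hodd : Odd r)
    (θ : Matrix.SpecialLinearGroup (Fin 2) F) (hθ10 : θ.1 1 0 ≠ 0) (hθr : iG G hG θ ^ r = 1) :
    Subgroup.normalizer (Subgroup.centralizer {iG G hG θ} : Set ↥G) ≠ ⊤ := by
  intro htop
  have hg : iG G hG (Umat F) ∈
      Subgroup.normalizer (Subgroup.centralizer {iG G hG θ} : Set ↥G) := by
    rw [htop]; trivial
  rw [Subgroup.mem_normalizer_iff] at hg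
  have h1 := (hg (iG G hG θ)).mp (Subgroup.mem_centralizer_singleton_iff.mpr rfl)
  have e : iG G hG (Umat F) * iG G hG θ * (iG G hG (Umat F))⁻¹ =
      iG G hG (Umat F * θ * (Umat F)⁻¹) := by
    rw [← iG_inv, ← iG_mul, ← iG_mul]
  rw [e] at h1
  have h3 := (mem_cent_theta_iff G hG r hodd θ hθr _
    (Matrix.SpecialLinearGroup.toGL (Umat F * θ * (Umat F)⁻¹)) rfl).mp h1
  rw [toGL_val] at h3
  have hN : (Umat F * θ * (Umat F)⁻¹).1 * (Umat F).1 = (Umat F).1 * θ.1 := by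
    have h4 : (Umat F * θ * (Umat F)⁻¹) * Umat F = Umat F * θ := by group
    have h5 := congrArg (fun s : Matrix.SpecialLinearGroup (Fin 2) F => s.1) h4
    simp only [Matrix.SpecialLinearGroup.coe_mul] at h5
    exact h5
  obtain ⟨a00, a01, a10, a11⟩ := mul_eq_entries hN
  obtain ⟨b00, b01, b10, b11⟩ := mul_eq_entries h3
  simp only [Umat_00, Umat_01, Umat_10, Umat_11, mul_one, mul_zero, zero_mul, add_zero,
    zero_add, one_mul] at a00 a01 a10 a11
  have h6 : 2 * θ.1 1 0 ^ 2 = 0 := by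
    linear_combination (-1 : F) * b10 + (θ.1 0 0 - θ.1 1 0 - θ.1 1 1) * a10 + θ.1 1 0 * a11 -
      θ.1 1 0 * a00
  rcases mul_eq_zero.mp h6 with h7 | h7
  · exact h2 h7
  · exact hθ10 (pow_eq_zero_iff (by norm_num) |>.mp h7)

theorem diag_notin_cent_theta (r : ℕ) (hodd : Odd r)
    (θ : Matrix.SpecialLinearGroup (Fin 2) F) (hθ10 : θ.1 1 0 ≠ 0) (hθr : iG G hG θ ^ r = 1)
    (a : Fˣ) (ha2 : (a : F) ^ 2 ≠ 1) :
    iG G hG (Dmat a) ∉ Subgroup.centralizer {iG G hG θ} := by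
  intro h
  have h3 := (mem_cent_theta_iff G hG r hodd θ hθr _
    (Matrix.SpecialLinearGroup.toGL (Dmat a)) rfl).mp h
  obtain ⟨b00, b01, b10, b11⟩ := mul_eq_entries h3
  simp only [toGL_val, Dmat_00, Dmat_01, Dmat_10, Dmat_11, zero_mul, mul_zero, add_zero,
    zero_add] at b10
  have hab : (a : F) * ((a⁻¹ : Fˣ) : F) = 1 := by simp
  have hne : (a : F) - ((a⁻¹ : Fˣ) : F) ≠ 0 := by
    intro h0
    apply ha2
    have : ((a⁻¹ : Fˣ) : F) = a := by linear_combination -h0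
    rw [this] at hab
    linear_combination hab
  have h4 : θ.1 1 0 * ((a : F) - ((a⁻¹ : Fˣ) : F)) = 0 := by linear_combination -b10
  rcases mul_eq_zero.mp h4 with h5 | h5
  · exact hθ10 h5
  · exact hne h5


end grp

theorem exists_theta [Fintype F] (h2 : (2 : F) ≠ 0) (r : ℕ) (hr : r.Prime) (hodd : Odd r)
    (hdiv : r ∣ Fintype.card F + 1) (g' : GL (Fin 2) F)
    (hno : ∀ ρ : F, ρ ^ 2 - (g'.1 0 0 + g'.1 1 1) * ρ +
      (g'.1 0 0 * g'.1 1 1 - g'.1 0 1 * g'.1 1 0) ≠ 0) :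
    ∃ θ : Matrix.SpecialLinearGroup (Fin 2) F,
      θ.1 1 0 ≠ 0 ∧ orderOf θ = r ∧ g'.1 * θ.1 = θ.1 * g'.1 := by
  classical
  have hg10 : g'.1 1 0 ≠ 0 := by
    intro h0
    apply hno (g'.1 0 0)
    rw [h0]; ring
  obtain ⟨τ, hτ⟩ : ∃ τ : F, τ = g'.1 0 0 + g'.1 1 1 := ⟨_, rfl⟩
  obtain ⟨δ, hδ⟩ : ∃ δ : F, δ = g'.1 0 0 * g'.1 1 1 - g'.1 0 1 * g'.1 1 0 := ⟨_, rfl⟩
  rw [← hτ, ← hδ] at hno
  obtain ⟨c, hc⟩ : ∃ c : F, 2 * c + τ ≠ 0 := by
    by_cases h : τ = 0
    · exact ⟨1, by rw [h, add_zero, mul_one]; exact h2⟩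
    · exact ⟨0, by rw [mul_zero, zero_add]; exact h⟩
  have hδ' : c ^ 2 + c * τ + δ ≠ 0 := by
    have h1 := hno (-c)
    intro h0
    apply h1
    linear_combination h0
  obtain ⟨A, hAdef⟩ : ∃ A : F, A = (2 * c + τ) / (c ^ 2 + c * τ + δ) := ⟨_, rfl⟩
  obtain ⟨B, hBdef⟩ : ∃ B : F, B = A * c - 1 := ⟨_, rfl⟩
  have hA : A ≠ 0 := by rw [hAdef]; exact div_ne_zero hc hδ'
  have hAeq : A * (c ^ 2 + c * τ + δ) = 2 * c + τ := by
    rw [hAdef]; exact div_mul_cancel₀ _ hδ'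
  have hdet1 : A ^ 2 * δ + A * B * τ + B ^ 2 = 1 := by
    rw [hBdef]
    linear_combination A * hAeq
  let g₁ : Matrix.SpecialLinearGroup (Fin 2) F :=
    ⟨!![A * g'.1 0 0 + B, A * g'.1 0 1; A * g'.1 1 0, A * g'.1 1 1 + B], by
      rw [Matrix.det_fin_two_of]
      linear_combination hdet1 - A ^ 2 * hδ - A * B * hτ⟩
  have g00 : g₁.1 0 0 = A * g'.1 0 0 + B := by simp [g₁]
  have g01 : g₁.1 0 1 = A * g'.1 0 1 := by simp [g₁]
  have g10 : g₁.1 1 0 = A * g'.1 1 0 := by simp [g₁]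
  have g11 : g₁.1 1 1 = A * g'.1 1 1 + B := by simp [g₁]
  have hns : ¬ (g₁.1 0 1 = 0 ∧ g₁.1 1 0 = 0 ∧ g₁.1 0 0 = g₁.1 1 1) := by
    rintro ⟨_, h, _⟩
    rw [g10] at h
    rcases mul_eq_zero.mp h with h | h
    · exact hA h
    · exact hg10 h
  have ht : g₁.1 0 0 + g₁.1 1 1 = A * τ + 2 * B := by rw [g00, g11, hτ]; ring
  have hcard := Cfsg.Agent.Lib.Helper42.SL2Odd.card_centralizer g₁ hns
  have hsol := Cfsg.Agent.Lib.Helper42.SL2Odd.card_sol_nonsplit h2 (g₁.1 0 0 + g₁.1 1 1) (by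
    intro ρ hρ
    rw [ht] at hρ
    apply hno ((ρ - B) / A)
    have e1 : A * ((ρ - B) / A) = ρ - B := by field_simp
    obtain ⟨ρ', hρ'⟩ : ∃ ρ' : F, ρ' = (ρ - B) / A := ⟨_, rfl⟩
    rw [← hρ'] at e1 ⊢
    have hρe : ρ = A * ρ' + B := by rw [e1]; ring
    rw [hρe] at hρ
    have h3 : A ^ 2 * (ρ' ^ 2 - τ * ρ' + δ) = 0 := by linear_combination hρ + hdet1
    rcases mul_eq_zero.mp h3 with h4 | h4
    · exact absurd (pow_eq_zero_iff (by norm_num) |>.mp h4) hA
    · exact h4)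
  have hcardC : Nat.card (Subgroup.centralizer {g₁}) = Fintype.card F + 1 := hcard.trans hsol
  have : Fact r.Prime := ⟨hr⟩
  obtain ⟨θ₀, hθ₀⟩ := exists_prime_orderOf_dvd_card' (G := Subgroup.centralizer {g₁}) r
    (by rw [hcardC]; exact hdiv)
  have hord : orderOf (θ₀ : Matrix.SpecialLinearGroup (Fin 2) F) = r := by
    rw [Subgroup.orderOf_coe]; exact hθ₀
  have hcomm : (θ₀ : Matrix.SpecialLinearGroup (Fin 2) F) * g₁ = g₁ * θ₀ :=
    Subgroup.mem_centralizer_singleton_iff.mp θ₀.2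
  obtain ⟨θ, hθ⟩ : ∃ θ : Matrix.SpecialLinearGroup (Fin 2) F, θ = θ₀ := ⟨_, rfl⟩
  rw [← hθ] at hord hcomm
  have hcm : θ.1 * g₁.1 = g₁.1 * θ.1 := by
    have h5 := congrArg (fun s : Matrix.SpecialLinearGroup (Fin 2) F => s.1) hcomm
    simp only [Matrix.SpecialLinearGroup.coe_mul] at h5
    exact h5
  have hg₁ : g₁.1 = A • g'.1 + B • (1 : Matrix (Fin 2) (Fin 2) F) := by
    apply mat2_ext
    · rw [g00]; simp
    · rw [g01]; simp
    · rw [g10]; simp
    · rw [g11]; simp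
  have hcg : g'.1 * θ.1 = θ.1 * g'.1 := by
    rw [hg₁] at hcm
    simp only [Matrix.mul_add, Matrix.add_mul, Matrix.mul_smul, Matrix.smul_mul, mul_one,
      one_mul] at hcm
    have h6 : A • (θ.1 * g'.1) = A • (g'.1 * θ.1) := add_right_cancel hcm
    have h7 := congrArg (fun M : Matrix (Fin 2) (Fin 2) F => A⁻¹ • M) h6
    simp only [smul_smul, inv_mul_cancel₀ hA, one_smul] at h7
    exact h7.symm
  refine ⟨θ, ?_, hord, hcg⟩
  intro h0
  obtain ⟨e00, e01, e10, e11⟩ := mul_eq_entries hcg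
  rw [h0] at e00 e10
  have h8 : θ.1 0 0 = θ.1 1 1 := by
    have : g'.1 1 0 * (θ.1 0 0 - θ.1 1 1) = 0 := by linear_combination e10
    rcases mul_eq_zero.mp this with h | h
    · exact absurd h hg10
    · linear_combination h
  have h9 : θ.1 0 1 = 0 := by
    have : g'.1 1 0 * θ.1 0 1 = 0 := by linear_combination -e00
    rcases mul_eq_zero.mp this with h | h
    · exact absurd h hg10
    · exact h
  have hsc : θ.1 = (θ.1 0 0) • (1 : Matrix (Fin 2) (Fin 2) F) := by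
    apply mat2_ext
    · simp
    · simp [h9]
    · simp [h0]
    · simp [h8]
  have hd := sl2_det θ
  rw [h0, h9, ← h8] at hd
  have hsq : θ.1 0 0 ^ 2 = 1 := by linear_combination hd
  have hpow : θ.1 ^ r = 1 := by
    have h10 : θ ^ r = 1 := by rw [← hord]; exact pow_orderOf_eq_one _
    have h11 := congrArg (fun s : Matrix.SpecialLinearGroup (Fin 2) F => s.1) h10
    simp only [Matrix.SpecialLinearGroup.coe_pow, Matrix.SpecialLinearGroup.coe_one] at h11
    exact h11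
  rw [hsc, smul_pow, one_pow] at hpow
  have hpw : θ.1 0 0 ^ r = 1 := by
    have h12 := congrFun (congrFun hpow 0) 0
    simpa using h12
  have h1' : θ.1 0 0 = 1 := by
    obtain ⟨j, rfl⟩ := hodd
    rw [pow_succ, pow_mul, hsq, one_pow, one_mul] at hpw
    exact hpw
  have hθ1 : θ = 1 := by
    apply Subtype.ext
    rw [hsc, h1', one_smul]
    rfl
  rw [hθ1, orderOf_one] at hord
  exact hr.one_lt.ne hord

/-- the case of degree two when `q` is odd and `q + 1` has an odd prime divisor -/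
theorem small_case_two [Fintype F] (h2 : (2 : F) ≠ 0) (h4 : 4 ≤ Fintype.card F) (r : ℕ)
    (hr : r.Prime) (hodd : Odd r) (hdiv : r ∣ Fintype.card F + 1)
    (G : Subgroup (GL (Fin 2) F ⧸ Subgroup.center (GL (Fin 2) F)))
    (hG : ((Matrix.SpecialLinearGroup.toGL :
      Matrix.SpecialLinearGroup (Fin 2) F →* GL (Fin 2) F).range).map
      (QuotientGroup.mk' (Subgroup.center (GL (Fin 2) F))) ≤ G) :
    ¬ ∃ 𝓐 : Finset (Subgroup ↥G), ((∀ A ∈ 𝓐, A ≠ ⊤) ∧ (∀ g : ↥G, ∃ A ∈ 𝓐, g ∈ A)) ∧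
      (∀ 𝓑 : Finset (Subgroup ↥G), (∀ A ∈ 𝓑, A ≠ ⊤) ∧ (∀ g : ↥G, ∃ A ∈ 𝓑, g ∈ A) →
        𝓐.card ≤ 𝓑.card) ∧ (∀ A ∈ 𝓐, Group.IsNilpotent ↥A) := by
  classical
  have hfin : Finite ↥G := inferInstance
  have : Fact r.Prime := ⟨hr⟩
  obtain ⟨a, ha2⟩ : ∃ a : Fˣ, (a : F) ^ 2 ≠ 1 := by
    by_contra hcon
    push Not at hcon
    have hsub : (Finset.univ : Finset F) ⊆ {0, 1, -1} := by
      intro x _
      by_cases hx : x = 0
      · simp [hx]
      · have h0 := hcon (Units.mk0 x hx)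
        simp only [Units.val_mk0] at h0
        have h1 : (x - 1) * (x + 1) = 0 := by linear_combination h0
        rcases mul_eq_zero.mp h1 with h | h
        · have : x = 1 := by linear_combination h
          simp [this]
        · have : x = -1 := by linear_combination h
          simp [this]
    have hle := Finset.card_le_card hsub
    rw [Finset.card_univ] at hle
    have h3 : ({0, 1, -1} : Finset F).card ≤ 3 := Finset.card_le_three
    omega
  let hI : (Matrix.SpecialLinearGroup (Fin 2) F) ⊕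
      {θ : Matrix.SpecialLinearGroup (Fin 2) F // θ.1 1 0 ≠ 0 ∧ orderOf (iG G hG θ) = r} → ↥G :=
    Sum.elim (fun k => iG G hG (k * Umat F * k⁻¹)) (fun θ => iG G hG θ.1)
  have hpw : ∀ θ : {θ : Matrix.SpecialLinearGroup (Fin 2) F //
      θ.1 1 0 ≠ 0 ∧ orderOf (iG G hG θ) = r}, iG G hG θ.1 ^ r = 1 := by
    intro θ
    have h := pow_orderOf_eq_one (iG G hG θ.1)
    rw [θ.2.2] at h
    exact h
  have hcomm : ∀ i, ∀ x ∈ Subgroup.centralizer {hI i}, ∀ y ∈ Subgroup.centralizer {hI i},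
      x * y = y * x := by
    rintro (k | θ)
    · exact cent_U_comm G hG k
    · exact cent_theta_comm G hG r hodd θ.1 θ.2.1 (hpw θ)
  apply no_nilpotent_min_cover_inj hI
    (fun i => Subgroup.normalizer (Subgroup.centralizer {hI i} : Set ↥G))
    (fun i => Subgroup.centralizer {hI i}) ?_ ?_ ?_ ?_ (iG G hG (Dmat a)) ?_
  · intro g
    obtain ⟨g', hg'⟩ := exists_lift G g
    by_cases hroot : ∃ ρ : F, ρ ^ 2 - (g'.1 0 0 + g'.1 1 1) * ρ +
        (g'.1 0 0 * g'.1 1 1 - g'.1 0 1 * g'.1 1 0) = 0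
    · obtain ⟨ρ, hρ⟩ := hroot
      obtain ⟨k, hk⟩ := exists_k_of_root g' ρ hρ
      exact ⟨Sum.inl k, mem_norm_cent_U G hG k g g' hg' hk⟩
    · push Not at hroot
      obtain ⟨θ, hθ10, hord, hcg⟩ := exists_theta h2 r hr hodd hdiv g' hroot
      have hθr : iG G hG θ ^ r = 1 := by
        have h1 : θ ^ r = 1 := by rw [← hord]; exact pow_orderOf_eq_one _
        rw [← iG_pow, h1]
        apply Subtype.ext
        simp [iG_val]
      have hne : iG G hG θ ≠ 1 := by
        apply iG_ne_one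
        rintro ⟨c, hc⟩
        apply hθ10
        rw [hc]; simp
      have hordG : orderOf (iG G hG θ) = r := orderOf_eq_prime hθr hne
      refine ⟨Sum.inr ⟨θ, hθ10, hordG⟩, ?_⟩
      apply Subgroup.le_normalizer
      exact (mem_cent_theta_iff G hG r hodd θ hθr g g' hg').mpr hcg
  · rintro (k | θ)
    · exact norm_cent_U_ne_top G hG k
    · exact norm_cent_theta_ne_top G hG h2 r hodd θ.1 θ.2.1 (hpw θ)
  · rintro (k | θ) A hA hmem
    · exact nil_le_cent_U G hG k A hA hmem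
    · exact nil_le_cent_theta G hG r hr hodd θ.1 θ.2.1 θ.2.2 A hA hmem
  · intro i j hij
    have h := cent_eq (hI i) (hI j) (hcomm i) (hcomm j) hij
    show Subgroup.normalizer (Subgroup.centralizer {hI i} : Set ↥G) =
      Subgroup.normalizer (Subgroup.centralizer {hI j} : Set ↥G)
    rw [h]
  · rintro (k | θ)
    · exact diag_notin_cent_U G hG k a ha2
    · exact diag_notin_cent_theta G hG r hodd θ.1 θ.2.1 (hpw θ) a ha2

end Cfsg.Agent.Lib.Helper65.PglTwoC
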