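import Mathlib
import Cfsg.Agent.Lib.Helper7.ReeSolvStmt

/-! S2361, piece FITG: `Fit2` for a subgroup `L` of `G`, in terms of subgroups of `G`. -/

set_option autoImplicit false

namespace Cfsg.Agent.Lib.Helper65.RSFITG

open Cfsg.Agent.Lib.Helper7.ReeSolvStmt

universe u

/-- the image in `G` of a normal subgroup of `L` is normalized by `L` -/
theorem le_normalizer_map {G : Type u} [Group G] (L : Subgroup G) (N₀ : Subgroup ↥L)
    (hN : N₀.Normal) : L ≤ Subgroup.normalizer ((N₀.map L.subtype : Subgroup G) : Set G) := by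
  have key : ∀ l ∈ L, ∀ x ∈ N₀.map L.subtype, l * x * l⁻¹ ∈ N₀.map L.subtype := by
    rintro l hl _ ⟨n, hn, rfl⟩
    exact ⟨⟨l, hl⟩ * n * ⟨l, hl⟩⁻¹, hN.conj_mem n hn ⟨l, hl⟩, rfl⟩
  intro l hl
  rw [Subgroup.mem_normalizer_iff]
  intro x
  constructor
  · exact key l hl x
  · intro hx
    have h := key l⁻¹ (L.inv_mem hl) _ hx
    have e : l⁻¹ * (l * x * l⁻¹) * l⁻¹⁻¹ = x := by group
    rwa [e] at h

theorem main (h : Fit2.{u}) : FitG.{u} := by
  intro G _ _ L hsolv hodd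
  have hL : ∀ p : ℕ, p.Prime → p ≠ 2 → ∀ M : Subgroup ↥L, M.Normal → IsPGroup p ↥M → M = ⊥ := by
    intro p hp hp2 M hM hMp
    have h1 := hodd p hp hp2 (M.map L.subtype) (Subgroup.map_subtype_le M)
      (le_normalizer_map L M hM) (hMp.map L.subtype)
    exact (Subgroup.map_eq_bot_iff_of_injective M L.subtype_injective).mp h1
  obtain ⟨F₀, hF₀n, hF₀p, hF₀c⟩ := h ↥L hsolv hL
  refine ⟨F₀.map L.subtype, Subgroup.map_subtype_le F₀, le_normalizer_map L F₀ hF₀n,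
    hF₀p.map L.subtype, ?_⟩
  intro x hx hcomm
  have hmem : (⟨x, hx⟩ : ↥L) ∈ Subgroup.centralizer (F₀ : Set ↥L) := by
    rw [Subgroup.mem_centralizer_iff]
    intro f hf
    apply Subtype.ext
    show (f : G) * x = x * (f : G)
    exact (hcomm (f : G) ⟨f, hf, rfl⟩).symm
  exact ⟨⟨x, hx⟩, hF₀c hmem, rfl⟩

end Cfsg.Agent.Lib.Helper65.RSFITG
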