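import Mathlib
import Cfsg.Agent.Lib.Helper7.ReeSolvStmt

/-! S2361, piece OMEGA: the number of Sylow 2-subgroups containing a subgroup `F` of order 4 is
prime to 3. -/

set_option autoImplicit false

namespace Cfsg.Agent.Lib.Helper65.RSOMEGA

open Cfsg.Agent.Lib.Helper7.ReeSolvStmt

universe u

theorem mem_smul_sylow {G : Type u} [Group G] {p : ℕ} (c x : G) (P : Sylow p G) :
    x ∈ ((c • P : Sylow p G) : Subgroup G) ↔ c⁻¹ * x * c ∈ (P : Subgroup G) := by
  rw [Sylow.coe_subgroup_smul, Subgroup.mem_pointwise_smul_iff_inv_smul_mem]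
  have : (MulAut.conj c)⁻¹ • x = c⁻¹ * x * c := by
    rw [MulAut.smul_def, ← map_inv, MulAut.conj_apply, inv_inv]
  rw [this]

theorem main : Omega.{u} := by
  intro G _ _ hExp hC3 F hF
  classical
  -- `F` is a 2-group
  have hF2 : IsPGroup 2 F := IsPGroup.of_card (n := 2) (by rw [hF]; norm_num)
  obtain ⟨P₀, hP₀⟩ := hF2.exists_le_sylow
  -- Sylow 2-subgroups containing `F` centralize `F`
  have hinv : ∀ P : Sylow 2 G, ∀ x ∈ (P : Subgroup G), x * x = 1 := by
    intro P x hx
    obtain ⟨k, hk⟩ := P.isPGroup' ⟨x, hx⟩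
    have h1 : x ^ 2 ^ k = 1 := by
      have h' : ((⟨x, hx⟩ : (P : Subgroup G)) ^ 2 ^ k : (P : Subgroup G)).1
          = ((1 : (P : Subgroup G)) : G) := congrArg Subtype.val hk
      rw [Subgroup.coe_pow, Subgroup.coe_one] at h'
      exact h'
    have h2 := hExp x ⟨k, h1⟩
    rw [pow_two] at h2
    exact h2
  have hPC : ∀ P : Sylow 2 G, F ≤ (P : Subgroup G) →
      (P : Subgroup G) ≤ Subgroup.centralizer (F : Set G) := by
    intro P hFP x hx
    rw [Subgroup.mem_centralizer_iff]
    intro f hf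
    have hf' : f ∈ (P : Subgroup G) := hFP hf
    have h1 := hinv P x hx
    have h2 := hinv P f hf'
    have h3 := hinv P (f * x) (Subgroup.mul_mem _ hf' hx)
    have hxinv : x⁻¹ = x := inv_eq_of_mul_eq_one_left h1
    have hfinv : f⁻¹ = f := inv_eq_of_mul_eq_one_left h2
    have h4 : (f * x)⁻¹ = f * x := inv_eq_of_mul_eq_one_left h3
    rw [mul_inv_rev, hxinv, hfinv] at h4
    exact h4.symm
  have hP₀C := hPC P₀ hP₀
  -- the Sylow 2-subgroups containing `F` form one orbit under `C(F)`
  have hset : {P : Sylow 2 G | F ≤ (P : Subgroup G)} =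
      MulAction.orbit (Subgroup.centralizer (F : Set G)) P₀ := by
    ext P
    constructor
    · intro hP
      have hFP : F ≤ (P : Subgroup G) := hP
      obtain ⟨c, hc⟩ := MulAction.exists_smul_eq (Subgroup.centralizer (F : Set G))
        (P₀.subtype hP₀C) (P.subtype (hPC P hFP))
      refine ⟨c, ?_⟩
      apply Sylow.ext
      ext x
      show x ∈ (((c : G) • P₀ : Sylow 2 G) : Subgroup G) ↔ x ∈ (P : Subgroup G)
      rw [mem_smul_sylow]
      have hmem : ∀ y : ↥(Subgroup.centralizer (F : Set G)),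
          y ∈ ((P.subtype (hPC P hFP) : Sylow 2 ↥(Subgroup.centralizer (F : Set G))) :
            Subgroup ↥(Subgroup.centralizer (F : Set G))) ↔
          c⁻¹ * y * c ∈ ((P₀.subtype hP₀C : Sylow 2 ↥(Subgroup.centralizer (F : Set G))) :
            Subgroup ↥(Subgroup.centralizer (F : Set G))) := by
        intro y
        rw [← hc, mem_smul_sylow]
      constructor
      · intro hx
        have hxC : x ∈ Subgroup.centralizer (F : Set G) := by
          have h1 := hP₀C hx
          have h2 : x = (c : G) * ((c : G)⁻¹ * x * (c : G)) * (c : G)⁻¹ := by group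
          rw [h2]
          exact Subgroup.mul_mem _ (Subgroup.mul_mem _ c.2 h1) (Subgroup.inv_mem _ c.2)
        have h3 := (hmem ⟨x, hxC⟩).mpr (Subgroup.mem_subgroupOf.mpr hx)
        exact Subgroup.mem_subgroupOf.mp h3
      · intro hx
        have hxC : x ∈ Subgroup.centralizer (F : Set G) := hPC P hFP hx
        have h3 := (hmem ⟨x, hxC⟩).mp (Subgroup.mem_subgroupOf.mpr hx)
        exact Subgroup.mem_subgroupOf.mp h3
    · rintro ⟨c, rfl⟩
      show F ≤ (((c : G) • P₀ : Sylow 2 G) : Subgroup G)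
      intro f hf
      rw [mem_smul_sylow]
      have hcf : f * (c : G) = (c : G) * f := Subgroup.mem_centralizer_iff.mp c.2 f hf
      have : (c : G)⁻¹ * f * (c : G) = f := by
        rw [mul_assoc, hcf, inv_mul_cancel_left]
      rw [this]
      exact hP₀ hf
  -- `3 ∤ |C(F)|`
  have h3C : ¬ 3 ∣ Nat.card ↥(Subgroup.centralizer (F : Set G)) := by
    intro h3
    obtain ⟨y, hy⟩ := exists_prime_orderOf_dvd_card' 3 h3
    have hy3 : (y : G) ^ 3 = 1 := by
      have h := pow_orderOf_eq_one y
      rw [hy] at h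
      have h' : ((y ^ 3 : ↥(Subgroup.centralizer (F : Set G))) : G) =
          ((1 : ↥(Subgroup.centralizer (F : Set G))) : G) := congrArg Subtype.val h
      rw [Subgroup.coe_pow, Subgroup.coe_one] at h'
      exact h'
    have hy1 : (y : G) = 1 := hC3 F hF (y : G) y.2 hy3
    have hy1' : y = 1 := Subtype.ext hy1
    rw [hy1', orderOf_one] at hy
    norm_num at hy
  intro h3
  apply h3C
  have hcard : Nat.card {P : Sylow 2 G // F ≤ (P : Subgroup G)} =
      Nat.card ↥(MulAction.orbit (Subgroup.centralizer (F : Set G)) P₀) := by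
    rw [← hset]
    rfl
  rw [hcard] at h3
  rw [Nat.card_coe_set_eq, ← MulAction.index_stabilizer] at h3
  exact h3.trans (Subgroup.index_dvd_card _)

end Cfsg.Agent.Lib.Helper65.RSOMEGA
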