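import Mathlib
import Cfsg.Agent.Lib.Helper18.ReeOutStmt

/-!
# S2127 piece ASMSURJ

Every automorphism stabilizing `P` and `Q` is some `conj (e s) ∘ F^i`.
`main` takes the earlier pieces SEMIA, SEMIB, AUTK, TRIVH, TRIVZ, TRIVA, TRIVT as hypotheses.
-/

set_option autoImplicit false

namespace Cfsg.Agent.Lib.Helper65.ReeOutASMSURJ

open Cfsg.Agent.Lib.Helper18.ReeOutStmt

universe u v

section
variable {G : Type u} [Group G] {K : Type v} [Field K] [Fintype K] {m : ℕ}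
  {φ : K →+* K} {x : K → K → K → G} {e : K → G}

omit [Fintype K] in
/-- the powers of the Frobenius on `U` -/
theorem F_pow_x {F : MulAut G} (hFx : ∀ t u v, F (x t u v) = x (t ^ 3) (u ^ 3) (v ^ 3))
    (i : ℕ) (t u v : K) :
    (F ^ i) (x t u v) = x (t ^ 3 ^ i) (u ^ 3 ^ i) (v ^ 3 ^ i) := by
  induction i generalizing t u v with
  | zero => simp
  | succ n ih =>
    rw [pow_succ, MulAut.mul_apply, hFx, ih, ← pow_mul, ← pow_mul, ← pow_mul, ← pow_succ']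

/-- conjugation by `e s` on `U` -/
theorem conj_e_x (par : OPar G K m φ x e) (s : K) (hs : s ≠ 0) (t u v : K) :
    MulAut.conj (e s) (x t u v) = x (s ^ 2 / φ s ^ 3 * t) (φ s ^ 3 / s * u) (s * v) := by
  rw [MulAut.conj_apply, par.e_x s hs, mul_inv_cancel_right]

/-- `conj (e s) ∘ F^i` on `U` -/
theorem gamma_x (par : OPar G K m φ x e) {F : MulAut G}
    (hFx : ∀ t u v, F (x t u v) = x (t ^ 3) (u ^ 3) (v ^ 3)) (s : K) (hs : s ≠ 0)
    (i : ℕ) (t u v : K) :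
    (MulAut.conj (e s) * F ^ i) (x t u v) =
      x (s ^ 2 / φ s ^ 3 * t ^ 3 ^ i) (φ s ^ 3 / s * u ^ 3 ^ i) (s * v ^ 3 ^ i) := by
  rw [MulAut.mul_apply, F_pow_x hFx, conj_e_x par s hs]

omit [Fintype K] in
theorem chi_ne_zero (φ : K →+* K) (s : K) (hs : s ≠ 0) : s ^ 2 / φ s ^ 3 ≠ 0 := by
  have h1 : φ s ≠ 0 := by
    intro h
    exact hs (φ.injective (by rw [h, map_zero]))
  exact div_ne_zero (pow_ne_zero _ hs) (pow_ne_zero _ h1)

/-- `x t u v = x t 0 0 * x 0 u v` -/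
theorem x_split (par : OPar G K m φ x e) (t u v : K) :
    x t u v = x t 0 0 * x 0 u v := by
  rw [par.x_mul]
  congr 1 <;> simp

/-- an automorphism stabilizing a subgroup stabilizes its normalizer -/
theorem map_mem_normalizer (S : Subgroup G) (α : MulAut G) (hα : ∀ g, α g ∈ S ↔ g ∈ S)
    (g : G) (hg : g ∈ Subgroup.normalizer (S : Set G)) :
    α g ∈ Subgroup.normalizer (S : Set G) := by
  rw [Subgroup.mem_set_normalizer_iff] at hg ⊢
  intro n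
  have h1 : n = α (α⁻¹ n) := by rw [MulAut.apply_inv_self]
  have h2 : α g * n * (α g)⁻¹ = α (g * α⁻¹ n * g⁻¹) := by
    rw [map_mul, map_mul, map_inv, MulAut.apply_inv_self]
  rw [h2]
  simp only [SetLike.mem_coe] at hg ⊢
  rw [hα, ← hg, ← hα (α⁻¹ n), MulAut.apply_inv_self]

/-- an automorphism stabilizing `P` and `Q` stabilizes `H` -/
theorem map_e {P Q : Sylow 3 G} {H : Subgroup G} {F : MulAut G}
    (sit : Sit G K m φ x e P Q H F) (α : MulAut G)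
    (hα : α ∈ A0 (P : Subgroup G) (Q : Subgroup G)) (s : K) (hs : s ≠ 0) :
    ∃ s', s' ≠ 0 ∧ α (e s) = e s' := by
  have h1 : e s ∈ H := (sit.memH _).2 ⟨s, hs, rfl⟩
  rw [← sit.norm, Subgroup.mem_inf] at h1
  have h2 : α (e s) ∈ H := by
    rw [← sit.norm, Subgroup.mem_inf]
    exact ⟨map_mem_normalizer _ α hα.1 _ h1.1, map_mem_normalizer _ α hα.2 _ h1.2⟩
  exact (sit.memH _).1 h2

end

theorem main
    (hSEMIA : SEMIA.{u, v}) (hSEMIB : SEMIB.{v}) (hAUTK : AUTK.{v})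
    (hTRIVH : TRIVH.{u, v}) (hTRIVZ : TRIVZ.{u, v}) (hTRIVA : TRIVA.{u, v})
    (hTRIVT : TRIVT.{u, v}) : ASMSURJ.{u, v} := by
  intro G _ _ K _ _ m φ x e P Q H F sit hmem α hα
  have par := sit.par
  -- `α` maps `U` to `U` and `H` to `H`
  have hαP : ∀ t u v, ∃ t' u' v', α (x t u v) = x t' u' v' := by
    intro t u v
    exact (sit.memP _).1 ((hα.1 _).2 ((sit.memP _).2 ⟨t, u, v, rfl⟩))
  have hαH : ∀ s, s ≠ 0 → ∃ s', s' ≠ 0 ∧ α (e s) = e s' := map_e sit α hα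
  obtain ⟨f, g, hf, hadd, hf1, hg, hsemi⟩ := hSEMIA G K m φ x e par α hαP hαH
  obtain ⟨s₀, hs₀, σ, hσ⟩ := hSEMIB K φ par.phi3 f g hadd hf1 hg hsemi
  obtain ⟨i, -, hi⟩ := hAUTK K m par.cardK σ
  refine ⟨s₀, hs₀, i, ?_⟩
  obtain ⟨γ, hγ⟩ : ∃ γ : MulAut G, γ = MulAut.conj (e s₀) * F ^ i := ⟨_, rfl⟩
  rw [← hγ]
  have hγmem : γ ∈ A0 (P : Subgroup G) (Q : Subgroup G) := hγ ▸ hmem s₀ hs₀ i
  have hβmem : γ⁻¹ * α ∈ A0 (P : Subgroup G) (Q : Subgroup G) :=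
    (A0 (P : Subgroup G) (Q : Subgroup G)).mul_mem
      ((A0 (P : Subgroup G) (Q : Subgroup G)).inv_mem hγmem) hα
  have hχ : s₀ ^ 2 / φ s₀ ^ 3 ≠ 0 := chi_ne_zero φ s₀ hs₀
  -- `β = γ⁻¹ α` is trivial on `U/A`
  have hβ1 : ∀ t u v, ∃ u' v', (γ⁻¹ * α) (x t u v) = x t u' v' := by
    intro t u v
    obtain ⟨t₁, u₁, v₁, h1⟩ := (sit.memP _).1
      ((hβmem.1 _).2 ((sit.memP _).2 ⟨t, u, v, rfl⟩))
    obtain ⟨u', v', h2⟩ := hf t u v
    have h3 : α (x t u v) = γ (x t₁ u₁ v₁) := by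
      rw [← h1, MulAut.mul_apply, MulAut.apply_inv_self]
    rw [h2, hγ, gamma_x par sit.Fx s₀ hs₀, hσ, hi] at h3
    have h4 := (par.x_inj _ _ _ _ _ _ h3).1
    have h5 : σ t = σ t₁ := by
      rw [hi, hi]
      exact mul_left_cancel₀ hχ h4
    have h6 : t = t₁ := σ.injective h5
    exact ⟨u₁, v₁, by rw [h1, h6]⟩
  have hβH : ∀ s, s ≠ 0 → ∃ s', s' ≠ 0 ∧ (γ⁻¹ * α) (e s) = e s' := map_e sit _ hβmem
  have hβe := hTRIVH G K m φ x e par _ hβ1 hβH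
  have hβz := hTRIVZ G K m φ x e par _ hβ1
  have hβa := hTRIVA G K m φ x e par _ hβ1 hβe hβz
  have hβt := hTRIVT G K m φ x e par _ hβ1 hβe hβa
  have hβ : γ⁻¹ * α = 1 := by
    apply sit.rigid _ hβmem
    intro w hw
    obtain ⟨t, u, v, rfl⟩ := (sit.memP _).1 hw
    rw [x_split par t u v, map_mul, hβt, hβa]
  exact inv_mul_eq_one.mp hβ |>.symm

end Cfsg.Agent.Lib.Helper65.ReeOutASMSURJ
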