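import Mathlib
import Cfsg.Agent.Lib.Helper18.ReeOutStmt
import Cfsg.Agent.Lib.Helper65.ReeOutASMSURJ

/-!
# S2127 piece CARDA0

`|A0| = (q - 1)(2m + 1)`: the map `(s, i) ↦ conj (e s) ∘ F^i` from `K^× × Fin (2m+1)` is a
bijection onto `A0`.
-/

set_option autoImplicit false

namespace Cfsg.Agent.Lib.Helper65.ReeOutCARDA0

open Cfsg.Agent.Lib.Helper18.ReeOutStmt
open Cfsg.Agent.Lib.Helper65.ReeOutASMSURJ

universe u v

section
variable {G : Type u} [Group G] {K : Type v} [Field K] [Fintype K] {m : ℕ}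
  {φ : K →+* K} {x : K → K → K → G} {e : K → G}

omit [Fintype K] in
/-- `χ(s) = s²/φ(s)³` is injective on `K^×` -/
theorem chi_inj (hphi3 : ∀ t, φ (φ t) ^ 3 = t) (s s' : K) (hs : s ≠ 0) (hs' : s' ≠ 0)
    (h : s ^ 2 / φ s ^ 3 = s' ^ 2 / φ s' ^ 3) : s = s' := by
  have hφs : φ s ≠ 0 := fun h0 => hs (φ.injective (by rw [h0, map_zero]))
  have hφs' : φ s' ≠ 0 := fun h0 => hs' (φ.injective (by rw [h0, map_zero]))
  obtain ⟨r, hr⟩ : ∃ r : K, r = s / s' := ⟨_, rfl⟩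
  have hr0 : r ≠ 0 := hr ▸ div_ne_zero hs hs'
  have h1 : r ^ 2 = φ r ^ 3 := by
    rw [hr, map_div₀, div_pow, div_pow]
    rw [div_eq_div_iff (pow_ne_zero _ hφs) (pow_ne_zero _ hφs')] at h
    rw [div_eq_div_iff (pow_ne_zero _ hs') (pow_ne_zero _ hφs')]
    linear_combination h
  have h2 : φ (r ^ 2) ^ 3 = r ^ 3 := by
    rw [h1, map_pow, ← pow_mul, mul_comm, pow_mul, hphi3]
  have h3 : r ^ 4 = r ^ 3 := by
    rw [← h2, map_pow, ← pow_mul]
    calc r ^ 4 = (r ^ 2) ^ 2 := by ring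
      _ = (φ r ^ 3) ^ 2 := by rw [h1]
      _ = φ r ^ (2 * 3) := by ring
  have h4 : r = 1 := by
    have h5 : r ^ 3 * (r - 1) = 0 := by linear_combination h3
    rcases mul_eq_zero.1 h5 with h6 | h6
    · exact absurd (pow_eq_zero_iff (by norm_num) |>.1 h6) hr0
    · exact sub_eq_zero.1 h6
  rw [hr] at h4
  exact (div_eq_one_iff_eq hs').1 h4

theorem e_one (par : OPar G K m φ x e) : e 1 = 1 := by
  have h := par.e_mul 1 1 one_ne_zero one_ne_zero
  rw [mul_one] at h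
  simpa using h.symm

theorem F_pow_mem {P Q : Sylow 3 G} {F : MulAut G} (par : OPar G K m φ x e)
    (hmem : ∀ s, s ≠ 0 → ∀ i : ℕ,
      MulAut.conj (e s) * F ^ i ∈ A0 (P : Subgroup G) (Q : Subgroup G)) (i : ℕ) :
    F ^ i ∈ A0 (P : Subgroup G) (Q : Subgroup G) := by
  have h := hmem 1 one_ne_zero i
  rwa [e_one par, map_one, one_mul] at h

/-- `F^(2m+1) = 1` -/
theorem F_pow_card {P Q : Sylow 3 G} {H : Subgroup G} {F : MulAut G}
    (sit : Sit G K m φ x e P Q H F)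
    (hmem : ∀ s, s ≠ 0 → ∀ i : ℕ,
      MulAut.conj (e s) * F ^ i ∈ A0 (P : Subgroup G) (Q : Subgroup G)) :
    F ^ (2 * m + 1) = 1 := by
  apply sit.rigid _ (F_pow_mem sit.par hmem _)
  intro w hw
  obtain ⟨t, u, v, rfl⟩ := (sit.memP _).1 hw
  rw [F_pow_x sit.Fx, ← sit.par.cardK, FiniteField.pow_card, FiniteField.pow_card,
    FiniteField.pow_card]

/-- distinct Frobenius powers below `2m+1` are distinct maps -/
theorem exp_inj (hcard : Fintype.card K = 3 ^ (2 * m + 1)) (i j : ℕ) (hi : i < 2 * m + 1)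
    (hj : j < 2 * m + 1) (h : ∀ t : K, t ^ 3 ^ i = t ^ 3 ^ j) : i = j := by
  obtain ⟨ζ, hζ⟩ := IsCyclic.exists_ofOrder_eq_natCard (α := Kˣ)
  have h1 : ζ ^ 3 ^ i = ζ ^ 3 ^ j := Units.ext (by simpa using h (ζ : K))
  rw [pow_eq_pow_iff_modEq, hζ, Nat.card_units, Nat.card_eq_fintype_card, hcard] at h1
  have hlt : ∀ k, k < 2 * m + 1 → 3 ^ k < 3 ^ (2 * m + 1) - 1 := by
    intro k hk
    have h2 : 3 ^ k ≤ 3 ^ (2 * m) := Nat.pow_le_pow_right (by norm_num) (by omega)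
    have h3 : 3 ^ (2 * m + 1) = 3 * 3 ^ (2 * m) := by ring
    have h4 : 0 < 3 ^ (2 * m) := by positivity
    omega
  have h2 : 3 ^ i = 3 ^ j := Nat.ModEq.eq_of_lt_of_lt h1 (hlt i hi) (hlt j hj)
  exact Nat.pow_right_injective (by norm_num) h2

end

theorem main : CARDA0.{u, v} := by
  intro G _ _ K _ _ m φ x e P Q H F sit hmem hsurj
  have par := sit.par
  have hF : F ^ (2 * m + 1) = 1 := F_pow_card sit hmem
  let Φ : Kˣ × Fin (2 * m + 1) → ↥(A0 (P : Subgroup G) (Q : Subgroup G)) :=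
    fun p => ⟨MulAut.conj (e (p.1 : K)) * F ^ (p.2 : ℕ), hmem _ p.1.ne_zero _⟩
  have hbij : Function.Bijective Φ := by
    constructor
    · rintro ⟨s, i⟩ ⟨s', j⟩ h
      have h0 : MulAut.conj (e (s : K)) * F ^ (i : ℕ) =
          MulAut.conj (e (s' : K)) * F ^ (j : ℕ) := congrArg Subtype.val h
      have h1 : ∀ t : K, (s : K) ^ 2 / φ s ^ 3 * t ^ 3 ^ (i : ℕ) =
          (s' : K) ^ 2 / φ s' ^ 3 * t ^ 3 ^ (j : ℕ) := by
        intro t
        have h2 : (MulAut.conj (e (s : K)) * F ^ (i : ℕ)) (x t 0 0) =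
            (MulAut.conj (e (s' : K)) * F ^ (j : ℕ)) (x t 0 0) := by rw [h0]
        rw [gamma_x par sit.Fx _ s.ne_zero, gamma_x par sit.Fx _ s'.ne_zero] at h2
        exact (par.x_inj _ _ _ _ _ _ h2).1
      have h3 : (s : K) ^ 2 / φ s ^ 3 = (s' : K) ^ 2 / φ s' ^ 3 := by simpa using h1 1
      have h4 : (s : K) = s' := chi_inj par.phi3 _ _ s.ne_zero s'.ne_zero h3
      have h5 : ∀ t : K, t ^ 3 ^ (i : ℕ) = t ^ 3 ^ (j : ℕ) := by
        intro t
        have h6 := h1 t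
        rw [h3] at h6
        exact mul_left_cancel₀ (chi_ne_zero φ _ s'.ne_zero) h6
      have h6 : (i : ℕ) = j := exp_inj par.cardK _ _ i.2 j.2 h5
      exact Prod.ext (Units.ext h4) (Fin.ext h6)
    · rintro ⟨α, hα⟩
      obtain ⟨s, hs, i, rfl⟩ := hsurj α hα
      refine ⟨(Units.mk0 s hs, ⟨i % (2 * m + 1), Nat.mod_lt _ (by omega)⟩), ?_⟩
      apply Subtype.ext
      show MulAut.conj (e s) * F ^ (i % (2 * m + 1)) = MulAut.conj (e s) * F ^ i
      rw [← pow_eq_pow_mod i hF]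
  rw [← Nat.card_congr (Equiv.ofBijective Φ hbij), Nat.card_prod, Nat.card_units,
    Nat.card_eq_fintype_card, par.cardK, Nat.card_eq_fintype_card, Fintype.card_fin]

end Cfsg.Agent.Lib.Helper65.ReeOutCARDA0
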