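import Mathlib
import Cfsg.Agent.Lib.Helper83.SgStmt

/-!
# Siegel transvections (S5072): basic API for the polar form and the action
-/

set_option autoImplicit false
open Matrix

namespace Cfsg.Agent.Lib.Helper65.SgBase

open Cfsg Cfsg.Agent.Lib.Helper83.SgStmt

universe u

variable {m : ℕ} {F : Type u} [Field F]

/-- the quadratic form -/
abbrev Qf (m : ℕ) (F : Type u) [Field F] (v : Vec m F) : F := Cfsg.quadFormPlus (m + 3) F v

theorem bp_eq (v w : Vec m F) :
    bp m F v w = ∑ i : Fin (m + 3), (v (.inl i) * w (.inr i) + w (.inl i) * v (.inr i)) := by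
  unfold bp Cfsg.quadFormPlus
  rw [← Finset.sum_sub_distrib, ← Finset.sum_sub_distrib]
  apply Finset.sum_congr rfl
  intro i _
  simp only [Pi.add_apply]
  ring

theorem bp_comm (v w : Vec m F) : bp m F v w = bp m F w v := by
  rw [bp_eq, bp_eq]
  apply Finset.sum_congr rfl
  intro i _
  ring

theorem bp_add_left (u v w : Vec m F) : bp m F (u + v) w = bp m F u w + bp m F v w := by
  rw [bp_eq, bp_eq, bp_eq, ← Finset.sum_add_distrib]
  apply Finset.sum_congr rfl
  intro i _
  simp only [Pi.add_apply]
  ring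

theorem bp_smul_left (a : F) (v w : Vec m F) : bp m F (a • v) w = a * bp m F v w := by
  rw [bp_eq, bp_eq, Finset.mul_sum]
  apply Finset.sum_congr rfl
  intro i _
  simp only [Pi.smul_apply, smul_eq_mul]
  ring

theorem bp_add_right (u v w : Vec m F) : bp m F u (v + w) = bp m F u v + bp m F u w := by
  rw [bp_comm, bp_add_left, bp_comm v, bp_comm w]

theorem bp_smul_right (a : F) (v w : Vec m F) : bp m F v (a • w) = a * bp m F v w := by
  rw [bp_comm, bp_smul_left, bp_comm]

/-- the polar form as a bilinear form -/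
def B (m : ℕ) (F : Type u) [Field F] : LinearMap.BilinForm F (Vec m F) :=
  LinearMap.mk₂ F (bp m F) bp_add_left bp_smul_left bp_add_right bp_smul_right

theorem B_apply (v w : Vec m F) : B m F v w = bp m F v w := rfl

theorem B_comm (v w : Vec m F) : B m F v w = B m F w v := bp_comm v w

theorem Q_add (v w : Vec m F) : Qf m F (v + w) = Qf m F v + Qf m F w + B m F v w := by
  rw [B_apply]
  unfold bp
  ring

theorem Q_smul (a : F) (v : Vec m F) : Qf m F (a • v) = a * a * Qf m F v := by
  unfold Qf Cfsg.quadFormPlus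
  rw [Finset.mul_sum]
  apply Finset.sum_congr rfl
  intro i _
  simp only [Pi.smul_apply, smul_eq_mul]
  ring

theorem Q_zero : Qf m F (0 : Vec m F) = 0 := by
  unfold Qf Cfsg.quadFormPlus
  simp

theorem B_self (v : Vec m F) : B m F v v = 2 * Qf m F v := by
  rw [B_apply, bp_eq]
  unfold Qf Cfsg.quadFormPlus
  rw [Finset.mul_sum]
  apply Finset.sum_congr rfl
  intro i _
  ring

theorem B_self_of (v : Vec m F) (h : Qf m F v = 0) : B m F v v = 0 := by
  rw [B_self, h, mul_zero]

theorem Q_sub (v w : Vec m F) : Qf m F (v - w) = Qf m F v + Qf m F w - B m F v w := by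
  have h := Q_add v ((-1 : F) • w)
  have h2 := Q_smul (-1 : F) w
  rw [map_smul, smul_eq_mul] at h
  have h3 : v + (-1 : F) • w = v - w := by module
  rw [h3] at h
  rw [h, h2]
  ring

/-- data of a singular line -/
theorem line_Qp {p r : Vec m F} (h : IsLine m F p r) : Qf m F p = 0 := h.2.1

theorem line_Qr {p r : Vec m F} (h : IsLine m F p r) : Qf m F r = 0 := h.2.2.1

theorem line_B {p r : Vec m F} (h : IsLine m F p r) : B m F p r = 0 := by
  have h1 := Q_add p r
  have h2 : Qf m F (p + r) = 0 := h.2.2.2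
  rw [h2, line_Qp h, line_Qr h] at h1
  simpa using h1.symm

theorem line_B' {p r : Vec m F} (h : IsLine m F p r) : B m F r p = 0 := by
  rw [B_comm, line_B h]

theorem line_Bpp {p r : Vec m F} (h : IsLine m F p r) : B m F p p = 0 :=
  B_self_of p (line_Qp h)

theorem line_Brr {p r : Vec m F} (h : IsLine m F p r) : B m F r r = 0 :=
  B_self_of r (line_Qr h)

/-! ### the action -/

theorem act_mul (g h : OG m F) (v : Vec m F) : act m F (g * h) v = act m F g (act m F h v) := by
  unfold act
  rw [Matrix.mulVec_mulVec]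
  rfl

theorem act_one (v : Vec m F) : act m F (1 : OG m F) v = v := by
  unfold act
  simp

theorem act_inv_act (g : OG m F) (v : Vec m F) : act m F g⁻¹ (act m F g v) = v := by
  rw [← act_mul, inv_mul_cancel, act_one]

theorem act_act_inv (g : OG m F) (v : Vec m F) : act m F g (act m F g⁻¹ v) = v := by
  rw [← act_mul, mul_inv_cancel, act_one]

theorem act_Q (g : OG m F) (v : Vec m F) : Qf m F (act m F g v) = Qf m F v :=
  g.2 v v

theorem ext_act {g h : OG m F} (hgh : ∀ v, act m F g v = act m F h v) : g = h := by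
  apply Subtype.ext
  apply Units.ext
  apply Matrix.toLin'.injective
  apply LinearMap.ext
  intro v
  rw [Matrix.toLin'_apply, Matrix.toLin'_apply]
  exact hgh v

/-- the isometry attached to a pair of mutually inverse linear maps preserving the form -/
noncomputable def ogOf (f g : Vec m F →ₗ[F] Vec m F) (h1 : f ∘ₗ g = LinearMap.id)
    (h2 : g ∘ₗ f = LinearMap.id) (hQ : ∀ v, Qf m F (f v) = Qf m F v) : OG m F :=
  ⟨⟨LinearMap.toMatrix' f, LinearMap.toMatrix' g,
    by rw [← LinearMap.toMatrix'_comp, h1, LinearMap.toMatrix'_id],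
    by rw [← LinearMap.toMatrix'_comp, h2, LinearMap.toMatrix'_id]⟩, by
    intro u v
    show Cfsg.quadFormPlus (m + 3) F (LinearMap.toMatrix' f *ᵥ u) = Cfsg.quadFormPlus (m + 3) F u
    rw [← Matrix.toLin'_apply, Matrix.toLin'_toMatrix']
    exact hQ u⟩

theorem act_ogOf (f g : Vec m F →ₗ[F] Vec m F) (h1 : f ∘ₗ g = LinearMap.id)
    (h2 : g ∘ₗ f = LinearMap.id) (hQ : ∀ v, Qf m F (f v) = Qf m F v) (v : Vec m F) :
    act m F (ogOf f g h1 h2 hQ) v = f v := by
  show LinearMap.toMatrix' f *ᵥ v = f v
  rw [← Matrix.toLin'_apply, Matrix.toLin'_toMatrix']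

/-! ### the Siegel maps -/

/-- the Siegel transvection as a linear map -/
def sL (p r : Vec m F) (c : F) : Vec m F →ₗ[F] Vec m F :=
  LinearMap.id + c • (((B m F).flip r).smulRight p - ((B m F).flip p).smulRight r)

theorem sL_apply (p r : Vec m F) (c : F) (v : Vec m F) :
    sL p r c v = v + c • (B m F v r • p - B m F v p • r) := by
  simp [sL]

theorem sL_comp {p r : Vec m F} (h : IsLine m F p r) (c d : F) :
    sL p r c ∘ₗ sL p r d = sL p r (c + d) := by
  apply LinearMap.ext
  intro v
  simp only [LinearMap.comp_apply, sL_apply, map_add, map_sub, map_smul, LinearMap.add_apply,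
    LinearMap.sub_apply, LinearMap.smul_apply, smul_eq_mul, line_B h, line_B' h, line_Bpp h,
    line_Brr h]
  module

theorem sL_zero (p r : Vec m F) : sL p r (0 : F) = LinearMap.id := by
  apply LinearMap.ext
  intro v
  simp [sL_apply]

theorem sL_Q {p r : Vec m F} (h : IsLine m F p r) (c : F) (v : Vec m F) :
    Qf m F (sL p r c v) = Qf m F v := by
  rw [sL_apply, Q_add, Q_smul, Q_sub, Q_smul, Q_smul, line_Qp h, line_Qr h]
  simp only [map_sub, map_smul, LinearMap.smul_apply, smul_eq_mul, line_B h]
  ring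

/-- the Siegel transvection as an isometry -/
noncomputable def sg {p r : Vec m F} (h : IsLine m F p r) (c : F) : OG m F :=
  ogOf (sL p r c) (sL p r (-c)) (by rw [sL_comp h, add_neg_cancel, sL_zero])
    (by rw [sL_comp h, neg_add_cancel, sL_zero]) (sL_Q h c)

theorem act_sg {p r : Vec m F} (h : IsLine m F p r) (c : F) (v : Vec m F) :
    act m F (sg h c) v = v + c • (bp m F v r • p - bp m F v p • r) := by
  unfold sg
  rw [act_ogOf, sL_apply]
  rfl

theorem isSieg_sg {p r : Vec m F} (h : IsLine m F p r) (c : F) : IsSieg m F p r c (sg h c) :=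
  fun v => act_sg h c v

theorem isSieg_unique {p r : Vec m F} {c : F} {g h : OG m F} (hg : IsSieg m F p r c g)
    (hh : IsSieg m F p r c h) : g = h :=
  ext_act fun v => by rw [hg v, hh v]

end Cfsg.Agent.Lib.Helper65.SgBase
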