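import Mathlib
import Cfsg.Agent.Lib.Helper83.SgStmt
import Cfsg.Agent.Lib.Helper65.SgBase

/-!
# S5072, piece SIEGC: membership in the Siegel transvection group
-/

set_option autoImplicit false
open Matrix

namespace Cfsg.Agent.Lib.Helper65.SgSIEGC

open Cfsg Cfsg.Agent.Lib.Helper83.SgStmt Cfsg.Agent.Lib.Helper65.SgBase

universe u

variable {m : ℕ} {F : Type u} [Field F]

theorem sieg_eq {p r : Vec m F} (h : IsLine m F p r) {c : F} {g : OG m F}
    (hg : IsSieg m F p r c g) : g = sg h c :=
  isSieg_unique hg (isSieg_sg h c)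

theorem sg_mul {p r : Vec m F} (h : IsLine m F p r) (c d : F) :
    sg h c * sg h d = sg h (c + d) := by
  apply ext_act
  intro v
  rw [act_mul, act_sg, act_sg, act_sg]
  have e1 : bp m F (v + d • (bp m F v r • p - bp m F v p • r)) r = bp m F v r := by
    have h3 : B m F (v + d • (B m F v r • p - B m F v p • r)) r = B m F v r := by
      simp only [map_add, map_sub, map_smul, LinearMap.add_apply, LinearMap.sub_apply,
        LinearMap.smul_apply, smul_eq_mul, line_B h, line_Brr h]
      ring
    exact h3
  have e2 : bp m F (v + d • (bp m F v r • p - bp m F v p • r)) p = bp m F v p := by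
    have h3 : B m F (v + d • (B m F v r • p - B m F v p • r)) p = B m F v p := by
      simp only [map_add, map_sub, map_smul, LinearMap.add_apply, LinearMap.sub_apply,
        LinearMap.smul_apply, smul_eq_mul, line_B' h, line_Bpp h]
      ring
    exact h3
  rw [e1, e2]
  module

theorem sg_zero {p r : Vec m F} (h : IsLine m F p r) : sg h (0 : F) = 1 := by
  apply ext_act
  intro v
  rw [act_sg, act_one, zero_smul, add_zero]

theorem sg_inv {p r : Vec m F} (h : IsLine m F p r) (c : F) : (sg h c)⁻¹ = sg h (-c) := by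
  rw [inv_eq_iff_mul_eq_one, sg_mul, add_neg_cancel, sg_zero]

theorem main : Cfsg.Agent.Lib.Helper83.SgStmt.SIEGC.{u} := by
  intro hG m F _ p r h g
  constructor
  · intro hg
    have key : ∀ x : OG m F, x ∈ Sg m F p r → ∃ c : F, x = sg h c := by
      intro x hx
      induction hx using Subgroup.closure_induction with
      | mem x hx =>
        obtain ⟨c, hc⟩ := hG m F p r h x hx
        exact ⟨c, sieg_eq h hc⟩
      | one => exact ⟨0, (sg_zero h).symm⟩
      | mul x y _ _ ihx ihy =>
        obtain ⟨c, rfl⟩ := ihx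
        obtain ⟨d, rfl⟩ := ihy
        exact ⟨c + d, sg_mul h c d⟩
      | inv x _ ihx =>
        obtain ⟨c, rfl⟩ := ihx
        exact ⟨-c, sg_inv h c⟩
    obtain ⟨c, rfl⟩ := key g hg
    exact ⟨c, isSieg_sg h c⟩
  · rintro ⟨c, hc⟩
    apply mem_Sg_gen
    intro v h1 h2
    rw [hc v, h1, h2]
    simp

end Cfsg.Agent.Lib.Helper65.SgSIEGC
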