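import Mathlib
import Cfsg.Agent.Lib.Helper83.SgStmt
import Cfsg.Agent.Lib.Helper65.SgBase

/-!
# S5072, piece SIEGE: the Siegel transvections exist
-/

set_option autoImplicit false
open Matrix

namespace Cfsg.Agent.Lib.Helper65.SgSIEGE

open Cfsg Cfsg.Agent.Lib.Helper83.SgStmt Cfsg.Agent.Lib.Helper65.SgBase

universe u

theorem main : Cfsg.Agent.Lib.Helper83.SgStmt.SIEGE.{u} := by
  intro m F _ p r h c
  exact ⟨sg h c, isSieg_sg h c⟩

end Cfsg.Agent.Lib.Helper65.SgSIEGE
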