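import Mathlib
import Cfsg.Agent.Lib.Helper6.Sz0

set_option autoImplicit false

namespace Cfsg.Agent.Lib.Helper65.SzRad

open Cfsg.Agent.Lib.Helper6.Sz0

variable {F : Type*} [Field F] [Fintype F] {m : ℕ}

/-- the additive map `v ↦ θ(v) + v` -/
def phi (hF : Fintype.card F = 2 ^ (2 * m + 1)) : F →+ F where
  toFun v := sg m v + v
  map_zero' := by simp [sg_zero]
  map_add' x y := by rw [sg_add hF]; ring

theorem phi_apply (hF : Fintype.card F = 2 ^ (2 * m + 1)) (v : F) : phi hF v = sg m v + v := rfl

theorem mem_ker_phi (hF : Fintype.card F = 2 ^ (2 * m + 1)) (v : F) :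
    v ∈ (phi hF).ker ↔ v = 0 ∨ v = 1 := by
  rw [AddMonoidHom.mem_ker, phi_apply]
  constructor
  · intro h
    have h1 : sg m v = v := eq_of_add_eq_zero hF h
    have h2 : sg m (sg m v) = v := by rw [h1, h1]
    rw [sg_sg hF] at h2
    have h3 : v * (v - 1) = 0 := by linear_combination h2
    rcases mul_eq_zero.1 h3 with h4 | h4
    · left; exact h4
    · right; linear_combination h4
  · rintro (rfl | rfl)
    · simp [sg_zero]
    · rw [sg_one]
      exact add_self hF 1

theorem card_ker_phi (hF : Fintype.card F = 2 ^ (2 * m + 1)) : Nat.card (phi hF).ker = 2 := by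
  rw [Nat.card_eq_two_iff]
  refine ⟨⟨0, (mem_ker_phi hF 0).mpr (Or.inl rfl)⟩, ⟨1, (mem_ker_phi hF 1).mpr (Or.inr rfl)⟩, ?_, ?_⟩
  · intro h
    have := congrArg Subtype.val h
    exact zero_ne_one this
  · ext ⟨v, hv⟩
    simp only [Set.mem_insert_iff, Set.mem_singleton_iff, Set.mem_univ, iff_true]
    rcases (mem_ker_phi hF v).mp hv with rfl | rfl
    · left; rfl
    · right; rfl

theorem index_range_phi (hF : Fintype.card F = 2 ^ (2 * m + 1)) : (phi hF).range.index = 2 := by
  have h1 := AddSubgroup.card_mul_index (phi hF).ker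
  rw [AddSubgroup.index_ker, card_ker_phi] at h1
  have h2 := AddSubgroup.card_mul_index (phi hF).range
  rw [← h1] at h2
  have hpos : 0 < Nat.card (phi hF).range := Nat.card_pos
  have : Nat.card (phi hF).range * (phi hF).range.index = Nat.card (phi hF).range * 2 := by
    rw [h2, mul_comm]
  exact Nat.eq_of_mul_eq_mul_left hpos this

/-- two elements outside the image of `phi` add up to an element of the image -/
theorem add_mem_range_phi (hF : Fintype.card F = 2 ^ (2 * m + 1)) {b b' : F}
    (hb : b ∉ (phi hF).range) (hb' : b' ∉ (phi hF).range) : b + b' ∈ (phi hF).range := by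
  obtain ⟨a, ha⟩ := AddSubgroup.index_eq_two_iff.mp (index_range_phi hF)
  have h1 : b + a ∈ (phi hF).range := by
    rcases ha b with ⟨h, _⟩ | ⟨h, _⟩
    · exact h
    · exact absurd h hb
  have h2 : b' + a ∈ (phi hF).range := by
    rcases ha b' with ⟨h, _⟩ | ⟨h, _⟩
    · exact h
    · exact absurd h hb'
  have h3 := add_mem h1 h2
  have e : b + a + (b' + a) = b + b' := by
    linear_combination a * two_eq_zero hF
  rw [e] at h3
  exact h3

/-- the radical of the commutator form of the Suzuki 2-group has at most one non-zero element -/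
theorem rad_unique (hF : Fintype.card F = 2 ^ (2 * m + 1))
    (χ : F → ℂ) (hχ : ∀ b b', χ (b + b') = χ b * χ b') (hχ0 : χ 0 = 1) (b₀ : F)
    (hb₀ : χ b₀ ≠ 1) (t t' : F) (ht : t ≠ 0) (ht' : t' ≠ 0)
    (h : ∀ s, χ (sg m s * t + sg m t * s) = 1) (h' : ∀ s, χ (sg m s * t' + sg m t' * s) = 1) :
    t = t' := by
  have h2 := two_eq_zero hF
  have hsq : ∀ b, χ b * χ b = 1 := by
    intro b
    rw [← hχ, add_self hF, hχ0]
  have hpm : ∀ b, χ b ≠ 1 → χ b = -1 := by
    intro b hb
    have : (χ b - 1) * (χ b + 1) = 0 := by linear_combination hsq b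
    rcases mul_eq_zero.mp this with h | h
    · exact absurd (by linear_combination h) hb
    · linear_combination h
  -- the norm-like map
  have key : ∀ t : F, t ≠ 0 → (∀ s, χ (sg m s * t + sg m t * s) = 1) →
      ∀ b, (b ∈ (phi hF).range → χ (sg m t * t * b) = 1) ∧
        (b ∉ (phi hF).range → χ (sg m t * t * b) = -1) := by
    intro t ht h
    have hN : sg m t * t ≠ 0 := mul_ne_zero (fun h0 => ht (sg_eq_zero.mp h0)) ht
    have hin : ∀ b, b ∈ (phi hF).range → χ (sg m t * t * b) = 1 := by
      rintro _ ⟨v, rfl⟩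
      have := h (t * v)
      rw [sg_mul] at this
      rw [phi_apply, ← this]
      congr 1
      ring
    intro b
    refine ⟨hin b, fun hb => ?_⟩
    apply hpm
    intro h1
    -- the element s₁ with χ₁ s₁ ≠ 1
    have hs1 : b₀ / (sg m t * t) ∉ (phi hF).range := by
      intro hmem
      have := hin _ hmem
      rw [mul_div_cancel₀ _ hN] at this
      exact hb₀ this
    have hsum := hin _ (add_mem_range_phi hF hb hs1)
    rw [mul_add, hχ, h1, one_mul, mul_div_cancel₀ _ hN] at hsum
    exact hb₀ hsum
  have k1 := key t ht h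
  have k2 := key t' ht' h'
  have hNN : sg m t * t = sg m t' * t' := by
    by_contra hne
    have hδ : sg m t * t + sg m t' * t' ≠ 0 := by
      intro h0
      exact hne (eq_of_add_eq_zero hF h0)
    apply hb₀
    have e : b₀ = sg m t * t * (b₀ / (sg m t * t + sg m t' * t')) +
        sg m t' * t' * (b₀ / (sg m t * t + sg m t' * t')) := by
      field_simp
    rw [e, hχ]
    by_cases hmem : b₀ / (sg m t * t + sg m t' * t') ∈ (phi hF).range
    · rw [(k1 _).1 hmem, (k2 _).1 hmem, one_mul]
    · rw [(k1 _).2 hmem, (k2 _).2 hmem]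
      norm_num
  have h5 : sg m (t / t') * (t / t') = 1 := by
    rw [sg_div]
    have hs' : sg m t' ≠ 0 := fun h0 => ht' (sg_eq_zero.mp h0)
    field_simp
    linear_combination hNN
  have h6 := sg_mul_self_eq_one hF h5
  field_simp at h6
  exact h6

end Cfsg.Agent.Lib.Helper65.SzRad
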