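import Mathlib
import Cfsg.Agent.Lib.Helper65.SzSubB

set_option autoImplicit false

namespace Cfsg.Agent.Lib.Helper65.SzSubC

open Cfsg.Agent.Lib.Helper6.Sz0 Cfsg.Agent.Lib.Helper6.Sz1 Cfsg.Agent.Lib.Helper6.Sz2
  Cfsg.Agent.Lib.Helper6.Sz3 Cfsg.Agent.Lib.Helper6.Sz4 Cfsg.Agent.Lib.Helper6.Sz5
  Cfsg.Agent.Lib.Helper6.Sz6 Cfsg.Agent.Lib.Helper6.Sz7 Cfsg.Agent.Lib.Helper6.Sz8
  Cfsg.Agent.Lib.Helper6.Sz9 Cfsg.Agent.Lib.Helper6.Sz10 Cfsg.Agent.Lib.Helper6.Sz11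
  Cfsg.Agent.Lib.Helper6.Sz12 Cfsg.Agent.Lib.Helper6.Sz13 Cfsg.Agent.Lib.Helper6.Sz14
  Cfsg.Agent.Lib.Helper6.Sz15 Cfsg.Agent.Lib.Helper6.Sz16 Cfsg.Agent.Lib.Helper6.Sz17
  Cfsg.Agent.Lib.Helper6.Sz18 Cfsg.Agent.Lib.Helper6.Sz19
  Cfsg.Agent.Lib.Helper65.SzFix Cfsg.Agent.Lib.Helper65.SzSubA Cfsg.Agent.Lib.Helper65.SzSubB

/-! ### counting with injective relations -/

section Generic

theorem rel_card_le {X Y : Type*} [Finite Y] (R : X → Y → Prop) (h1 : ∀ x, ∃ y, R x y)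
    (h2 : ∀ x x' y, R x y → R x' y → x = x') : Nat.card X ≤ Nat.card Y := by
  choose f hf using h1
  exact Nat.card_le_card_of_injective f (fun x x' h => h2 x x' (f x) (hf x) (h ▸ hf x'))

theorem rel_surj {X Y : Type*} [Finite Y] (R : X → Y → Prop) (h1 : ∀ x, ∃ y, R x y)
    (h2 : ∀ x x' y, R x y → R x' y → x = x') (hc : Nat.card Y ≤ Nat.card X) :
    ∀ y, ∃ x, R x y := by
  choose f hf using h1
  have hinj : Function.Injective f := fun x x' h => h2 x x' (f x) (hf x) (h ▸ hf x')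
  have hb := hinj.bijective_of_nat_card_le hc
  intro y
  obtain ⟨x, rfl⟩ := hb.2 y
  exact ⟨x, hf x⟩

end Generic

/-! ### subgroups containing the Weyl involution and a central involution -/

section Norm

variable {F : Type*} [Field F] [Fintype F] {m : ℕ}

omit [Fintype F] in
theorem lam_ne_zero {k : Fˣ} : sg m (k : F) * k ≠ 0 := by
  have h1 : (k : F) ≠ 0 := k.ne_zero
  have h2 : sg m (k : F) ≠ 0 := fun h => h1 (sg_eq_zero.1 h)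
  exact mul_ne_zero h2 h1

/-- an involution of `M` interchanging the point at infinity with another point of its orbit -/
theorem swap_exists (hm : 1 ≤ m) (hF : Fintype.card F = 2 ^ (2 * m + 1))
    (M : Subgroup ↥(Cfsg.Sz F m)) {b₀ : F} (hb₀ : b₀ ≠ 0) (ht : uS hF 0 b₀ ∈ M)
    {g : ↥(Cfsg.Sz F m)} (hg : g ∈ M) (hmove : g • ainf F m ≠ ainf F m)
    {b : F} (hb : b ≠ 0) (hbM : uS hF 0 b ∈ M) :
    ∃ τ ∈ M, τ * τ = 1 ∧ τ • ainf F m = g • ainf F m ∧ τ • (g • ainf F m) = ainf F m ∧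
      τ * uS hF 0 b₀ * τ = g * uS hF 0 b * g⁻¹ := by
  set s₁ := g * uS hF 0 b * g⁻¹ with hs₁
  have hs₁M : s₁ ∈ M := M.mul_mem (M.mul_mem hg hbM) (M.inv_mem hg)
  have hs₁1 : s₁ ≠ 1 := by
    intro h
    apply uS_zero_ne_one hF hb
    calc uS hF 0 b = g⁻¹ * (g * uS hF 0 b * g⁻¹) * g := by group
      _ = 1 := by rw [← hs₁, h]; group
  have hs₁2 : s₁ * s₁ = 1 := by
    calc s₁ * s₁ = g * (uS hF 0 b * uS hF 0 b) * g⁻¹ := by rw [hs₁]; group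
      _ = 1 := by rw [inv_sq]; group
  have hs₁fix : s₁ • (g • ainf F m) = g • ainf F m := by
    rw [hs₁, ← mul_smul]
    have : g * uS hF 0 b * g⁻¹ * g = g * uS hF 0 b := by group
    rw [this, mul_smul, uS_ainf]
  obtain ⟨n, e1, e2, e3, e4⟩ := dihedral hm hF (uS_zero_ne_one hF hb₀) (inv_sq hF b₀) hs₁1 hs₁2
    (uS_ainf hF 0 b₀) hs₁fix (Ne.symm hmove)
  exact ⟨_, M.mul_mem ht (M.pow_mem (M.mul_mem ht hs₁M) n), e1, e3, e4, e2⟩

/-- the torus part of `M` acts transitively on the central involutions of `M` -/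
theorem A_eq (hm : 1 ≤ m) (hF : Fintype.card F = 2 ^ (2 * m + 1))
    (M : Subgroup ↥(Cfsg.Sz F m)) (hw : wS hF ∈ M) {b₀ : F} (hb₀ : b₀ ≠ 0)
    (ht : uS hF 0 b₀ ∈ M) {b : F} (hbM : uS hF 0 b ∈ M) (hb : b ≠ 0) :
    ∃ k : Fˣ, hS hF k ∈ M ∧ b = sg m (k : F) * k * b₀ := by
  have hwmove : wS hF • ainf F m ≠ ainf F m := by
    rw [wS_ainf]; exact apt_ne_ainf m 0 0
  -- an injection from the central involutions to the torus part
  have c1 : Nat.card {b : F // uS hF 0 b ∈ M ∧ b ≠ 0} ≤ Nat.card {k : Fˣ // hS hF k ∈ M} := by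
    apply rel_card_le (fun (b : {b : F // uS hF 0 b ∈ M ∧ b ≠ 0}) (k : {k : Fˣ // hS hF k ∈ M}) =>
      (wS hF * hS hF k.1) * uS hF 0 b₀ * (wS hF * hS hF k.1) = wS hF * uS hF 0 b.1 * (wS hF)⁻¹)
    · rintro ⟨b, hbM, hb⟩
      obtain ⟨τ, hτM, -, f1, f2, f3⟩ := swap_exists hm hF M hb₀ ht hw hwmove hb hbM
      rw [wS_ainf] at f1 f2
      have g1 : (wS hF * τ) • ainf F m = ainf F m := by rw [mul_smul, f1, wS_apt_zero]
      have g2 : (wS hF * τ) • apt m (0 : F) 0 = apt m 0 0 := by rw [mul_smul, f2, wS_ainf]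
      obtain ⟨k, hk⟩ := mem_torus_of_fix hm hF g1 g2
      have hk' : hS hF k = wS hF * τ := hk
      have hτ : τ = wS hF * hS hF k := by
        rw [hk', ← mul_assoc, wS_mul_self, one_mul]
      refine ⟨⟨k, ?_⟩, ?_⟩
      · rw [hk']; exact M.mul_mem hw hτM
      · show (wS hF * hS hF k) * uS hF 0 b₀ * (wS hF * hS hF k) = wS hF * uS hF 0 b * (wS hF)⁻¹
        rw [← hτ]; exact f3
    · rintro ⟨b, hbM, hb⟩ ⟨b', hbM', hb'⟩ ⟨k, hk⟩ h h'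
      have h2 : wS hF * uS hF 0 b * (wS hF)⁻¹ = wS hF * uS hF 0 b' * (wS hF)⁻¹ := h.symm.trans h'
      have h3 : uS hF 0 b = uS hF 0 b' := mul_left_cancel (mul_right_cancel h2)
      exact Subtype.ext (uS_inj hF h3).2
  -- the torus part acts freely
  have key := rel_surj (fun (k : {k : Fˣ // hS hF k ∈ M}) (b : {b : F // uS hF 0 b ∈ M ∧ b ≠ 0}) =>
      b.1 = sg m (k.1 : F) * k.1 * b₀) (by
    rintro ⟨k, hk⟩
    refine ⟨⟨sg m (k : F) * k * b₀, ?_, mul_ne_zero lam_ne_zero hb₀⟩, rfl⟩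
    rw [← conj_t hF k b₀]
    exact M.mul_mem (M.mul_mem hk ht) (M.inv_mem hk)) (by
    rintro ⟨k, hk⟩ ⟨k', hk'⟩ ⟨b, hbM, hb⟩ h h'
    have h1 : sg m (k : F) * k * b₀ = sg m (k' : F) * k' * b₀ := h.symm.trans h'
    have h2 := mul_right_cancel₀ hb₀ h1
    exact Subtype.ext (sg_mul_self_inj hF h2)) c1 ⟨b, hbM, hb⟩
  obtain ⟨⟨k, hk⟩, hkb⟩ := key
  exact ⟨k, hk, hkb⟩

/-- elements of `M` fixing the point at infinity split into a unipotent and a torus part in `M` -/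
theorem fix_decomp (hm : 1 ≤ m) (hF : Fintype.card F = 2 ^ (2 * m + 1))
    (M : Subgroup ↥(Cfsg.Sz F m)) (hw : wS hF ∈ M) {b₀ : F} (hb₀ : b₀ ≠ 0)
    (ht : uS hF 0 b₀ ∈ M) {g : ↥(Cfsg.Sz F m)} (hg : g ∈ M) (hfix : g • ainf F m = ainf F m) :
    ∃ (c d : F) (j : Fˣ), g = uS hF c d * hS hF j ∧ uS hF c d ∈ M ∧ hS hF j ∈ M := by
  obtain ⟨x, y, j, hgeq, hconj⟩ := conj_uS hm hF hfix
  have h1 := hconj 0 b₀
  rw [mul_zero, sg_zero, zero_mul, mul_zero, add_zero, add_zero] at h1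
  have h2 : uS hF 0 (sg m (j : F) * j * b₀) ∈ M := by
    rw [← h1]; exact M.mul_mem (M.mul_mem hg ht) (M.inv_mem hg)
  obtain ⟨k, hk, hkb⟩ := A_eq hm hF M hw hb₀ ht h2 (mul_ne_zero lam_ne_zero hb₀)
  have h3 := sg_mul_self_inj hF (mul_right_cancel₀ hb₀ hkb)
  have hj : hS hF j ∈ M := by rw [h3]; exact hk
  refine ⟨x, y, j, hgeq, ?_, hj⟩
  have : uS hF x y = g * (hS hF j)⁻¹ := by rw [hgeq]; group
  rw [this]
  exact M.mul_mem hg (M.inv_mem hj)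


/-- the two-point stabilisers of `M` project onto the torus part -/
theorem two_pt (hm : 1 ≤ m) (hF : Fintype.card F = 2 ^ (2 * m + 1))
    (M : Subgroup ↥(Cfsg.Sz F m)) (hw : wS hF ∈ M) {b₀ : F} (hb₀ : b₀ ≠ 0)
    (ht : uS hF 0 b₀ ∈ M) {g₀ : ↥(Cfsg.Sz F m)} (hg₀ : g₀ ∈ M)
    (hmove : g₀ • ainf F m ≠ ainf F m) {k : Fˣ} (hk : hS hF k ∈ M) :
    ∃ c d : F, uS hF c d * hS hF k ∈ M ∧
      (uS hF c d * hS hF k) • (g₀ • ainf F m) = g₀ • ainf F m := by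
  obtain ⟨τ₀, hτ₀M, hτ₀2, hτ₀a, hτ₀b, -⟩ := swap_exists hm hF M hb₀ ht hg₀ hmove hb₀ ht
  set γ := g₀ • ainf F m with hγ
  have cYX : Nat.card {k : Fˣ // hS hF k ∈ M} ≤ Nat.card {b : F // uS hF 0 b ∈ M ∧ b ≠ 0} := by
    apply rel_card_le (fun (k : {k : Fˣ // hS hF k ∈ M})
      (b : {b : F // uS hF 0 b ∈ M ∧ b ≠ 0}) => b.1 = sg m (k.1 : F) * k.1 * b₀)
    · rintro ⟨k, hk⟩
      refine ⟨⟨sg m (k : F) * k * b₀, ?_, mul_ne_zero lam_ne_zero hb₀⟩, rfl⟩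
      rw [← conj_t hF k b₀]
      exact M.mul_mem (M.mul_mem hk ht) (M.inv_mem hk)
    · rintro ⟨k, hk⟩ ⟨k', hk'⟩ ⟨b, hbM, hb⟩ h h'
      have h1 : sg m (k : F) * k * b₀ = sg m (k' : F) * k' * b₀ := h.symm.trans h'
      have h2 := mul_right_cancel₀ hb₀ h1
      exact Subtype.ext (sg_mul_self_inj hF h2)
  have cXH : Nat.card {b : F // uS hF 0 b ∈ M ∧ b ≠ 0} ≤
      Nat.card {x : ↥(Cfsg.Sz F m) // x ∈ M ∧ x • ainf F m = ainf F m ∧ x • γ = γ} := by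
    apply rel_card_le (fun (b : {b : F // uS hF 0 b ∈ M ∧ b ≠ 0})
      (x : {x : ↥(Cfsg.Sz F m) // x ∈ M ∧ x • ainf F m = ainf F m ∧ x • γ = γ}) =>
        ∃ τ : ↥(Cfsg.Sz F m), τ * uS hF 0 b₀ * τ = g₀ * uS hF 0 b.1 * g₀⁻¹ ∧ x.1 = τ₀ * τ)
    · rintro ⟨b, hbM, hb⟩
      obtain ⟨τ, hτM, -, f1, f2, f3⟩ := swap_exists hm hF M hb₀ ht hg₀ hmove hb hbM
      refine ⟨⟨τ₀ * τ, M.mul_mem hτ₀M hτM, ?_, ?_⟩, τ, f3, rfl⟩
      · rw [mul_smul, f1, hτ₀b]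
      · rw [mul_smul, f2, hτ₀a]
    · rintro ⟨b, hbM, hb⟩ ⟨b', hbM', hb'⟩ ⟨x, hx⟩ ⟨τ, e, hxτ⟩ ⟨τ', e', hxτ'⟩
      have h1 : τ₀ * τ = τ₀ * τ' := hxτ.symm.trans hxτ'
      have h2 : τ = τ' := mul_left_cancel h1
      subst h2
      have h3 : g₀ * uS hF 0 b * g₀⁻¹ = g₀ * uS hF 0 b' * g₀⁻¹ := e.symm.trans e'
      have h4 : uS hF 0 b = uS hF 0 b' := mul_left_cancel (mul_right_cancel h3)
      exact Subtype.ext (uS_inj hF h4).2
  have key := rel_surj (fun (x : {x : ↥(Cfsg.Sz F m) // x ∈ M ∧ x • ainf F m = ainf F m ∧ x • γ = γ})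
      (k : {k : Fˣ // hS hF k ∈ M}) => ∃ c d : F, x.1 = uS hF c d * hS hF k.1) (by
    rintro ⟨x, hxM, hxa, hxγ⟩
    obtain ⟨c, d, j, hx, -, hj⟩ := fix_decomp hm hF M hw hb₀ ht hxM hxa
    exact ⟨⟨j, hj⟩, c, d, hx⟩) (by
    rintro ⟨x, hxM, hxa, hxγ⟩ ⟨x', hxM', hxa', hxγ'⟩ ⟨k, hk⟩ ⟨c, d, hx⟩ ⟨c', d', hx'⟩
    have hx1 : x = uS hF c d * hS hF k := hx
    have hx1' : x' = uS hF c' d' * hS hF k := hx'
    have h1 : x * x'⁻¹ = uS hF (c + c') (d + (d' + sg m c' * c') + sg m c * c') := by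
      rw [hx1, hx1', ← uS_mul, ← uS_inv]; group
    have h2 : (x * x'⁻¹) • γ = γ := by
      rw [mul_smul, inv_smul_eq_iff.2 hxγ'.symm, hxγ]
    rw [h1] at h2
    have h3 : c + c' = 0 ∧ d + (d' + sg m c' * c') + sg m c * c' = 0 := by
      by_contra hne
      exact hmove (fix_uS hF hne h2)
    rw [h3.1, h3.2, uS_zero] at h1
    apply Subtype.ext
    show x = x'
    calc x = (x * x'⁻¹) * x' := by group
      _ = x' := by rw [h1, one_mul]) (cYX.trans cXH) ⟨k, hk⟩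
  obtain ⟨⟨x, hxM, hxa, hxγ⟩, c, d, hx⟩ := key
  have hx1 : x = uS hF c d * hS hF k := hx
  refine ⟨c, d, ?_, ?_⟩
  · rw [← hx1]; exact hxM
  · rw [← hx1]; exact hxγ

/-- if the torus part of `M` is non-trivial, the orbit of the point at infinity is parametrised
by the unipotent part -/
theorem orbit_pt (hm : 1 ≤ m) (hF : Fintype.card F = 2 ^ (2 * m + 1))
    (M : Subgroup ↥(Cfsg.Sz F m)) (hw : wS hF ∈ M) {b₀ : F} (hb₀ : b₀ ≠ 0)
    (ht : uS hF 0 b₀ ∈ M) {k : Fˣ} (hk1 : k ≠ 1) (hk : hS hF k ∈ M)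
    {g : ↥(Cfsg.Sz F m)} (hg : g ∈ M) (hmove : g • ainf F m ≠ ainf F m) :
    ∃ a b : F, uS hF a b ∈ M ∧ g • ainf F m = apt m a b := by
  obtain ⟨c, d, hxM, hxfix⟩ := two_pt hm hF M hw hb₀ ht hg hmove hk
  have hcd : uS hF c d ∈ M := by
    have : uS hF c d = uS hF c d * hS hF k * (hS hF k)⁻¹ := by group
    rw [this]
    exact M.mul_mem hxM (M.inv_mem hk)
  let ψ : ↥(M ⊓ Usub hF) → ↥(M ⊓ Usub hF) := fun v =>
    ⟨v.1 * hS hF k * v.1⁻¹ * (hS hF k)⁻¹, by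
      refine ⟨M.mul_mem (M.mul_mem (M.mul_mem v.2.1 hk) (M.inv_mem v.2.1)) (M.inv_mem hk), ?_⟩
      have h1 : hS hF k * v.1⁻¹ * (hS hF k)⁻¹ ∈ Usub hF :=
        conj_mem_Usub hm hF (hS_ainf hF k) ((Usub hF).inv_mem v.2.2)
      have h2 : v.1 * hS hF k * v.1⁻¹ * (hS hF k)⁻¹ = v.1 * (hS hF k * v.1⁻¹ * (hS hF k)⁻¹) := by
        group
      rw [h2]
      exact (Usub hF).mul_mem v.2.2 h1⟩
  have hinj : Function.Injective ψ := by
    rintro ⟨v, hvM, hvU⟩ ⟨v', hvM', hvU'⟩ h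
    have h1 : v * hS hF k * v⁻¹ * (hS hF k)⁻¹ = v' * hS hF k * v'⁻¹ * (hS hF k)⁻¹ :=
      congrArg Subtype.val h
    have h2 : v * hS hF k * v⁻¹ = v' * hS hF k * v'⁻¹ := mul_right_cancel h1
    have h3 : (v'⁻¹ * v) * hS hF k = hS hF k * (v'⁻¹ * v) := by
      calc (v'⁻¹ * v) * hS hF k = v'⁻¹ * (v * hS hF k * v⁻¹) * v := by group
        _ = v'⁻¹ * (v' * hS hF k * v'⁻¹) * v := by rw [h2]
        _ = hS hF k * (v'⁻¹ * v) := by group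
    have h4 : v'⁻¹ * v ∈ Subgroup.centralizer ({hS hF k} : Set ↥(Cfsg.Sz F m)) := by
      rw [Subgroup.mem_centralizer_singleton_iff]; exact h3
    obtain ⟨j, hj⟩ := (cent_hS_iff hm hF hk1 _).1 h4
    obtain ⟨e, f, hef⟩ : v'⁻¹ * v ∈ Usub hF := (Usub hF).mul_mem ((Usub hF).inv_mem hvU') hvU
    have h5 : apt m e f = apt m (0 : F) 0 := by
      rw [← uS_apt_zero hF e f, ← hef, hj, hS_apt_zero]
    obtain ⟨rfl, rfl⟩ := apt_inj h5
    rw [uS_zero] at hef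
    apply Subtype.ext
    show v = v'
    calc v = v' * (v'⁻¹ * v) := by group
      _ = v' := by rw [hef, mul_one]
  have hsurj := Finite.injective_iff_surjective.1 hinj
  obtain ⟨⟨v, hvM, hvU⟩, hv⟩ := hsurj ⟨uS hF c d, hcd, ⟨c, d, rfl⟩⟩
  have hv1 : v * hS hF k * v⁻¹ * (hS hF k)⁻¹ = uS hF c d := congrArg Subtype.val hv
  obtain ⟨a, b, hab⟩ := hvU
  have hx : uS hF c d * hS hF k = v * hS hF k * v⁻¹ := by rw [← hv1]; group
  have hx1 : uS hF c d * hS hF k ≠ 1 := by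
    rw [hx]
    intro h
    apply SzFix.hS_ne_one hF hk1
    calc hS hF k = v⁻¹ * (v * hS hF k * v⁻¹) * v := by group
      _ = 1 := by rw [h]; group
  have ga : (uS hF c d * hS hF k) • ainf F m = ainf F m := by
    rw [mul_smul, hS_ainf, uS_ainf]
  have gc : (uS hF c d * hS hF k) • apt m a b = apt m a b := by
    rw [hx, mul_smul, mul_smul]
    have h1 : v⁻¹ • apt m a b = apt m (0 : F) 0 := by
      rw [inv_smul_eq_iff, hab, uS_apt_zero]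
    rw [h1, hS_apt_zero, hab, uS_apt_zero]
  refine ⟨a, b, hab ▸ hvM, ?_⟩
  rcases three_fix hm hF hx1 ga hxfix gc with h | h | h
  · exact absurd h.symm hmove
  · exact h
  · exact absurd h.symm (apt_ne_ainf m a b)

theorem wS_apt (hF : Fintype.card F = 2 ^ (2 * m + 1)) (x y : F) (hf : fO m x y ≠ 0) :
    wS hF • apt m x y = apt m (y / fO m x y) (x / fO m x y) :=
  Subtype.ext (Wm_smul_pt hF x y hf)

/-- the image of a central involution under the Weyl involution -/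
theorem w_pt (hm : 1 ≤ m) (hF : Fintype.card F = 2 ^ (2 * m + 1))
    (M : Subgroup ↥(Cfsg.Sz F m)) (hw : wS hF ∈ M) {b₀ : F} (hb₀ : b₀ ≠ 0)
    (ht : uS hF 0 b₀ ∈ M) {k : Fˣ} (hk1 : k ≠ 1) (hk : hS hF k ∈ M)
    {b : F} (hb : b ≠ 0) (hbM : uS hF 0 b ∈ M) : uS hF (b / sg m b) 0 ∈ M := by
  have hgM : wS hF * uS hF 0 b * wS hF ∈ M := M.mul_mem (M.mul_mem hw hbM) hw
  have hf : fO m 0 b = sg m b := by
    rw [fO_eq, sg_zero]; ring
  have hsb : sg m b ≠ 0 := fun h => hb (sg_eq_zero.1 h)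
  have e1 : (wS hF * uS hF 0 b * wS hF) • ainf F m = apt m (b / sg m b) 0 := by
    rw [mul_smul, mul_smul, wS_ainf, uS_apt_zero, wS_apt hF 0 b (by rw [hf]; exact hsb), hf,
      zero_div]
  have hmove : (wS hF * uS hF 0 b * wS hF) • ainf F m ≠ ainf F m := by
    rw [e1]; exact apt_ne_ainf m _ _
  obtain ⟨a', b', hM', h⟩ := orbit_pt hm hF M hw hb₀ ht hk1 hk hgM hmove
  rw [e1] at h
  obtain ⟨h1, h2⟩ := apt_inj h
  rw [h1, h2]
  exact hM'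


/-! ### the subfield attached to `M` -/

/-- the torus part of `M` together with zero -/
def F0 (hF : Fintype.card F = 2 ^ (2 * m + 1)) (M : Subgroup ↥(Cfsg.Sz F m)) : Set F :=
  {x | x = 0 ∨ ∃ k : Fˣ, hS hF k ∈ M ∧ x = k}

theorem F0_zero (hF : Fintype.card F = 2 ^ (2 * m + 1)) (M : Subgroup ↥(Cfsg.Sz F m)) :
    (0 : F) ∈ F0 hF M := Or.inl rfl

theorem F0_one (hF : Fintype.card F = 2 ^ (2 * m + 1)) (M : Subgroup ↥(Cfsg.Sz F m)) :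
    (1 : F) ∈ F0 hF M := Or.inr ⟨1, by rw [hS_one]; exact M.one_mem, by simp⟩

theorem F0_mul (hF : Fintype.card F = 2 ^ (2 * m + 1)) (M : Subgroup ↥(Cfsg.Sz F m)) {x y : F}
    (hx : x ∈ F0 hF M) (hy : y ∈ F0 hF M) : x * y ∈ F0 hF M := by
  rcases hx with rfl | ⟨k, hk, rfl⟩
  · left; simp
  rcases hy with rfl | ⟨k', hk', rfl⟩
  · left; simp
  right
  refine ⟨k * k', ?_, by simp⟩
  rw [← hS_mul]
  exact M.mul_mem hk hk'

theorem F0_inv (hF : Fintype.card F = 2 ^ (2 * m + 1)) (M : Subgroup ↥(Cfsg.Sz F m)) {x : F}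
    (hx : x ∈ F0 hF M) : x⁻¹ ∈ F0 hF M := by
  rcases hx with rfl | ⟨k, hk, rfl⟩
  · left; simp
  right
  refine ⟨k⁻¹, ?_, by simp⟩
  rw [← hS_inv]
  exact M.inv_mem hk

theorem F0_pow (hF : Fintype.card F = 2 ^ (2 * m + 1)) (M : Subgroup ↥(Cfsg.Sz F m)) {x : F}
    (hx : x ∈ F0 hF M) (n : ℕ) : x ^ n ∈ F0 hF M := by
  induction n with
  | zero => rw [pow_zero]; exact F0_one hF M
  | succ n ih => rw [pow_succ]; exact F0_mul hF M ih hx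

theorem F0_sg (hF : Fintype.card F = 2 ^ (2 * m + 1)) (M : Subgroup ↥(Cfsg.Sz F m)) {x : F}
    (hx : x ∈ F0 hF M) : sg m x ∈ F0 hF M := F0_pow hF M hx _

theorem H_iff (hF : Fintype.card F = 2 ^ (2 * m + 1)) (M : Subgroup ↥(Cfsg.Sz F m)) (k : Fˣ) :
    hS hF k ∈ M ↔ (k : F) ∈ F0 hF M := by
  constructor
  · intro h
    exact Or.inr ⟨k, h, rfl⟩
  · rintro (h | ⟨k', hk', h⟩)
    · exact absurd h k.ne_zero
    · rw [Units.ext h]; exact hk'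

/-- `λ (μ x) = x` -/
theorem lam_mu (hF : Fintype.card F = 2 ^ (2 * m + 1)) {x : F} (hx : x ≠ 0) :
    sg m (sg m x / x) * (sg m x / x) = x := by
  have hsx : sg m x ≠ 0 := fun h => hx (sg_eq_zero.1 h)
  rw [sg_div, sg_sg hF]
  field_simp

/-- `μ (λ x) = x` -/
theorem mu_lam (hF : Fintype.card F = 2 ^ (2 * m + 1)) {x : F} (hx : x ≠ 0) :
    sg m (sg m x * x) / (sg m x * x) = x := by
  have hsx : sg m x ≠ 0 := fun h => hx (sg_eq_zero.1 h)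
  rw [sg_mul, sg_sg hF]
  field_simp

theorem A_iff0 (hm : 1 ≤ m) (hF : Fintype.card F = 2 ^ (2 * m + 1))
    (M : Subgroup ↥(Cfsg.Sz F m)) (hw : wS hF ∈ M) {b₀ : F} (hb₀ : b₀ ≠ 0)
    (ht : uS hF 0 b₀ ∈ M) (b : F) : uS hF 0 b ∈ M ↔ ∃ x ∈ F0 hF M, b = x * b₀ := by
  constructor
  · intro h
    by_cases hb : b = 0
    · exact ⟨0, F0_zero hF M, by rw [hb, zero_mul]⟩
    · obtain ⟨k, hk, hkb⟩ := A_eq hm hF M hw hb₀ ht h hb
      have hkF : (k : F) ∈ F0 hF M := (H_iff hF M k).1 hk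
      exact ⟨sg m (k : F) * k, F0_mul hF M (F0_sg hF M hkF) hkF, hkb⟩
  · rintro ⟨x, hx, rfl⟩
    by_cases hx0 : x = 0
    · rw [hx0, zero_mul, uS_zero]; exact M.one_mem
    · have hy : sg m x / x ∈ F0 hF M := by
        rw [div_eq_mul_inv]
        exact F0_mul hF M (F0_sg hF M hx) (F0_inv hF M hx)
      have hsx : sg m x ≠ 0 := fun h => hx0 (sg_eq_zero.1 h)
      rcases hy with hy | ⟨j, hj, hy⟩
      · exact absurd hy (div_ne_zero hsx hx0)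
      · have h1 := lam_mu hF hx0
        rw [hy] at h1
        rw [← h1, ← conj_t hF j b₀]
        exact M.mul_mem (M.mul_mem hj ht) (M.inv_mem hj)

theorem F0_add (hm : 1 ≤ m) (hF : Fintype.card F = 2 ^ (2 * m + 1))
    (M : Subgroup ↥(Cfsg.Sz F m)) (hw : wS hF ∈ M) {b₀ : F} (hb₀ : b₀ ≠ 0)
    (ht : uS hF 0 b₀ ∈ M) {x y : F} (hx : x ∈ F0 hF M) (hy : y ∈ F0 hF M) :
    x + y ∈ F0 hF M := by
  have h1 : uS hF 0 (x * b₀) ∈ M := (A_iff0 hm hF M hw hb₀ ht _).2 ⟨x, hx, rfl⟩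
  have h2 : uS hF 0 (y * b₀) ∈ M := (A_iff0 hm hF M hw hb₀ ht _).2 ⟨y, hy, rfl⟩
  have h3 : uS hF 0 (x * b₀ + y * b₀) ∈ M := by
    rw [← SzMult.uS_z_mul hF]
    exact M.mul_mem h1 h2
  obtain ⟨z, hz, hzb⟩ := (A_iff0 hm hF M hw hb₀ ht _).1 h3
  have : x + y = z := by
    apply mul_right_cancel₀ hb₀
    rw [← hzb]; ring
  rw [this]; exact hz

theorem b0_mem (hm : 1 ≤ m) (hF : Fintype.card F = 2 ^ (2 * m + 1))
    (M : Subgroup ↥(Cfsg.Sz F m)) (hw : wS hF ∈ M) {b₀ : F} (hb₀ : b₀ ≠ 0)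
    (ht : uS hF 0 b₀ ∈ M) {k : Fˣ} (hk1 : k ≠ 1) (hk : hS hF k ∈ M) : b₀ ∈ F0 hF M := by
  have h1 := w_pt hm hF M hw hb₀ ht hk1 hk hb₀ ht
  have h2 : uS hF 0 (sg m (b₀ / sg m b₀) * (b₀ / sg m b₀)) ∈ M := by
    rw [← uS_sq hF (b₀ / sg m b₀) 0]
    exact M.mul_mem h1 h1
  have hsb : sg m b₀ ≠ 0 := fun h => hb₀ (sg_eq_zero.1 h)
  have h3 : sg m (b₀ / sg m b₀) * (b₀ / sg m b₀) = b₀⁻¹ := by
    rw [sg_div, sg_sg hF]
    field_simp
  rw [h3] at h2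
  obtain ⟨x, hx, hxb⟩ := (A_iff0 hm hF M hw hb₀ ht _).1 h2
  -- `b₀⁻¹ = x b₀`, so `b₀² = x⁻¹`
  have hx0 : x ≠ 0 := by
    rintro rfl
    rw [zero_mul] at hxb
    exact inv_ne_zero hb₀ hxb
  have hxi := F0_inv hF M hx
  rcases hxi with hxi | ⟨j, hj, hxi⟩
  · exact absurd hxi (inv_ne_zero hx0)
  · -- `j = b₀ ^ 2`
    have hjb : (j : F) = b₀ ^ 2 := by
      rw [← hxi]
      field_simp
      have : b₀⁻¹ * b₀ = x * b₀ * b₀ := by rw [hxb]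
      rw [inv_mul_cancel₀ hb₀] at this
      rw [pow_two, ← mul_assoc]; exact this
    have hl := unit_sq hF j
    set l : Fˣ := j ^ (2 ^ (2 * m)) with hldef
    have hlM : hS hF l ∈ M := by
      rw [hldef, ← hS_pow]
      exact M.pow_mem hj _
    have hl2 : (l : F) ^ 2 = b₀ ^ 2 := by
      rw [← hjb, ← hl, pow_two]; simp
    have := sq_inj hF hl2
    rw [← this]
    exact (H_iff hF M l).1 hlM

theorem A_iff (hm : 1 ≤ m) (hF : Fintype.card F = 2 ^ (2 * m + 1))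
    (M : Subgroup ↥(Cfsg.Sz F m)) (hw : wS hF ∈ M) {b₀ : F} (hb₀ : b₀ ≠ 0)
    (ht : uS hF 0 b₀ ∈ M) {k : Fˣ} (hk1 : k ≠ 1) (hk : hS hF k ∈ M) (b : F) :
    uS hF 0 b ∈ M ↔ b ∈ F0 hF M := by
  have hb0 := b0_mem hm hF M hw hb₀ ht hk1 hk
  rw [A_iff0 hm hF M hw hb₀ ht]
  constructor
  · rintro ⟨x, hx, rfl⟩
    exact F0_mul hF M hx hb0
  · intro h
    refine ⟨b * b₀⁻¹, F0_mul hF M h (F0_inv hF M hb0), ?_⟩
    field_simp

theorem U_iff (hm : 1 ≤ m) (hF : Fintype.card F = 2 ^ (2 * m + 1))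
    (M : Subgroup ↥(Cfsg.Sz F m)) (hw : wS hF ∈ M) {b₀ : F} (hb₀ : b₀ ≠ 0)
    (ht : uS hF 0 b₀ ∈ M) {k : Fˣ} (hk1 : k ≠ 1) (hk : hS hF k ∈ M) (a b : F) :
    uS hF a b ∈ M ↔ a ∈ F0 hF M ∧ b ∈ F0 hF M := by
  have hA := A_iff hm hF M hw hb₀ ht hk1 hk
  have ha0 : ∀ a : F, a ∈ F0 hF M → uS hF a 0 ∈ M := by
    intro a ha
    by_cases ha0 : a = 0
    · rw [ha0, uS_zero]; exact M.one_mem
    · have hsa : sg m a ≠ 0 := fun h => ha0 (sg_eq_zero.1 h)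
      have hb : (sg m a * a)⁻¹ ∈ F0 hF M := F0_inv hF M (F0_mul hF M (F0_sg hF M ha) ha)
      have hb0 : (sg m a * a)⁻¹ ≠ 0 := inv_ne_zero (mul_ne_zero hsa ha0)
      have h1 := w_pt hm hF M hw hb₀ ht hk1 hk hb0 ((hA _).2 hb)
      have h2 : (sg m a * a)⁻¹ / sg m (sg m a * a)⁻¹ = a := by
        rw [sg_inv, sg_mul, sg_sg hF]
        field_simp
      rw [h2] at h1
      exact h1
  have hsplit : uS hF a b = uS hF a 0 * uS hF 0 b := by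
    rw [uS_mul]
    congr 1
    · rw [add_zero]
    · rw [mul_zero, add_zero, zero_add]
  constructor
  · intro h
    have h2 : uS hF 0 (sg m a * a) ∈ M := by
      rw [← uS_sq hF a b]
      exact M.mul_mem h h
    have h3 := (hA _).1 h2
    have haF : a ∈ F0 hF M := by
      by_cases ha : a = 0
      · rw [ha]; exact F0_zero hF M
      · rw [← mu_lam hF ha, div_eq_mul_inv]
        exact F0_mul hF M (F0_sg hF M h3) (F0_inv hF M h3)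
    refine ⟨haF, ?_⟩
    have h4 := ha0 a haF
    have h5 : uS hF 0 b = (uS hF a 0)⁻¹ * uS hF a b := by
      rw [hsplit]; group
    rw [← hA, h5]
    exact M.mul_mem (M.inv_mem h4) h
  · rintro ⟨ha, hb⟩
    rw [hsplit]
    exact M.mul_mem (ha0 a ha) ((hA b).2 hb)

/-- the subfield attached to `M` -/
theorem exists_subfield (hm : 1 ≤ m) (hF : Fintype.card F = 2 ^ (2 * m + 1))
    (M : Subgroup ↥(Cfsg.Sz F m)) (hw : wS hF ∈ M) {b₀ : F} (hb₀ : b₀ ≠ 0)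
    (ht : uS hF 0 b₀ ∈ M) {k : Fˣ} (hk1 : k ≠ 1) (hk : hS hF k ∈ M) :
    ∃ F₀ : Subfield F, (∀ a b : F, uS hF a b ∈ M ↔ a ∈ F₀ ∧ b ∈ F₀) ∧
      (∀ j : Fˣ, hS hF j ∈ M ↔ (j : F) ∈ F₀) := by
  refine ⟨{ carrier := F0 hF M
            mul_mem' := fun hx hy => F0_mul hF M hx hy
            one_mem' := F0_one hF M
            add_mem' := fun hx hy => F0_add hm hF M hw hb₀ ht hx hy
            zero_mem' := F0_zero hF M
            neg_mem' := fun {x} hx => by rw [neg_eq hF]; exact hx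
            inv_mem' := fun x hx => F0_inv hF M hx }, ?_, ?_⟩
  · intro a b
    exact U_iff hm hF M hw hb₀ ht hk1 hk a b
  · intro j
    exact H_iff hF M j


/-- the case of a non-trivial torus part: `M` lies in the subgroup defined over a proper
subfield -/
theorem field_case (hm : 1 ≤ m) (hF : Fintype.card F = 2 ^ (2 * m + 1))
    (M : Subgroup ↥(Cfsg.Sz F m)) (hw : wS hF ∈ M) {b₀ : F} (hb₀ : b₀ ≠ 0)
    (ht : uS hF 0 b₀ ∈ M) {k : Fˣ} (hk1 : k ≠ 1) (hk : hS hF k ∈ M) (hM : M ≠ ⊤) :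
    ∃ F₀ : Subfield F, F₀ ≠ ⊤ ∧ (k : F) ∈ F₀ ∧
      ∀ S₀ : Subgroup ↥(Cfsg.Sz F m), (∀ a b : F, a ∈ F₀ → b ∈ F₀ → uS hF a b ∈ S₀) →
        (∀ j : Fˣ, (j : F) ∈ F₀ → hS hF j ∈ S₀) → wS hF ∈ S₀ → M ≤ S₀ := by
  obtain ⟨F₀, hU, hH⟩ := exists_subfield hm hF M hw hb₀ ht hk1 hk
  refine ⟨F₀, ?_, (hH k).1 hk, ?_⟩
  · intro htop
    apply hM
    apply eq_top_of_gens hm hF M
    · intro a b
      rw [hU, htop]
      exact ⟨trivial, trivial⟩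
    · intro j
      rw [hH, htop]
      trivial
    · exact hw
  · intro S₀ hS₀U hS₀H hS₀w g hg
    by_cases hfix : g • ainf F m = ainf F m
    · obtain ⟨c, d, j, hgeq, hcd, hj⟩ := fix_decomp hm hF M hw hb₀ ht hg hfix
      rw [hgeq]
      exact S₀.mul_mem (hS₀U c d ((hU c d).1 hcd).1 ((hU c d).1 hcd).2) (hS₀H j ((hH j).1 hj))
    · obtain ⟨a, b, hab, hgab⟩ := orbit_pt hm hF M hw hb₀ ht hk1 hk hg hfix
      have hg'M : wS hF * (uS hF a b)⁻¹ * g ∈ M := M.mul_mem (M.mul_mem hw (M.inv_mem hab)) hg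
      have hg'fix : (wS hF * (uS hF a b)⁻¹ * g) • ainf F m = ainf F m := by
        rw [mul_smul, mul_smul, hgab]
        have : (uS hF a b)⁻¹ • apt m a b = apt m (0 : F) 0 := by
          rw [inv_smul_eq_iff, uS_apt_zero]
        rw [this, wS_apt_zero]
      obtain ⟨c, d, j, hgeq, hcd, hj⟩ := fix_decomp hm hF M hw hb₀ ht hg'M hg'fix
      have hg2 : g = uS hF a b * wS hF * (uS hF c d * hS hF j) := by
        rw [← hgeq]
        calc g = uS hF a b * (wS hF * wS hF) * ((uS hF a b)⁻¹ * g) := by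
              rw [wS_mul_self]; group
          _ = uS hF a b * wS hF * (wS hF * (uS hF a b)⁻¹ * g) := by group
      rw [hg2]
      exact S₀.mul_mem (S₀.mul_mem (hS₀U a b ((hU a b).1 hab).1 ((hU a b).1 hab).2) hS₀w)
        (S₀.mul_mem (hS₀U c d ((hU c d).1 hcd).1 ((hU c d).1 hcd).2) (hS₀H j ((hH j).1 hj)))

/-- the case of a trivial torus part: `M` has a normal 2-complement and normalises a torus -/
theorem small_case (hm : 1 ≤ m) (hF : Fintype.card F = 2 ^ (2 * m + 1))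
    (M : Subgroup ↥(Cfsg.Sz F m)) (hw : wS hF ∈ M) {b₀ : F} (hb₀ : b₀ ≠ 0)
    (ht : uS hF 0 b₀ ∈ M) (hK : ∀ k : Fˣ, hS hF k ∈ M → k = 1) :
    ∃ U : Subgroup ↥(Cfsg.Sz F m), IsCyclic ↥U ∧
      Nat.card ↥U ∈ ({2 ^ (2 * m + 1) - 1, 2 ^ (2 * m + 1) + 2 ^ (m + 1) + 1,
        2 ^ (2 * m + 1) - 2 ^ (m + 1) + 1} : Set ℕ) ∧
      M ≤ Subgroup.normalizer (U : Set ↥(Cfsg.Sz F m)) := by
  have := Fact.mk Nat.prime_two
  have hA : ∀ b : F, uS hF 0 b ∈ M → b ≠ 0 → b = b₀ := by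
    intro b hbM hb
    obtain ⟨k, hk, hkb⟩ := A_eq hm hF M hw hb₀ ht hbM hb
    rw [hK k hk] at hkb
    rw [hkb]; simp [sg_one]
  have hfixU : ∀ g ∈ M, g • ainf F m = ainf F m → g ∈ Usub hF := by
    intro g hg hfix
    obtain ⟨c, d, j, hgeq, -, hj⟩ := fix_decomp hm hF M hw hb₀ ht hg hfix
    rw [hK j hj, hS_one, mul_one] at hgeq
    exact ⟨c, d, hgeq⟩
  have hcomm : ∀ x y : ↥(Cfsg.Sz F m), x ∈ M → x ∈ Usub hF → y ∈ M → y ∈ Usub hF →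
      x * y = y * x := by
    rintro x y hxM ⟨a, b, rfl⟩ hyM ⟨a', b', rfl⟩
    have h1 := uS_comm hF a b a' b'
    have hz : sg m a * a' + sg m a' * a = 0 := by
      by_cases ha : a = 0
      · rw [ha, sg_zero]; ring
      by_cases ha' : a' = 0
      · rw [ha', sg_zero]; ring
      have hsa : sg m a ≠ 0 := fun h => ha (sg_eq_zero.1 h)
      have hsa' : sg m a' ≠ 0 := fun h => ha' (sg_eq_zero.1 h)
      have e1 : sg m a * a = b₀ :=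
        hA _ (by rw [← uS_sq hF a b]; exact M.mul_mem hxM hxM) (mul_ne_zero hsa ha)
      have e2 : sg m a' * a' = b₀ :=
        hA _ (by rw [← uS_sq hF a' b']; exact M.mul_mem hyM hyM) (mul_ne_zero hsa' ha')
      have e3 : a = a' := by
        have := sg_mul_self_inj hF (j := Units.mk0 a ha) (j' := Units.mk0 a' ha')
          (by simpa using e1.trans e2.symm)
        simpa using congrArg Units.val this
      rw [e3]; exact add_self hF _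
    rw [hz, uS_zero] at h1
    calc uS hF a b * uS hF a' b'
        = (uS hF a b * uS hF a' b' * (uS hF a b)⁻¹ * (uS hF a' b')⁻¹) * (uS hF a' b' * uS hF a b) := by
          group
      _ = uS hF a' b' * uS hF a b := by rw [h1, one_mul]
  -- the Sylow 2-subgroup of `M`
  have hP₀ : IsPGroup 2 ↥((Usub hF).subgroupOf M) := by
    rintro ⟨x, hx⟩
    refine ⟨2, ?_⟩
    obtain ⟨a, b, hab⟩ := Subgroup.mem_subgroupOf.1 hx
    have h4 : x ^ 4 = 1 := by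
      apply Subtype.ext
      rw [Subgroup.coe_pow, hab]
      exact uS_pow_four hF a b
    apply Subtype.ext
    exact h4
  obtain ⟨Q, hQ⟩ := hP₀.exists_le_sylow
  have hc : Nat.card ↥(Usub (m := m) hF) = 2 ^ (Nat.card ↥(Cfsg.Sz F m)).factorization 2 := by
    rw [card_Usub, factorization_card_Sz hm hF, ← pow_mul, mul_comm]
  have ht₀Q : (⟨uS hF 0 b₀, ht⟩ : ↥M) ∈ Q := hQ (Subgroup.mem_subgroupOf.2 ⟨0, b₀, rfl⟩)
  have hQU : ∀ x : ↥M, x ∈ Q → (x : ↥(Cfsg.Sz F m)) ∈ Usub hF := by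
    intro x hx
    have hQ' : IsPGroup 2 ↥((Q : Subgroup ↥M).map M.subtype) := Q.isPGroup'.map M.subtype
    obtain ⟨P', hP'⟩ := hQ'.exists_le_sylow
    have h1 : uS hF 0 b₀ ∈ (P' : Subgroup ↥(Cfsg.Sz F m)) :=
      hP' (Subgroup.mem_map.2 ⟨⟨_, ht⟩, ht₀Q, rfl⟩)
    have h2 : uS hF 0 b₀ ∈ ((Sylow.ofCard _ hc : Sylow 2 ↥(Cfsg.Sz F m)) :
        Subgroup ↥(Cfsg.Sz F m)) := by
      rw [Sylow.coe_ofCard]; exact ⟨0, b₀, rfl⟩
    have h3 := sylow_TI hm hF P' (Sylow.ofCard _ hc) (uS_zero_ne_one hF hb₀) h1 h2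
    have h4 : (x : ↥(Cfsg.Sz F m)) ∈ (P' : Subgroup ↥(Cfsg.Sz F m)) :=
      hP' (Subgroup.mem_map.2 ⟨x, hx, rfl⟩)
    rw [h3, Sylow.coe_ofCard] at h4
    exact h4
  have hP : Subgroup.normalizer ((Q : Subgroup ↥M) : Set ↥M) ≤
      Subgroup.centralizer ((Q : Subgroup ↥M) : Set ↥M) := by
    intro x hx
    rw [Subgroup.mem_normalizer_iff] at hx
    have h1 := (hx _).1 ht₀Q
    have h2 : (x : ↥(Cfsg.Sz F m)) * uS hF 0 b₀ * (x : ↥(Cfsg.Sz F m))⁻¹ ∈ Usub hF := hQU _ h1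
    set y := (x : ↥(Cfsg.Sz F m)) * uS hF 0 b₀ * (x : ↥(Cfsg.Sz F m))⁻¹ with hy
    have hy1 : y ≠ 1 := by
      intro h
      apply uS_zero_ne_one hF hb₀
      calc uS hF 0 b₀ = (x : ↥(Cfsg.Sz F m))⁻¹ * y * x := by rw [hy]; group
        _ = 1 := by rw [h]; group
    have hy2 : y * y = 1 := by
      calc y * y = (x : ↥(Cfsg.Sz F m)) * (uS hF 0 b₀ * uS hF 0 b₀) * (x : ↥(Cfsg.Sz F m))⁻¹ := by
            rw [hy]; group
        _ = 1 := by rw [inv_sq]; group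
    have hyfix : y • ainf F m = ainf F m := by
      obtain ⟨a, b, hab⟩ := h2
      rw [hab, uS_ainf]
    obtain ⟨b', hb', hyb⟩ := inv_fix_inf hm hF hy1 hy2 hyfix
    have hyM : y ∈ M := M.mul_mem (M.mul_mem x.2 ht) (M.inv_mem x.2)
    have hb'eq : b' = b₀ := hA b' (hyb ▸ hyM) hb'
    have hyt : y = uS hF 0 b₀ := by rw [hyb, hb'eq]
    have hcomm' : (x : ↥(Cfsg.Sz F m)) * uS hF 0 b₀ = uS hF 0 b₀ * (x : ↥(Cfsg.Sz F m)) := by
      calc (x : ↥(Cfsg.Sz F m)) * uS hF 0 b₀ = y * x := by rw [hy]; group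
        _ = uS hF 0 b₀ * x := by rw [hyt]
    have hxfix : (x : ↥(Cfsg.Sz F m)) • ainf F m = ainf F m := by
      apply fix_uS hF (a := 0) (b := b₀) (by simp [hb₀])
      rw [← mul_smul, ← hcomm', mul_smul, uS_ainf]
    have hxU : (x : ↥(Cfsg.Sz F m)) ∈ Usub hF := hfixU _ x.2 hxfix
    rw [Subgroup.mem_centralizer_iff]
    intro h hh
    apply Subtype.ext
    exact hcomm _ _ h.2 (hQU h hh) x.2 hxU
  obtain ⟨N, hNn, hodd, hcomp⟩ : ∃ N : Subgroup ↥M, N.Normal ∧ ¬ 2 ∣ Nat.card ↥N ∧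
      N.IsComplement' (Q : Subgroup ↥M) :=
    ⟨_, MonoidHom.normal_ker _, MonoidHom.not_dvd_card_ker_transferSylow Q hP,
      MonoidHom.ker_transferSylow_isComplement' Q hP⟩
  have hodd' : ¬ 2 ∣ Nat.card ↥(N.map M.subtype) := by
    rw [Subgroup.card_map_of_injective M.subtype_injective]; exact hodd
  have hnorm : ∀ g ∈ M, ∀ n ∈ N.map M.subtype, g * n * g⁻¹ ∈ N.map M.subtype := by
    intro g hg n hn
    obtain ⟨n₀, hn₀, rfl⟩ := Subgroup.mem_map.1 hn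
    have h1 : (⟨g, hg⟩ : ↥M) * n₀ * (⟨g, hg⟩ : ↥M)⁻¹ ∈ N := hNn.conj_mem n₀ hn₀ ⟨g, hg⟩
    rw [Subgroup.mem_map]
    refine ⟨_, h1, ?_⟩
    rw [map_mul, map_mul, map_inv]
    simp only [Subgroup.coe_subtype]
  by_cases hNbot : N.map M.subtype = ⊥
  · exfalso
    have hNb : N = ⊥ := (Subgroup.map_eq_bot_iff_of_injective N M.subtype_injective).1 hNbot
    have hcard := hcomp.card_mul_card
    rw [hNb, Subgroup.card_bot, one_mul] at hcard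
    have hQtop : (Q : Subgroup ↥M) = ⊤ := (Subgroup.card_eq_iff_eq_top _).1 hcard
    have hwQ : (⟨wS hF, hw⟩ : ↥M) ∈ (Q : Subgroup ↥M) := by rw [hQtop]; trivial
    obtain ⟨a, b, hab⟩ := hQU _ hwQ
    have hab' : wS hF = uS hF a b := hab
    have h5 : wS hF • ainf F m = ainf F m := by rw [hab', uS_ainf]
    rw [wS_ainf] at h5
    exact apt_ne_ainf m 0 0 h5
  · exact normal_odd hm hF M (N.map M.subtype) hnorm hodd' hNbot

end Norm

end Cfsg.Agent.Lib.Helper65.SzSubC
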