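import Mathlib
import Cfsg.Agent.Lib.Helper65.SzSubC

set_option autoImplicit false

namespace Cfsg.Agent.Lib.Helper65.SzSubD

open Cfsg.Agent.Lib.Helper6.Sz0 Cfsg.Agent.Lib.Helper6.Sz1 Cfsg.Agent.Lib.Helper6.Sz2
  Cfsg.Agent.Lib.Helper6.Sz3 Cfsg.Agent.Lib.Helper6.Sz4 Cfsg.Agent.Lib.Helper6.Sz5
  Cfsg.Agent.Lib.Helper6.Sz6 Cfsg.Agent.Lib.Helper6.Sz7 Cfsg.Agent.Lib.Helper6.Sz8
  Cfsg.Agent.Lib.Helper6.Sz9 Cfsg.Agent.Lib.Helper6.Sz10 Cfsg.Agent.Lib.Helper6.Sz11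
  Cfsg.Agent.Lib.Helper6.Sz12 Cfsg.Agent.Lib.Helper6.Sz13 Cfsg.Agent.Lib.Helper6.Sz14
  Cfsg.Agent.Lib.Helper6.Sz15 Cfsg.Agent.Lib.Helper6.Sz16 Cfsg.Agent.Lib.Helper6.Sz17
  Cfsg.Agent.Lib.Helper6.Sz18 Cfsg.Agent.Lib.Helper6.Sz19
  Cfsg.Agent.Lib.Helper65.SzFix Cfsg.Agent.Lib.Helper65.SzSubA Cfsg.Agent.Lib.Helper65.SzSubB
  Cfsg.Agent.Lib.Helper65.SzSubC

/-! ### the Suzuki group over a subfield, embedded by base change -/

section Map

variable {F : Type*} [Field F] {m : ℕ} {K : Type*} [Field K] {k : ℕ}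

theorem map_sg (φ : K →+* F) (hpow : ∀ y : K, y ^ (2 ^ m) = y ^ (2 ^ k)) (y : K) :
    φ (sg k y) = sg m (φ y) := by
  unfold sg
  rw [← map_pow]
  congr 1
  rw [pow_succ, pow_mul, pow_succ 2 m, pow_mul, hpow]

theorem map_fO (φ : K →+* F) (hpow : ∀ y : K, y ^ (2 ^ m) = y ^ (2 ^ k)) (x y : K) :
    φ (fO k x y) = fO m (φ x) (φ y) := by
  rw [fO_eq, fO_eq, map_add, map_add, map_mul, map_mul, map_pow, map_sg φ hpow, map_sg φ hpow]

theorem map_Um (φ : K →+* F) (hpow : ∀ y : K, y ^ (2 ^ m) = y ^ (2 ^ k)) (a b : K) :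
    Matrix.SpecialLinearGroup.map φ (Um k a b) = Um m (φ a) (φ b) := by
  apply Subtype.ext
  rw [Matrix.SpecialLinearGroup.map_apply_coe]
  ext i j
  fin_cases i <;> fin_cases j <;> simp [Um, UmMat, map_sg φ hpow, map_fO φ hpow]

theorem map_Hm (φ : K →+* F) (hpow : ∀ y : K, y ^ (2 ^ m) = y ^ (2 ^ k)) (j : Kˣ) :
    Matrix.SpecialLinearGroup.map φ (Hm k j) = Hm m (Units.map (φ : K →* F) j) := by
  have h1 : (φ (j : K)) ^ (2 ^ k) = (φ (j : K)) ^ (2 ^ m) := by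
    rw [← map_pow, ← map_pow, hpow]
  have h2 : (φ (j : K)) ^ (2 ^ k + 1) = (φ (j : K)) ^ (2 ^ m + 1) := by
    rw [pow_succ, h1, pow_succ]
  apply Subtype.ext
  rw [Matrix.SpecialLinearGroup.map_apply_coe]
  ext i l
  fin_cases i <;> fin_cases l <;> simp [Hm, HmMat, h1, h2]

theorem map_Wm (φ : K →+* F) :
    Matrix.SpecialLinearGroup.map φ (Wm : Matrix.SpecialLinearGroup (Fin 4) K) = Wm := by
  apply Subtype.ext
  rw [Matrix.SpecialLinearGroup.map_apply_coe]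
  ext i l
  fin_cases i <;> fin_cases l <;> simp [Wm, WmMat]

variable [Fintype F] [Fintype K]

theorem map_mem (hk : 1 ≤ k) (hK : Fintype.card K = 2 ^ (2 * k + 1))
    (hF : Fintype.card F = 2 ^ (2 * m + 1)) (φ : K →+* F)
    (hpow : ∀ y : K, y ^ (2 ^ m) = y ^ (2 ^ k)) (g : ↥(Cfsg.Sz K k)) :
    Matrix.SpecialLinearGroup.map φ (g : Matrix.SpecialLinearGroup (Fin 4) K) ∈ Cfsg.Sz F m := by
  have hU : ∀ a b : K, Matrix.SpecialLinearGroup.map φ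
      ((uS hK a b : ↥(Cfsg.Sz K k)) : Matrix.SpecialLinearGroup (Fin 4) K) ∈ Cfsg.Sz F m := by
    intro a b
    have : ((uS hK a b : ↥(Cfsg.Sz K k)) : Matrix.SpecialLinearGroup (Fin 4) K) = Um k a b := rfl
    rw [this, map_Um φ hpow]
    exact Um_mem hF _ _
  have hH : ∀ j : Kˣ, Matrix.SpecialLinearGroup.map φ
      ((hS hK j : ↥(Cfsg.Sz K k)) : Matrix.SpecialLinearGroup (Fin 4) K) ∈ Cfsg.Sz F m := by
    intro j
    have : ((hS hK j : ↥(Cfsg.Sz K k)) : Matrix.SpecialLinearGroup (Fin 4) K) = Hm k j := rfl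
    rw [this, map_Hm φ hpow]
    exact Hm_mem hF _
  have hW : Matrix.SpecialLinearGroup.map φ
      ((wS hK : ↥(Cfsg.Sz K k)) : Matrix.SpecialLinearGroup (Fin 4) K) ∈ Cfsg.Sz F m := by
    have : ((wS hK : ↥(Cfsg.Sz K k)) : Matrix.SpecialLinearGroup (Fin 4) K) = Wm := rfl
    rw [this, map_Wm φ]
    exact Wm_mem hF
  rcases bruhatS hk hK g with ⟨a, b, j, rfl⟩ | ⟨a, b, c, d, j, rfl⟩
  · rw [Subgroup.coe_mul, map_mul]
    exact mul_mem (hU a b) (hH j)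
  · rw [Subgroup.coe_mul, Subgroup.coe_mul, Subgroup.coe_mul, map_mul, map_mul, map_mul]
    exact mul_mem (mul_mem (hU a b) hW) (mul_mem (hU c d) (hH j))

/-- base change from a subfield -/
noncomputable def Phi (hk : 1 ≤ k) (hK : Fintype.card K = 2 ^ (2 * k + 1))
    (hF : Fintype.card F = 2 ^ (2 * m + 1)) (φ : K →+* F)
    (hpow : ∀ y : K, y ^ (2 ^ m) = y ^ (2 ^ k)) : ↥(Cfsg.Sz K k) →* ↥(Cfsg.Sz F m) :=
  ((Matrix.SpecialLinearGroup.map φ).comp (Cfsg.Sz K k).subtype).codRestrict (Cfsg.Sz F m)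
    (fun g => map_mem hk hK hF φ hpow g)

theorem Phi_uS (hk : 1 ≤ k) (hK : Fintype.card K = 2 ^ (2 * k + 1))
    (hF : Fintype.card F = 2 ^ (2 * m + 1)) (φ : K →+* F)
    (hpow : ∀ y : K, y ^ (2 ^ m) = y ^ (2 ^ k)) (a b : K) :
    Phi hk hK hF φ hpow (uS hK a b) = uS hF (φ a) (φ b) :=
  Subtype.ext (map_Um φ hpow a b)

theorem Phi_hS (hk : 1 ≤ k) (hK : Fintype.card K = 2 ^ (2 * k + 1))
    (hF : Fintype.card F = 2 ^ (2 * m + 1)) (φ : K →+* F)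
    (hpow : ∀ y : K, y ^ (2 ^ m) = y ^ (2 ^ k)) (j : Kˣ) :
    Phi hk hK hF φ hpow (hS hK j) = hS hF (Units.map (φ : K →* F) j) :=
  Subtype.ext (map_Hm φ hpow j)

theorem Phi_wS (hk : 1 ≤ k) (hK : Fintype.card K = 2 ^ (2 * k + 1))
    (hF : Fintype.card F = 2 ^ (2 * m + 1)) (φ : K →+* F)
    (hpow : ∀ y : K, y ^ (2 ^ m) = y ^ (2 ^ k)) :
    Phi hk hK hF φ hpow (wS hK) = wS hF :=
  Subtype.ext (map_Wm φ)

theorem Phi_inj (hk : 1 ≤ k) (hK : Fintype.card K = 2 ^ (2 * k + 1))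
    (hF : Fintype.card F = 2 ^ (2 * m + 1)) (φ : K →+* F)
    (hpow : ∀ y : K, y ^ (2 ^ m) = y ^ (2 ^ k)) :
    Function.Injective (Phi hk hK hF φ hpow) := by
  intro g g' h
  apply Subtype.ext
  apply Subtype.ext
  ext i j
  have h1 : Matrix.SpecialLinearGroup.map φ (g : Matrix.SpecialLinearGroup (Fin 4) K) =
      Matrix.SpecialLinearGroup.map φ (g' : Matrix.SpecialLinearGroup (Fin 4) K) :=
    congrArg Subtype.val h
  have h2 := congrArg (fun x : Matrix.SpecialLinearGroup (Fin 4) F => x.1 i j) h1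
  simp only [Matrix.SpecialLinearGroup.map_apply_coe, RingHom.mapMatrix_apply, Matrix.map_apply]
    at h2
  exact φ.injective h2

/-- the image of the Suzuki group over a subfield -/
theorem exists_sub (hk : 1 ≤ k) (hK : Fintype.card K = 2 ^ (2 * k + 1))
    (hF : Fintype.card F = 2 ^ (2 * m + 1)) (φ : K →+* F)
    (hpow : ∀ y : K, y ^ (2 ^ m) = y ^ (2 ^ k)) :
    ∃ S₀ : Subgroup ↥(Cfsg.Sz F m), Nonempty (↥S₀ ≃* ↥(Cfsg.Sz K k)) ∧
      (∀ a b : K, uS hF (φ a) (φ b) ∈ S₀) ∧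
      (∀ j : Kˣ, hS hF (Units.map (φ : K →* F) j) ∈ S₀) ∧ wS hF ∈ S₀ := by
  refine ⟨(Phi hk hK hF φ hpow).range,
    ⟨(MonoidHom.ofInjective (Phi_inj hk hK hF φ hpow)).symm⟩, ?_, ?_, ?_⟩
  · intro a b
    exact ⟨uS hK a b, Phi_uS hk hK hF φ hpow a b⟩
  · intro j
    exact ⟨hS hK j, Phi_hS hk hK hF φ hpow j⟩
  · exact ⟨wS hK, Phi_wS hk hK hF φ hpow⟩

end Map


/-! ### proper subfields -/

section Sub

variable {F : Type*} [Field F] [Fintype F] {m : ℕ}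

theorem pow_two_pow_mul {K : Type*} [Field K] [Fintype K] {d : ℕ}
    (hK : Fintype.card K = 2 ^ d) (y : K) (j : ℕ) : y ^ (2 ^ (d * j)) = y := by
  induction j with
  | zero => simp
  | succ j ih => rw [Nat.mul_succ, pow_add, pow_mul, ih, ← hK, FiniteField.pow_card]

/-- a proper subfield with more than two elements gives a smaller Suzuki group inside -/
theorem subfield_sub (hF : Fintype.card F = 2 ^ (2 * m + 1))
    (F₀ : Subfield F) (hF₀ : F₀ ≠ ⊤) {k₁ : Fˣ} (hk₁ : k₁ ≠ 1) (hk₁F : (k₁ : F) ∈ F₀) :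
    ∃ (K : Type) (_ : Field K) (_ : Fintype K) (k : ℕ), 1 ≤ k ∧ k < m ∧
      Fintype.card K = 2 ^ (2 * k + 1) ∧ 2 * k + 1 ∣ 2 * m + 1 ∧
      ∃ S₀ : Subgroup ↥(Cfsg.Sz F m), Nonempty (↥S₀ ≃* ↥(Cfsg.Sz K k)) ∧
        (∀ a b : F, a ∈ F₀ → b ∈ F₀ → uS hF a b ∈ S₀) ∧
        (∀ j : Fˣ, (j : F) ∈ F₀ → hS hF j ∈ S₀) ∧ wS hF ∈ S₀ := by
  classical
  let _ : Fintype ↥F₀ := Fintype.ofFinite _
  have hcard : Nat.card F = Nat.card ↥F₀ ^ Module.finrank ↥F₀ F := Module.natCard_eq_pow_finrank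
  rw [Nat.card_eq_fintype_card, hF] at hcard
  set e := Module.finrank ↥F₀ F with he
  have h2pos : 2 ≤ 2 ^ (2 * m + 1) := by
    calc 2 = 2 ^ 1 := by norm_num
      _ ≤ 2 ^ (2 * m + 1) := Nat.pow_le_pow_right (by norm_num) (by omega)
  have he0 : e ≠ 0 := by
    intro h
    rw [h, pow_zero] at hcard
    omega
  have hdvd : Nat.card ↥F₀ ∣ 2 ^ (2 * m + 1) := by rw [hcard]; exact dvd_pow_self _ he0
  obtain ⟨d, hd, hd2⟩ := (Nat.dvd_prime_pow Nat.prime_two).1 hdvd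
  rw [hd2, ← pow_mul] at hcard
  have hde : 2 * m + 1 = d * e := Nat.pow_right_injective (le_refl 2) hcard
  obtain ⟨k, hk⟩ : ∃ k, d = 2 * k + 1 := by
    have h1 : d % 2 = 1 := by
      by_contra h
      have h0 : d % 2 = 0 := by omega
      have h3 : (d * e) % 2 = 0 := by rw [Nat.mul_mod, h0]; simp
      omega
    exact ⟨d / 2, by omega⟩
  obtain ⟨j, hj⟩ : ∃ j, e = 2 * j + 1 := by
    have h1 : e % 2 = 1 := by
      by_contra h
      have h0 : e % 2 = 0 := by omega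
      have h3 : (d * e) % 2 = 0 := by rw [Nat.mul_mod, h0]; simp
      omega
    exact ⟨e / 2, by omega⟩
  subst hk
  have hcF₀ : Fintype.card ↥F₀ = 2 ^ (2 * k + 1) := by rw [← Nat.card_eq_fintype_card, hd2]
  have hk1 : 1 ≤ k := by
    by_contra h
    have hk0 : k = 0 := by omega
    subst hk0
    have h1 := FiniteField.pow_card_sub_one_eq_one (⟨(k₁ : F), hk₁F⟩ : ↥F₀) (by
      intro h0
      exact k₁.ne_zero (congrArg Subtype.val h0))
    rw [hcF₀] at h1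
    norm_num at h1
    apply hk₁
    apply Units.ext
    exact congrArg Subtype.val h1
  have hmk : m = k + (2 * k + 1) * j := by
    rw [hj] at hde
    have h1 : 2 * m + 1 = 2 * (k + (2 * k + 1) * j) + 1 := by rw [hde]; ring
    omega
  have hkm : k < m := by
    by_contra h
    have hd' : 2 * k + 1 = 2 * m + 1 := by omega
    apply hF₀
    have hinj : Function.Injective (F₀.subtype) := Subtype.val_injective
    have hb := hinj.bijective_of_nat_card_le (by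
      rw [Nat.card_eq_fintype_card, Nat.card_eq_fintype_card, hF, hcF₀, hd'])
    rw [eq_top_iff]
    intro x _
    obtain ⟨y, rfl⟩ := hb.2 x
    exact y.2
  have hKcard : Nat.card (GaloisField 2 (2 * k + 1)) = 2 ^ (2 * k + 1) :=
    GaloisField.card 2 (2 * k + 1) (by omega)
  let _ : Fintype (GaloisField 2 (2 * k + 1)) := Fintype.ofFinite _
  have hK : Fintype.card (GaloisField 2 (2 * k + 1)) = 2 ^ (2 * k + 1) := by
    rw [← Nat.card_eq_fintype_card, hKcard]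
  let ψ : GaloisField 2 (2 * k + 1) ≃+* ↥F₀ := FiniteField.ringEquivOfCardEq (by rw [hK, hcF₀])
  let φ : GaloisField 2 (2 * k + 1) →+* F :=
    F₀.subtype.comp (ψ : GaloisField 2 (2 * k + 1) →+* ↥F₀)
  have hφ : ∀ x : ↥F₀, φ (ψ.symm x) = x := by
    intro x
    show ((ψ (ψ.symm x) : ↥F₀) : F) = x
    rw [RingEquiv.apply_symm_apply]
  have hpow : ∀ y : GaloisField 2 (2 * k + 1), y ^ (2 ^ m) = y ^ (2 ^ k) := by
    intro y
    rw [hmk, pow_add, mul_comm (2 ^ k) _, pow_mul, pow_two_pow_mul hK]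
  obtain ⟨S₀, hiso, hU, hH, hW⟩ := exists_sub hk1 hK hF φ hpow
  refine ⟨GaloisField 2 (2 * k + 1), inferInstance, ‹Fintype (GaloisField 2 (2 * k + 1))›, k,
    hk1, hkm, hK, ⟨2 * j + 1, by rw [hde, hj]⟩, S₀, hiso, ?_, ?_, hW⟩
  · intro a b ha hb
    have h := hU (ψ.symm ⟨a, ha⟩) (ψ.symm ⟨b, hb⟩)
    rw [hφ, hφ] at h
    exact h
  · intro j' hj'
    have hy : ψ.symm ⟨(j' : F), hj'⟩ ≠ 0 := by
      intro h0
      have h1 := hφ ⟨(j' : F), hj'⟩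
      rw [h0, map_zero] at h1
      exact j'.ne_zero h1.symm
    have h := hH (Units.mk0 _ hy)
    have e1 : Units.map (φ : GaloisField 2 (2 * k + 1) →* F) (Units.mk0 _ hy) = j' := by
      apply Units.ext
      rw [Units.coe_map]
      exact hφ ⟨(j' : F), hj'⟩
    rw [e1] at h
    exact h

end Sub

end Cfsg.Agent.Lib.Helper65.SzSubD
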