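import Mathlib
import Cfsg.Agent.Lib.Helper39.TLStmt
import Cfsg.Agent.S0640
import Cfsg.Agent.S0071

/-!
# S4404 piece FROB

A `{3, p}`-group `T` (`p ≥ 5`) whose elementary abelian 3-subgroups have order `≤ 9` has a
normal Sylow `p`-subgroup (S0640 + Frobenius' normal complement theorem S0071).
-/

set_option autoImplicit false

namespace Cfsg.Agent.Lib.Helper65.TLFROB

open Cfsg Cfsg.Agent.Lib.Helper39.TLStmt

universe u

/-- 3-rank at most 2 for a subgroup `Q` of `↥T` -/
theorem prank_of_rank {S : Type u} [Group S] [Finite S]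
    (hrank : ∀ B : Subgroup S, IsElementaryAbelian 3 B → Nat.card ↥B ≤ 9) (T : Subgroup S)
    (Q : Subgroup ↥T) : Cfsg.PRankLE 3 2 ↥Q := by
  intro A hA hexp
  have hB : IsElementaryAbelian 3 ((A.map Q.subtype).map T.subtype) := by
    refine ⟨inferInstance, ?_⟩
    rintro _ ⟨b, ⟨a, ha, rfl⟩, rfl⟩
    have h1 := hexp a ha
    have h2 := congrArg (fun z : ↥Q => ((z : ↥T) : S)) h1
    simpa using h2
  have hcard : Nat.card ↥((A.map Q.subtype).map T.subtype) = Nat.card ↥A := by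
    rw [Subgroup.card_map_of_injective T.subtype_injective,
      Subgroup.card_map_of_injective Q.subtype_injective]
  have h3 := hrank _ hB
  rw [hcard] at h3
  norm_num
  exact h3

theorem main : Frob.{u} := by
  intro S _ _ p hp hp2 hp3 hrank T hT
  have : Fact (Nat.Prime 3) := ⟨Nat.prime_three⟩
  have : Fact p.Prime := ⟨hp⟩
  obtain ⟨P₃⟩ : Nonempty (Sylow 3 ↥T) := inferInstance
  have hord : ∀ g : ↥T, ∀ q : ℕ, q.Prime → q ∣ orderOf g → q = 3 ∨ q = p :=
    fun g q hq hd => hT q hq (hd.trans (orderOf_dvd_natCard g))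
  have hfrob : ∀ Q : Subgroup ↥T, Q ≤ (P₃ : Subgroup ↥T) →
      ∀ g ∈ Subgroup.normalizer (Q : Set ↥T), Nat.Coprime (orderOf g) 3 →
        g ∈ Subgroup.centralizer (Q : Set ↥T) := by
    intro Q hQ g hg hcop
    obtain ⟨φ, hφ⟩ : ∃ φ : MulAut ↥Q, φ = Q.normalizerMonoidHom ⟨g, hg⟩ := ⟨_, rfl⟩
    have hφ1 : φ = 1 := by
      by_contra hne
      have hne1 : orderOf φ ≠ 1 := by rwa [Ne, orderOf_eq_one_iff]
      obtain ⟨q, hq, hqd⟩ := Nat.exists_prime_and_dvd hne1
      have hd1 : orderOf φ ∣ orderOf g := by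
        rw [hφ]
        have h1 := orderOf_map_dvd Q.normalizerMonoidHom
          (⟨g, hg⟩ : Subgroup.normalizer (Q : Set ↥T))
        rwa [Subgroup.orderOf_mk] at h1
      have hqg : q ∣ orderOf g := hqd.trans hd1
      have hqp : q = p := by
        rcases hord g q hq hqg with h | h
        · exfalso
          rw [h] at hqg
          have h1 := Nat.Coprime.eq_one_of_dvd hcop.symm hqg
          omega
        · exact h
      have hQ3 : IsPGroup 3 ↥Q := P₃.isPGroup'.to_le hQ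
      have hdvd : p ∣ Nat.card (MulAut ↥Q) := hqp ▸ hqd.trans (orderOf_dvd_natCard φ)
      have h1 := (Cfsg.Agent.S0640.result (p := 3) (by norm_num) hQ3
        (prank_of_rank hrank T Q) p hp hp3 hdvd).2
      have h2 := hp.two_le
      omega
    rw [Subgroup.mem_centralizer_iff]
    intro h hh
    have h1 : φ ⟨h, hh⟩ = ⟨h, hh⟩ := by rw [hφ1]; rfl
    rw [hφ] at h1
    have h2 : g * h * g⁻¹ = h := congrArg Subtype.val h1
    calc h * g = (g * h * g⁻¹) * g := by rw [h2]
      _ = g * h := by group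
  obtain ⟨N, hNn, hNc⟩ := (Cfsg.Agent.S0071.result P₃).2 hfrob
  have := hNn
  have hidx : N.index = Nat.card ↥(P₃ : Subgroup ↥T) := hNc.symm.index_eq_card
  have hNcard : Nat.card ↥N = (P₃ : Subgroup ↥T).index := hNc.index_eq_card.symm
  -- `N` is a `p`-group
  have hNp : IsPGroup p ↥N := by
    have hpos : Nat.card ↥N ≠ 0 := Nat.card_pos.ne'
    have huniq : ∀ {q : ℕ}, q.Prime → q ∣ Nat.card ↥N → q = p := by
      intro q hq hqd
      rcases hT q hq (hqd.trans (Subgroup.card_subgroup_dvd_card N)) with h | h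
      · exfalso
        rw [h, hNcard] at hqd
        exact P₃.not_dvd_index hqd
      · exact h
    exact IsPGroup.of_card (Nat.eq_prime_pow_of_unique_prime_dvd hpos huniq)
  obtain ⟨n₃, hn₃⟩ := IsPGroup.iff_card.mp P₃.isPGroup'
  refine ⟨N.map T.subtype, Subgroup.map_subtype_le _, hNp.map T.subtype, ?_, ?_⟩
  · rintro t ht _ ⟨n, hn, rfl⟩
    exact ⟨⟨t, ht⟩ * n * ⟨t, ht⟩⁻¹, hNn.conj_mem n hn ⟨t, ht⟩, rfl⟩
  · intro P hPT hPp y hy
    obtain ⟨k, hk⟩ := hPp ⟨y, hy⟩
    have hyk : (⟨y, hPT hy⟩ : ↥T) ^ p ^ k = 1 := by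
      apply Subtype.ext
      have h1 := congrArg Subtype.val hk
      simpa using h1
    have hcop : (N.index).Coprime (orderOf (⟨y, hPT hy⟩ : ↥T)) := by
      rw [hidx, hn₃]
      apply Nat.Coprime.coprime_dvd_right (orderOf_dvd_of_pow_eq_one hyk)
      apply Nat.Coprime.pow
      rw [Nat.coprime_primes Nat.prime_three hp]
      exact fun h => hp3 h.symm
    obtain ⟨m, hm⟩ := exists_pow_eq_self_of_coprime hcop
    have hmem : (⟨y, hPT hy⟩ : ↥T) ∈ N := by
      rw [← hm]
      exact N.pow_mem (N.pow_index_mem _) m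
    exact ⟨⟨y, hPT hy⟩, hmem, rfl⟩

end Cfsg.Agent.Lib.Helper65.TLFROB
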